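import Cfsg.Agent.Lib.TimesPSL.AffineSetup
import Cfsg.Agent.Lib.BlockB.Codegree

/-!
# No affine 2-transitive group with Singer-normalising odd stabiliser and no translations
-/

set_option autoImplicit false

namespace CfsgLib.TimesPSL

open CfsgLib.Char CfsgLib.TimesPSL.Affine

/-- No affine 2-transitive group with odd Singer-normalizing point stabilizer and no translation,
degree `2 ^ n`, `n ≥ 4`. -/
theorem no_affine_singer {A U : Type*} [Group A] [Finite A] [CommGroup U] [Finite U]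
    [MulDistribMulAction A U]
    (hU : ∀ u : U, u ^ 2 = 1) {n : ℕ} (hn : 4 ≤ n) (hcard : Nat.card U = 2 ^ n)
    (hfaith : ∀ g : A, (∀ u : U, g • u = u) → g = 1)
    (c : A → U) (hc : ∀ g h : A, c (g * h) = c g * g • c h)
    (hsurj : Function.Surjective c)
    (hodd : ∀ g : A, c g = 1 → Odd (orderOf g))
    (D : Subgroup A) (hD0 : ∀ d ∈ D, c d = 1) (hDcomm : ∀ a ∈ D, ∀ b ∈ D, a * b = b * a)
    (hDnorm : ∀ g : A, c g = 1 → ∀ d ∈ D, g * d * g⁻¹ ∈ D)
    (hDtrans : ∀ u v : U, u ≠ 1 → v ≠ 1 → ∃ d ∈ D, d • u = v) : False := by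
  classical
  have := Fintype.ofFinite A
  have : Nontrivial U := Finite.one_lt_card_iff_nontrivial.mp
    (hcard ▸ Nat.one_lt_two_pow (by omega))
  obtain ⟨M, hM⟩ := exists_singerData c hc hfaith D hD0 hDcomm hDnorm hDtrans hU hn hcard hsurj hodd
  obtain ⟨χ, hχ, hfD, hcommN⟩ := singer_character hM
  have h16 : 16 ≤ 2 ^ n :=
    le_trans (by norm_num : 16 ≤ 2 ^ 4) (Nat.pow_le_pow_right (by norm_num) hn)
  -- the kernel of `χ` is trivial
  set N : Subgroup A := BlockB.charKer (⟨χ, hχ⟩ : Cfsg.IrrCharacter A) with hN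
  have hNmem : ∀ x, x ∈ N ↔ χ x = χ 1 := fun x => Iff.rfl
  have hNn : N.Normal := BlockB.charKer_normal _
  have hND : ∀ x ∈ N, x ∈ D → x = 1 := fun x hx hd => hfD x hd ((hNmem x).mp hx)
  have hNstab : ∀ x ∈ N, c x = 1 → x = 1 := fun x hx hcx => by
    refine hND x hx (mem_of_commute hfaith D hDcomm hDtrans fun d hd => ?_)
    have h1 : x * d * x⁻¹ * d⁻¹ ∈ D :=
      D.mul_mem (hDnorm x hcx d hd) (D.inv_mem hd)
    have h2 : x * d * x⁻¹ * d⁻¹ ∈ N := by
      rw [show x * d * x⁻¹ * d⁻¹ = x * (d * x⁻¹ * d⁻¹) by group]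
      exact N.mul_mem hx (hNn.conj_mem _ (N.inv_mem hx) d)
    exact mul_inv_eq_iff_eq_mul.mp (mul_inv_eq_one.mp (hND _ h2 h1))
  have hcinj : ∀ x ∈ N, ∀ y ∈ N, c x = c y → x = y := fun x hx y hy hxy => by
    refine inv_mul_eq_one.mp (hNstab _ (N.mul_mem (N.inv_mem hx) hy) ?_)
    rw [hc, ← hxy, ← hc, inv_mul_cancel, cocycle_one c hc]
  have hcconj : ∀ d ∈ D, ∀ x : A, c (d * x * d⁻¹) = d • c x := fun d hd x => by
    rw [hc, hD0 _ (D.inv_mem hd), smul_one, mul_one, hc, hD0 d hd, one_mul]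
  have hNbot : N = ⊥ := by
    by_contra hne
    obtain ⟨x, hx, hx1⟩ := (Subgroup.bot_or_exists_ne_one N).resolve_left hne
    have hcx : c x ≠ 1 := fun h => hx1 (hNstab x hx h)
    have hbij : Function.Bijective fun y : N => c y := by
      refine ⟨fun a b h => Subtype.ext (hcinj a a.2 b b.2 h), fun u => ?_⟩
      by_cases hu : u = 1
      · exact ⟨1, by simp only [OneMemClass.coe_one, cocycle_one c hc, hu]⟩
      obtain ⟨d, hd, rfl⟩ := hDtrans (c x) u hcx hu
      exact ⟨⟨_, hNn.conj_mem x hx d⟩, hcconj d hd x⟩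
    have hN2 : IsPGroup 2 N := IsPGroup.of_card (n := n) (by rw [Nat.card_eq_of_bijective _ hbij, hcard])
    have hfix := hN2.card_modEq_card_fixedPoints U
    have h2 : 2 ∣ Nat.card (MulAction.fixedPoints N U) := by
      have h2U : 2 ∣ Nat.card U := hcard ▸ dvd_pow_self 2 (by omega)
      exact (hfix.dvd_iff dvd_rfl).mp h2U
    have : Nonempty (MulAction.fixedPoints N U) := ⟨⟨1, fun y => smul_one (y : A)⟩⟩
    have hlt : 1 < Nat.card (MulAction.fixedPoints N U) := by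
      have := Nat.card_pos (α := MulAction.fixedPoints N U)
      omega
    have := Finite.one_lt_card_iff_nontrivial.mp hlt
    obtain ⟨⟨w, hw⟩, hw1⟩ := exists_ne (⟨1, fun y => smul_one (y : A)⟩ : MulAction.fixedPoints N U)
    have hw' : w ≠ 1 := fun h => hw1 (Subtype.ext h)
    refine hx1 (hfaith x fun u => ?_)
    by_cases hu : u = 1
    · rw [hu, smul_one]
    obtain ⟨d, hd, rfl⟩ := hDtrans w u hw' hu
    have h3 : (d⁻¹ * x * d⁻¹⁻¹) • w = w := hw ⟨_, hNn.conj_mem x hx d⁻¹⟩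
    rw [inv_inv, mul_smul, mul_smul, inv_smul_eq_iff] at h3
    exact h3
  -- `D` is normal, a contradiction
  set N₀ := Subgroup.normalClosure (D : Set A) with hN₀
  have hab : ∀ x ∈ N₀, ∀ y ∈ N₀, x * y = y * x := fun x hx y hy => by
    have h1 : x * y * x⁻¹ * y⁻¹ ∈ N := (hNmem _).mpr (hcommN x hx y hy)
    rw [hNbot, Subgroup.mem_bot, mul_inv_eq_one, mul_inv_eq_iff_eq_mul] at h1
    exact h1
  have hle : N₀ ≤ D := fun x hx => mem_of_commute hfaith D hDcomm hDtrans fun d hd =>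
    hab x hx d (Subgroup.subset_normalClosure hd)
  have hDn : ∀ g : A, ∀ d ∈ D, g * d * g⁻¹ ∈ D := fun g d hd =>
    hle (Subgroup.normalClosure_normal.conj_mem d (Subgroup.subset_normalClosure hd) g)
  have hDcard := hM.card
  have : 1 < Nat.card D := by omega
  obtain ⟨d, hd, hd1⟩ := (Subgroup.bot_or_exists_ne_one D).resolve_left fun h => by
    rw [h, Subgroup.card_bot] at this
    omega
  obtain ⟨u, hu⟩ := exists_ne (1 : U)
  obtain ⟨g, rfl⟩ := hsurj u
  exact hu (mem_stab_of_conj c hc hfaith D hD0 hDcomm hDtrans hd hd1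
    (by simpa using hDn g⁻¹ d hd))

end CfsgLib.TimesPSL
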