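import Mathlib

/-!
# Numerical facts for the exclusion of affine groups with a Singer stabiliser
-/

set_option autoImplicit false

namespace CfsgLib.TimesPSL.Affine

theorem quad_lt_two_pow : ∀ n : ℕ, 7 ≤ n → 64 * n ^ 2 ≤ 27 * 2 ^ n := by
  intro n hn
  induction n, hn using Nat.le_induction with
  | base => norm_num
  | succ m hm ih =>
    have h1 : (m + 1) ^ 2 ≤ 2 * m ^ 2 := by nlinarith
    rw [pow_succ 2 m]
    nlinarith

theorem irregular_bound {n : ℕ} (hn : 6 ≤ n) : 4 * 2 ^ (n / 3 + 1) ≤ 2 ^ n + 0 := by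
  rw [show (4 : ℕ) = 2 ^ 2 from rfl, ← pow_add, add_zero]
  exact Nat.pow_le_pow_right (by norm_num) (by omega)

theorem small_dvd {n f : ℕ} (hn : 4 ≤ n) (hn6 : n ≤ 6) (hf : f ∣ n) (hodd : Odd f) :
    (n = 4 ∧ f = 1) ∨ (n = 5 ∧ f = 1) ∨ (n = 5 ∧ f = 5) ∨ (n = 6 ∧ f = 1) ∨ (n = 6 ∧ f = 3) := by
  have := Nat.le_of_dvd (by omega) hf
  interval_cases n <;> interval_cases f <;> simp_all [Nat.odd_iff]

/-- `q` is the degree, `f` the order of the field automorphisms, `K` the number of regular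
orbits, `R = K * f` the number of regular characters. -/
theorem orbit_count_bounds {n f K : ℕ} (hn : 4 ≤ n) (hf : f ∣ n) (hodd : Odd f)
    (hR : 2 ^ n ≤ K * f + 2 ^ (n / 3 + 1))
    (hsmall : n ≤ 5 → K * f + 2 = 2 ^ n) :
    3 ≤ K ∧ f + 1 ≤ K ∧ (6 ≤ n → f + 2 < K) ∧ f * f < K * f := by
  have hf1 : 1 ≤ f := Nat.pos_of_ne_zero (by rintro rfl; simp at hodd)
  have main : f + 2 < K ∨ (n = 5 ∧ f = 5 ∧ K = 6) := by
    by_cases h6 : n ≤ 6
    · rcases small_dvd hn h6 hf hodd with ⟨rfl, rfl⟩ | ⟨rfl, rfl⟩ | ⟨rfl, rfl⟩ | ⟨rfl, rfl⟩ |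
          ⟨rfl, rfl⟩
      · have := hsmall (by norm_num); norm_num at this ⊢; omega
      · have := hsmall (by norm_num); norm_num at this ⊢; omega
      · have := hsmall (by norm_num); norm_num at this ⊢; omega
      · norm_num at hR ⊢; omega
      · norm_num at hR ⊢; omega
    · left
      have h7 : 7 ≤ n := by omega
      have h1 := quad_lt_two_pow n h7
      have h2 := irregular_bound (n := n) (by omega)
      have hfn : f ≤ n := Nat.le_of_dvd (by omega) hf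
      by_contra hK
      have h3 : K * f ≤ (n + 2) * n := Nat.mul_le_mul (by omega) hfn
      have h4 : 2 ^ 7 ≤ 2 ^ n := Nat.pow_le_pow_right (by norm_num) h7
      nlinarith
  rcases main with h | ⟨rfl, rfl, rfl⟩
  · exact ⟨by omega, by omega, fun _ => h, Nat.mul_lt_mul_of_pos_right (by omega) (by omega)⟩
  · norm_num

/-- The sum of squares of the degrees of the family excludes a uniform part. -/
theorem degree_exclusion {n f K e : ℕ} (hn : 4 ≤ n) (hf : f ∣ n) (hodd : Odd f)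
    (hR : 2 ^ n ≤ K * f + 2 ^ (n / 3 + 1))
    (hsmall : n ≤ 5 → K * f + 2 = 2 ^ n)
    (hlow : 2 ^ n ≤ e + 1 + f) (hsq : K * e ^ 2 ≤ 2 ^ n * (2 ^ n - 1) * f)
    (hdvd : e ∣ 2 ^ n * (2 ^ n - 1) * f) : False := by
  have hf1 : 1 ≤ f := Nat.pos_of_ne_zero (by rintro rfl; simp at hodd)
  by_cases h6 : n ≤ 6
  · rcases small_dvd hn h6 hf hodd with ⟨rfl, rfl⟩ | ⟨rfl, rfl⟩ | ⟨rfl, rfl⟩ | ⟨rfl, rfl⟩ |
        ⟨rfl, rfl⟩
    · have := hsmall (by norm_num); norm_num at this hlow hsq; nlinarith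
    · have := hsmall (by norm_num); norm_num at this hlow hsq; nlinarith
    · have := hsmall (by norm_num); norm_num at this hlow hsq hdvd
      have hK : K = 6 := by omega
      subst hK
      have h1 : e ≤ 28 := by nlinarith
      have h0 : 26 ≤ e := by omega
      interval_cases e <;> norm_num at hdvd
    · norm_num at hR hlow hsq; nlinarith
    · norm_num at hR hlow hsq; nlinarith
  · have h7 : 7 ≤ n := by omega
    have h1 := quad_lt_two_pow n h7
    have h2 := irregular_bound (n := n) (by omega)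
    have hfn : f ≤ n := Nat.le_of_dvd (by omega) hf
    have h4 : 2 ^ 7 ≤ 2 ^ n := Nat.pow_le_pow_right (by norm_num) h7
    set q := 2 ^ n with hq
    have hsq' : K * e ^ 2 < q * q * f :=
      lt_of_le_of_lt hsq (Nat.mul_lt_mul_of_pos_right
        (Nat.mul_lt_mul_of_pos_left (by omega) (by omega)) hf1)
    have hKf : 3 * q ≤ 4 * (K * f) := by omega
    have hbig : 4 * (f + 1) ≤ q := by nlinarith
    have he : 3 * q ≤ 4 * e := by omega
    have h5 : 27 * q ^ 3 ≤ 64 * (K * f * e ^ 2) := by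
      calc 27 * q ^ 3 = (3 * q) * (3 * q) ^ 2 := by ring
        _ ≤ (4 * (K * f)) * (4 * e) ^ 2 := Nat.mul_le_mul hKf (Nat.pow_le_pow_left he 2)
        _ = 64 * (K * f * e ^ 2) := by ring
    have h6' : K * f * e ^ 2 < q ^ 2 * f ^ 2 := by
      calc K * f * e ^ 2 = f * (K * e ^ 2) := by ring
        _ < f * (q * q * f) := Nat.mul_lt_mul_of_pos_left hsq' hf1
        _ = q ^ 2 * f ^ 2 := by ring
    have h8 : 64 * (q ^ 2 * f ^ 2) ≤ 27 * q ^ 3 := by
      calc 64 * (q ^ 2 * f ^ 2) ≤ 64 * (q ^ 2 * n ^ 2) := by gcongr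
        _ = q ^ 2 * (64 * n ^ 2) := by ring
        _ ≤ q ^ 2 * (27 * q) := Nat.mul_le_mul_left _ h1
        _ = 27 * q ^ 3 := by ring
    omega

theorem mul_pow_sub_one_lt {n d g : ℕ} (hd : 0 < d) (hdn : d < n) (hg : 0 < g) (hgn : 3 * g ≤ n) :
    ¬ (2 ^ n - 1) ∣ (2 ^ d - 1) * (2 ^ g - 1) := by
  suffices h : ∀ s, 0 < s → 2 * s ≤ n → ¬ (2 ^ n - 1) ∣ (2 ^ s - 1) * (2 ^ g - 1) by
    by_cases h2 : 2 * d ≤ n
    · exact h d hd h2
    · intro hdvd
      refine h (n - d) (by omega) (by omega) ?_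
      have e1 : (2 ^ d - 1) * 2 ^ (n - d) + (2 ^ (n - d) - 1) = 2 ^ n - 1 := by
        have h1 : 1 ≤ 2 ^ d := Nat.one_le_two_pow
        have h2 : 1 ≤ 2 ^ (n - d) := Nat.one_le_two_pow
        have h3 : 2 ^ d * 2 ^ (n - d) = 2 ^ n := by rw [← pow_add]; congr 1; omega
        rw [Nat.sub_mul, one_mul, h3]
        have h4 : 2 ^ (n - d) ≤ 2 ^ n := Nat.pow_le_pow_right (by norm_num) (by omega)
        omega
      have h5 : (2 ^ n - 1) ∣ ((2 ^ d - 1) * (2 ^ g - 1)) * 2 ^ (n - d) +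
          (2 ^ (n - d) - 1) * (2 ^ g - 1) := by
        rw [show ((2 ^ d - 1) * (2 ^ g - 1)) * 2 ^ (n - d) + (2 ^ (n - d) - 1) * (2 ^ g - 1) =
          ((2 ^ d - 1) * 2 ^ (n - d) + (2 ^ (n - d) - 1)) * (2 ^ g - 1) by ring, e1]
        exact Dvd.intro _ rfl
      exact (Nat.dvd_add_right (hdvd.mul_right _)).mp h5
  intro s hs hsn hdvd
  have h1 : 2 ^ 1 ≤ 2 ^ s := Nat.pow_le_pow_right (by norm_num) hs
  have h2 : 2 ^ 1 ≤ 2 ^ g := Nat.pow_le_pow_right (by norm_num) hg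
  have hpos : 0 < (2 ^ s - 1) * (2 ^ g - 1) := Nat.mul_pos (by omega) (by omega)
  have h3 := Nat.le_of_dvd hpos hdvd
  have h4 : (2 ^ s - 1) * (2 ^ g - 1) < 2 ^ s * 2 ^ g :=
    Nat.mul_lt_mul_of_lt_of_lt (by omega) (by omega)
  have h5 : 2 ^ s * 2 ^ g ≤ 2 ^ (n - 1) := by
    rw [← pow_add]; exact Nat.pow_le_pow_right (by norm_num) (by omega)
  have h6 : 2 * 2 ^ (n - 1) = 2 ^ n := by rw [← pow_succ']; congr 1; omega
  have h7 : 1 ≤ 2 ^ (n - 1) := Nat.one_le_two_pow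
  omega

theorem sum_two_pow_sub_two (c : ℕ) :
    ∑ g ∈ Finset.Icc 1 c, (2 ^ g - 2) + 2 * c + 2 = 2 ^ (c + 1) := by
  induction c with
  | zero => simp
  | succ m ih =>
    rw [Finset.sum_Icc_succ_top (by omega), pow_succ 2 (m + 1)]
    have : 2 ^ 1 ≤ 2 ^ (m + 1) := Nat.pow_le_pow_right (by norm_num) (by omega)
    omega

end CfsgLib.TimesPSL.Affine
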