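import Cfsg.Agent.Lib.TimesPSL.AffineTwist

/-!
# The exceptional family of a TI Singer cycle
-/

set_option autoImplicit false
set_option linter.unusedSectionVars false

namespace CfsgLib.TimesPSL.Affine

open CfsgLib.Char
open scoped ComplexConjugate

universe u

attribute [-instance] MonoidHom.instPow

variable {n : ℕ} {A : Type u} [Group A] [Fintype A] {D : Subgroup A} [Fintype D]
  {M : AddSubgroup (ZMod n)}

open scoped Classical in
/-- Indicator of an orbit. -/
noncomputable def orbInd [Fintype M] (a b : D →* ℂˣ) : ℤ := if b ∈ orb M a then 1 else 0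

variable (h : SingerData D M) [NeZero n] [Fintype M] [Fintype (D →* ℂˣ)]

include h

theorem orbInd_tw (a : D →* ℂˣ) (m : M) (b : D →* ℂˣ) :
    orbInd (M := M) a (tw M m b) = orbInd (M := M) a b := by
  classical
  have hiff : tw M m b ∈ orb M a ↔ b ∈ orb M a := by
    simp only [mem_orb]
    constructor
    · rintro ⟨k, hk⟩
      exact ⟨-m + k, by
        rw [tw_add M h.card, hk, ← tw_add M h.card, neg_add_cancel, tw_zero]⟩
    · rintro ⟨k, rfl⟩
      exact ⟨m + k, tw_add M h.card m k a⟩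
  simp only [orbInd, hiff]

theorem sum_orbInd {a : D →* ℂˣ} (ha : IsRegular M a) :
    ∑ b : D →* ℂˣ, orbInd (M := M) a b = Fintype.card M := by
  classical
  simp only [orbInd, Finset.sum_boole]
  rw [Finset.filter_mem_eq_inter, Finset.univ_inter, card_orb M h.card ha]

/-- Representatives of the regular orbits. -/
theorem exists_reps {a₀ : D →* ℂˣ} (ha₀ : IsRegular M a₀) :
    ∃ (K : ℕ) (θ : Fin K → (D →* ℂˣ)) (i₀ : Fin K), θ i₀ = a₀ ∧ (∀ i, IsRegular M (θ i)) ∧
      (∀ i j, θ i ∈ orb M (θ j) → i = j) ∧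
      (∀ b, IsRegular M b → ∃ i, b ∈ orb M (θ i)) ∧
      K * Fintype.card M = Nat.card {b : D →* ℂˣ // IsRegular M b} := by
  classical
  set R := Finset.univ.filter fun b : D →* ℂˣ => IsRegular M b with hR
  set S := R.image fun b => orb M b with hS
  let e := S.equivFin
  have hmem : ∀ i : Fin S.card, ∃ b, IsRegular M b ∧ orb M b = (e.symm i).1 := fun i => by
    obtain ⟨b, hb, he⟩ := Finset.mem_image.mp (e.symm i).2
    exact ⟨b, (Finset.mem_filter.mp hb).2, he⟩
  choose rep hrep horb using hmem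
  have hself : ∀ b : D →* ℂˣ, b ∈ orb M b := fun b => (mem_orb M).mpr ⟨0, tw_zero M b⟩
  have ha₀S : orb M a₀ ∈ S :=
    Finset.mem_image.mpr ⟨a₀, Finset.mem_filter.mpr ⟨Finset.mem_univ _, ha₀⟩, rfl⟩
  set i₀ := e ⟨_, ha₀S⟩ with hi₀
  set θ := Function.update rep i₀ a₀ with hθ
  have hθorb : ∀ i, orb M (θ i) = (e.symm i).1 := fun i => by
    rcases eq_or_ne i i₀ with rfl | hne
    · rw [hθ, Function.update_self, hi₀, Equiv.symm_apply_apply]
    · rw [hθ, Function.update_of_ne hne, horb]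
  refine ⟨S.card, θ, i₀, Function.update_self _ _ _, fun i => ?_, fun i j hij => ?_, fun b hb => ?_,
    ?_⟩
  · rcases eq_or_ne i i₀ with rfl | hne
    · rw [hθ, Function.update_self]; exact ha₀
    · rw [hθ, Function.update_of_ne hne]; exact hrep i
  · have := orb_eq_of_mem M h.card hij
    rw [hθorb, hθorb] at this
    exact e.symm.injective (Subtype.ext this)
  · have hbS : orb M b ∈ S :=
      Finset.mem_image.mpr ⟨b, Finset.mem_filter.mpr ⟨Finset.mem_univ _, hb⟩, rfl⟩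
    refine ⟨e ⟨_, hbS⟩, ?_⟩
    rw [hθorb, Equiv.symm_apply_apply]
    exact hself b
  · rw [Nat.card_eq_fintype_card, Fintype.card_subtype (fun b => IsRegular M b), ← hR,
      Finset.card_eq_sum_card_image (fun b => orb M b) R, ← hS,
      Finset.sum_congr rfl (g := fun _ => Fintype.card M), Finset.sum_const, smul_eq_mul]
    intro o ho
    obtain ⟨b, hb, rfl⟩ := Finset.mem_image.mp ho
    have hb' := (Finset.mem_filter.mp hb).2
    rw [← card_orb M h.card hb']
    congr 1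
    ext c
    rw [Finset.mem_filter]
    constructor
    · rintro ⟨-, hc⟩; rw [← hc]; exact hself c
    · intro hc
      refine ⟨Finset.mem_filter.mpr ⟨Finset.mem_univ _, ?_⟩, orb_eq_of_mem M h.card hc⟩
      obtain ⟨m, rfl⟩ := (mem_orb M).mp hc
      exact isRegular_tw M h.card hb' m

/-- The exceptional family. -/
theorem exists_family {K : ℕ} (θ : Fin K → (D →* ℂˣ)) (i₀ : Fin K)
    (hθ : ∀ i, IsRegular M (θ i)) (hdist : ∀ i j, θ i ∈ orb M (θ j) → i = j) :
    ∃ (ε : ℤ) (μ : Fin K → (A → ℂ)) (b : Fin K → (D →* ℂˣ) → ℕ),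
      (ε = 1 ∨ ε = -1) ∧ (∀ i, Cfsg.IsIrrCharacter A (μ i)) ∧ Function.Injective μ ∧
      (∀ i a, wt D (μ i) a = b i a) ∧
      (∀ i, μ i 1 = μ i₀ 1) ∧
      (∀ i a, (b i a : ℤ) - b i₀ a = ε * (orbInd (M := M) (θ i) a - orbInd (M := M) (θ i₀) a)) ∧
      (∀ i, i ≠ i₀ → (b i₀ (θ i) : ℤ) - b i₀ (θ i₀) = -ε) ∧
      (∀ ψ, Cfsg.IsIrrCharacter A ψ → (∀ i, ψ ≠ μ i) → ∀ i, wt D ψ (θ i) = wt D ψ (θ i₀)) := by
  classical
  set τ : Fin K → (A → ℂ) := fun i => Cfsg.indFun D (linSub (θ i) (θ i₀)) with hτ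
  have hc : ∀ i j, cnt M (θ i) (θ j) = if i = j then 1 else 0 := fun i j => by
    rw [cnt_regular h.card (hθ i)]
    by_cases hij : i = j
    · subst hij; rw [if_pos ((mem_orb M).mpr ⟨0, tw_zero M _⟩), if_pos rfl]
    · rw [if_neg fun hm => hij (hdist j i hm).symm, if_neg hij]
  obtain ⟨εc, hεc, μ, hμ, hμinj, hμτ⟩ := coherent_family K i₀ τ
    (by simp only [hτ, linSub, sub_self]; exact indFun_zero D)
    (fun i => isGeneralized_linSub _ _)
    (fun i => by simp only [hτ, indFun_apply_one, linSub_one, mul_zero])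
    (fun i j hi hj => by
      simp only [hτ, h.gram, hc, if_neg hi.symm, if_neg hj]
      by_cases hij : i = j
      · subst hij; simp
      · simp [hij, Ne.symm hij])
  obtain ⟨ε, hε, rfl⟩ : ∃ ε : ℤ, (ε = 1 ∨ ε = -1) ∧ εc = ε := by
    rcases hεc with e | e
    · exact ⟨1, Or.inl rfl, by rw [e]; simp⟩
    · exact ⟨-1, Or.inr rfl, by rw [e]; simp⟩
  have hε2 : (ε : ℂ) * ε = 1 := by rcases hε with rfl | rfl <;> norm_num
  choose b hb using fun i a => wt_nat (D := D) (irr_isCharacter (hμ i)) a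
  have hdiff : ∀ i, μ i - μ i₀ = (ε : ℂ) • τ i := fun i => by
    rw [hμτ i, smul_smul, hε2, one_smul]
  have hpair : ∀ ψ : A → ℂ, Cfsg.IsIrrCharacter A ψ → ∀ i,
      conj (wt D ψ (θ i) - wt D ψ (θ i₀)) =
        (ε : ℂ) * ((if μ i = ψ then 1 else 0) - if μ i₀ = ψ then 1 else 0) := fun ψ hψ i => by
    rw [← inner_ind_linSub (irr_isClassFunction hψ) (θ i) (θ i₀)]
    change Cfsg.classInner (τ i) ψ = _
    rw [hμτ i, classInner_smul_left, classInner_sub_left, irr_classInner (hμ i) hψ,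
      irr_classInner (hμ i₀) hψ]
  refine ⟨ε, μ, b, hε, hμ, hμinj, hb, fun i => ?_, fun i a => ?_, fun i hi => ?_,
    fun ψ hψ hne i => ?_⟩
  · have h1 := congr_fun (hdiff i) 1
    simp only [Pi.sub_apply, Pi.smul_apply, hτ, indFun_apply_one, linSub_one, mul_zero,
      smul_zero] at h1
    exact sub_eq_zero.mp h1
  · have h1 : wt D (μ i - μ i₀) a = wt D ((ε : ℂ) • τ i) a := by rw [hdiff i]
    have h2 : ∀ j, (cnt M (θ j) a : ℤ) = orbInd (M := M) (θ j) a := fun j => by
      rw [cnt_regular h.card (hθ j), orbInd]; split_ifs <;> rfl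
    rw [← h2, ← h2]
    have h3 := h.res_linSub (θ i) (θ i₀) a
    simp only [wt] at h1 h3 hb
    have e1 : (fun d : D => (μ i - μ i₀) d) = (fun d : D => μ i d) - fun d : D => μ i₀ d := rfl
    have e2 : (fun d : D => ((ε : ℂ) • τ i) d) = (ε : ℂ) • fun d : D => τ i d := rfl
    rw [e1, e2, classInner_sub_left, classInner_smul_left, hb, hb, h3] at h1
    exact_mod_cast h1
  · have h1 := hpair (μ i₀) (hμ i₀) i
    rw [if_neg fun e => hi (hμinj e), if_pos rfl, hb, hb, map_sub, map_natCast, map_natCast] at h1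
    have h2 : ((((b i₀ (θ i) : ℤ) - b i₀ (θ i₀)) : ℤ) : ℂ) = ((-ε : ℤ) : ℂ) := by
      push_cast; rw [h1]; ring
    exact_mod_cast h2
  · have h1 := hpair ψ hψ i
    rw [if_neg (hne i).symm, if_neg (hne i₀).symm, sub_self, mul_zero] at h1
    exact sub_eq_zero.mp ((map_eq_zero _).mp h1)

end CfsgLib.TimesPSL.Affine
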