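import Mathlib

/-!
# An abelian group acting transitively on the nonidentity elements: the field of endomorphisms
-/

set_option autoImplicit false
set_option linter.unusedSectionVars false
set_option linter.style.haveILetI false

namespace CfsgLib.TimesPSL.Affine

variable {A U : Type*} [Group A] [Finite A] [CommGroup U] [Finite U] [MulDistribMulAction A U]

/-- The action by additive endomorphisms. -/
def actEnd : A →* AddMonoid.End (Additive U) where
  toFun g := MonoidHom.toAdditive (MulDistribMulAction.toMonoidHom U g)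
  map_one' := by
    refine DFunLike.ext _ _ fun v => ?_
    exact congr_arg Additive.ofMul (one_smul A v.toMul)
  map_mul' g h := by
    refine DFunLike.ext _ _ fun v => ?_
    exact congr_arg Additive.ofMul (mul_smul g h v.toMul)

theorem actEnd_apply (g : A) (v : Additive U) : actEnd g v = Additive.ofMul (g • v.toMul) := rfl

theorem actEnd_injective (hfaith : ∀ g : A, (∀ u : U, g • u = u) → g = 1) :
    Function.Injective (actEnd (A := A) (U := U)) := fun g h hgh => by
  refine inv_mul_eq_one.mp (hfaith (g⁻¹ * h) fun u => ?_)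
  have h1 : g • u = h • u := congr_arg Additive.toMul (DFunLike.congr_fun hgh (Additive.ofMul u))
  rw [mul_smul, ← h1, inv_smul_smul]

theorem conj_comm_of_comm {R : Type*} [Monoid R] {g g' e e' φ : R} (hg : g * g' = 1)
    (he : e' = g' * e * g) (hc : e' * φ = φ * e') :
    e * (g * φ * g') = g * φ * g' * e := by
  calc e * (g * φ * g') = (g * g') * e * g * φ * g' := by rw [hg, one_mul]; simp only [mul_assoc]
    _ = g * (e' * φ) * g' := by rw [he]; simp only [mul_assoc]
    _ = g * φ * g' * e * (g * g') := by rw [hc, he]; simp only [mul_assoc]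
    _ = g * φ * g' * e := by rw [hg, mul_one]

theorem conj_mul_of_inv {R : Type*} [Monoid R] {g g' : R} (h : g' * g = 1) (φ ψ : R) :
    g * (φ * ψ) * g' = g * φ * g' * (g * ψ * g') := by
  calc g * (φ * ψ) * g' = g * φ * (g' * g) * ψ * g' := by rw [h, mul_one]; simp only [mul_assoc]
    _ = g * φ * g' * (g * ψ * g') := by simp only [mul_assoc]

/-- Conjugation by a unit as an automorphism of an invariant subring. -/
def conjRingEquiv {R : Type*} [Ring R] (S : Subring R) (g g' : R) (h1 : g * g' = 1)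
    (h2 : g' * g = 1) (hS : ∀ x : S, g * x * g' ∈ S) (hS' : ∀ x : S, g' * x * g ∈ S) :
    S ≃+* S where
  toFun x := ⟨_, hS x⟩
  invFun x := ⟨_, hS' x⟩
  left_inv x := Subtype.ext (by
    change g' * (g * x * g') * g = x
    rw [← mul_assoc, ← mul_assoc, h2, one_mul, mul_assoc, h2, mul_one])
  right_inv x := Subtype.ext (by
    change g * (g' * x * g) * g' = x
    rw [← mul_assoc, ← mul_assoc, h1, one_mul, mul_assoc, h1, mul_one])
  map_mul' x y := Subtype.ext (conj_mul_of_inv h2 _ _)
  map_add' x y := Subtype.ext (by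
    change g * ((x : R) + y) * g' = g * x * g' + g * y * g'
    rw [mul_add, add_mul])

/-- `D` is cyclic and its normaliser acts on it by Frobenius powers. -/
theorem exists_frobenius (hU : ∀ u : U, u ^ 2 = 1) {n : ℕ} (hn : 1 ≤ n) (hcard : Nat.card U = 2 ^ n)
    (hfaith : ∀ g : A, (∀ u : U, g • u = u) → g = 1) (D : Subgroup A)
    (hDcomm : ∀ a ∈ D, ∀ b ∈ D, a * b = b * a)
    (hDtrans : ∀ u v : U, u ≠ 1 → v ≠ 1 → ∃ d ∈ D, d • u = v) :
    IsCyclic D ∧ ∀ h : A, (∀ d ∈ D, h * d * h⁻¹ ∈ D) → (∀ d ∈ D, h⁻¹ * d * h ∈ D) →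
      ∃ i < n, ∀ d ∈ D, h * d * h⁻¹ = d ^ 2 ^ i := by
  classical
  let S := Subring.centralizer ((actEnd (A := A) (U := U)) '' (D : Set A))
  obtain ⟨u₀, hu₀⟩ : ∃ u : U, u ≠ 1 := by
    have : Nontrivial U := Finite.one_lt_card_iff_nontrivial.mp
      (hcard ▸ Nat.one_lt_two_pow (by omega))
    exact exists_ne 1
  set v₀ : Additive U := Additive.ofMul u₀ with hv₀
  have hmem : ∀ d ∈ D, actEnd d ∈ S := fun d hd => by
    rw [Subring.mem_centralizer_iff]
    rintro _ ⟨e, he, rfl⟩
    rw [← map_mul, ← map_mul, hDcomm e he d hd]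
  have hcom : ∀ φ ∈ S, ∀ d ∈ D, ∀ v, φ (actEnd d v) = actEnd d (φ v) := fun φ hφ d hd v =>
    (DFunLike.congr_fun (Subring.mem_centralizer_iff.mp hφ _ ⟨d, hd, rfl⟩) v).symm
  have horbit : ∀ v : Additive U, v = 0 ∨ ∃ d ∈ D, actEnd d v₀ = v := fun v => by
    by_cases hv : v = 0
    · exact Or.inl hv
    · obtain ⟨d, hd, e⟩ := hDtrans u₀ v.toMul hu₀ fun h1 => hv (by
        rw [← ofMul_toMul v, h1]; rfl)
      exact Or.inr ⟨d, hd, congr_arg Additive.ofMul e⟩
  have hinj : Function.Injective fun φ : S => (φ : AddMonoid.End (Additive U)) v₀ := by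
    intro φ ψ hφψ
    refine Subtype.ext (DFunLike.ext _ _ fun v => ?_)
    rcases horbit v with rfl | ⟨d, hd, rfl⟩
    · rw [map_zero, map_zero]
    · rw [hcom _ φ.2 d hd, hcom _ ψ.2 d hd]
      exact congr_arg _ hφψ
  have hcase : ∀ φ : S, φ = 0 ∨ ∃ d, ∃ hd : d ∈ D, φ = ⟨actEnd d, hmem d hd⟩ := fun φ => by
    rcases horbit ((φ : AddMonoid.End (Additive U)) v₀) with h0 | ⟨d, hd, e⟩
    · exact Or.inl (hinj h0)
    · exact Or.inr ⟨d, hd, hinj e.symm⟩
  have hsurj : Function.Surjective fun φ : S => (φ : AddMonoid.End (Additive U)) v₀ := fun v => by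
    rcases horbit v with rfl | ⟨d, hd, rfl⟩
    · exact ⟨0, rfl⟩
    · exact ⟨⟨_, hmem d hd⟩, rfl⟩
  have hScard : Nat.card S = 2 ^ n := by
    rw [Nat.card_eq_of_bijective _ ⟨hinj, hsurj⟩, ← hcard]
    exact Nat.card_congr Additive.toMul
  have : Finite S := Nat.finite_of_card_ne_zero (by rw [hScard]; exact (Nat.two_pow_pos n).ne')
  have : Nontrivial S := Finite.one_lt_card_iff_nontrivial.mp
    (hScard ▸ Nat.one_lt_two_pow (by omega))
  have hmul : ∀ φ ψ : S, φ * ψ = ψ * φ := fun φ ψ => by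
    rcases hcase φ with rfl | ⟨d, hd, rfl⟩
    · rw [zero_mul, mul_zero]
    rcases hcase ψ with rfl | ⟨e, he, rfl⟩
    · rw [zero_mul, mul_zero]
    refine Subtype.ext ?_
    change actEnd d * actEnd e = actEnd e * actEnd d
    rw [← map_mul, ← map_mul, hDcomm d hd e he]
  have : NoZeroDivisors S := ⟨fun {φ ψ} h0 => by
    rcases hcase φ with rfl | ⟨d, hd, rfl⟩
    · exact Or.inl rfl
    rcases hcase ψ with rfl | ⟨e, he, rfl⟩
    · exact Or.inr rfl
    exfalso
    have h1 : actEnd (d * e) v₀ = 0 := by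
      rw [map_mul]
      exact DFunLike.congr_fun (congr_arg Subtype.val h0) v₀
    have h2 : (d * e) • u₀ = 1 := congr_arg Additive.toMul h1
    exact hu₀ (by rwa [smul_eq_iff_eq_inv_smul, smul_one] at h2)⟩
  letI : CommRing S := { (inferInstance : Ring S) with mul_comm := hmul }
  have : IsDomain S := NoZeroDivisors.to_isDomain S
  letI : Field S := (Finite.isField_of_domain S).toField
  let f : D →* S :=
    { toFun := fun d => ⟨actEnd (d : A), hmem d d.2⟩
      map_one' := Subtype.ext (map_one _)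
      map_mul' := fun a b => Subtype.ext (map_mul _ (a : A) b) }
  have hf : Function.Injective f := fun a b hab =>
    Subtype.ext (actEnd_injective hfaith (congr_arg Subtype.val hab))
  refine ⟨isCyclic_of_injective_ringHom f hf, fun h hh hh' => ?_⟩
  have hchar : CharP S 2 := by
    refine CharTwo.of_one_ne_zero_of_two_eq_zero one_ne_zero ?_
    rw [← one_add_one_eq_two]
    refine Subtype.ext (DFunLike.ext _ _ fun v => ?_)
    change v + v = 0
    have := hU v.toMul
    rw [pow_two] at this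
    exact congr_arg Additive.ofMul this
  letI : Algebra (ZMod 2) S := ZMod.algebra S 2
  have hfin : Module.finrank (ZMod 2) S = n := by
    have h1 := Module.natCard_eq_pow_finrank (K := ZMod 2) (V := S)
    rw [hScard, Nat.card_zmod] at h1
    exact Nat.pow_right_injective le_rfl h1.symm
  -- conjugation by `h`
  have hconj : ∀ g : A, (∀ d ∈ D, g⁻¹ * d * g ∈ D) → ∀ φ : S,
      actEnd g * (φ : AddMonoid.End (Additive U)) * actEnd g⁻¹ ∈ S := by
    intro g hg φ
    rw [Subring.mem_centralizer_iff]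
    rintro _ ⟨e, he, rfl⟩
    have h1 := Subring.mem_centralizer_iff.mp φ.2 _ ⟨g⁻¹ * e * g, hg e he, rfl⟩
    exact conj_comm_of_comm (by rw [← map_mul, mul_inv_cancel, map_one])
      (by rw [← map_mul, ← map_mul]) h1
  let σ : S ≃+* S := conjRingEquiv S (actEnd h) (actEnd h⁻¹)
    (by rw [← map_mul, mul_inv_cancel, map_one]) (by rw [← map_mul, inv_mul_cancel, map_one])
    (hconj h hh')
    (fun φ => by simpa using hconj h⁻¹ (fun d hd => by simpa using hh d hd) φ)
  let σ' : S ≃ₐ[ZMod 2] S := AlgEquiv.ofRingEquiv (f := σ) fun x =>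
    DFunLike.congr_fun (RingHom.ext_zmod ((σ : S →+* S).comp (algebraMap (ZMod 2) S))
      (algebraMap (ZMod 2) S)) x
  obtain ⟨i, hi⟩ := (FiniteField.bijective_frobeniusAlgEquivOfAlgebraic_pow (ZMod 2) S).2 σ'
  refine ⟨i.1, hfin ▸ i.2, fun d hd => actEnd_injective hfaith ?_⟩
  have h1 : σ (f ⟨d, hd⟩) = f ⟨d, hd⟩ ^ 2 ^ i.1 := by
    change σ' (f ⟨d, hd⟩) = _
    rw [← hi, AlgEquiv.coe_pow, FiniteField.coe_frobeniusAlgEquivOfAlgebraic_iterate, ZMod.card]
  have h2 := congr_arg Subtype.val h1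
  rw [← map_pow] at h2
  rw [map_mul, map_mul]
  exact h2

end CfsgLib.TimesPSL.Affine
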