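import Cfsg.Agent.Lib.TimesPSL.AffineWeights

/-!
# A faithful-on-`D` character of small degree, linear on the normal closure of `D`
-/

set_option autoImplicit false
set_option linter.unusedSectionVars false

namespace CfsgLib.TimesPSL.Affine

open CfsgLib.Char
open scoped ComplexConjugate

universe u

attribute [-instance] MonoidHom.instPow

variable {n : ℕ} {A : Type u} [Group A] [Fintype A]

/-- A character of norm at least its degree whose weights are distinct is a sum of linear ones. -/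
theorem linear_of_norm_ge {G : Type u} [Group G] [Fintype G] (E : Subgroup G) [Fintype E]
    (hcomm : ∀ x y : E, x * y = y * x) {χ : G → ℂ} (hχ : Cfsg.IsCharacter G χ) {f : ℕ}
    (h1 : χ 1 = f) (hw : ∀ a : E →* ℂˣ, ∃ k : ℕ, k ≤ 1 ∧ wt E χ a = k)
    (hnorm : ∃ N : ℕ, Cfsg.classInner χ χ = N ∧ f ≤ N) (x y : G) :
    χ (x * y * x⁻¹ * y⁻¹) = χ 1 := by
  classical
  have := Fintype.ofFinite (Cfsg.IrrCharacter G)
  have := Fintype.ofFinite (E →* ℂˣ)
  have hcl := isCharacter_isClassFunction hχ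
  choose c hc using fun φ : Cfsg.IrrCharacter G =>
    classInner_isCharacter_nat hχ (irr_isCharacter φ.2)
  choose d hd hd1 using fun φ : Cfsg.IrrCharacter G => irr_apply_one_pos φ.2
  have hexp : ∀ z, χ z = ∑ φ : Cfsg.IrrCharacter G, (c φ : ℂ) * (φ : G → ℂ) z := fun z => by
    rw [classFunction_apply_eq_sum hcl z]
    exact Finset.sum_congr rfl fun φ _ => by rw [hc]
  have hdeg : ∑ φ, c φ * d φ = f := by
    have h2 := hexp 1
    simp only [hd1, h1] at h2
    exact_mod_cast h2.symm
  obtain ⟨N, hN, hfN⟩ := hnorm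
  have hsq : ∑ φ, c φ * c φ = N := by
    rw [classInner_eq_sum_mul hcl χ] at hN
    simp only [hc, map_natCast] at hN
    exact_mod_cast hN
  have hc1 : ∀ φ, c φ ≤ 1 := fun φ => by
    obtain ⟨a, ha⟩ := exists_lin_weight hcomm (φ := fun e : E => (φ : G → ℂ) e) (by
      simpa using irr_apply_one_ne_zero φ.2)
    obtain ⟨k, hk, hka⟩ := hw a
    choose r hr using fun ψ : Cfsg.IrrCharacter G =>
      wt_nat (D := E) (irr_isCharacter ψ.2) a
    have hka' : wt E χ a = ∑ ψ : Cfsg.IrrCharacter G, (c ψ : ℂ) * wt E (ψ : G → ℂ) a := by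
      rw [wt, show (fun e : E => χ e) = ∑ ψ : Cfsg.IrrCharacter G, (c ψ : ℂ) • fun e : E =>
        (ψ : G → ℂ) e by ext e; simp [hexp], classInner_sum_left]
      exact Finset.sum_congr rfl fun ψ _ => by rw [classInner_smul_left]; rfl
    simp only [hka, hr] at hka'
    have hsum : k = ∑ ψ, c ψ * r ψ := by exact_mod_cast hka'
    have hle : c φ * r φ ≤ k := hsum ▸ Finset.single_le_sum (f := fun ψ => c ψ * r ψ)
      (fun i _ => Nat.zero_le _) (Finset.mem_univ φ)
    have hr0 : r φ ≠ 0 := fun h0 => ha (by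
      have := hr φ
      rw [h0, Nat.cast_zero] at this
      exact this)
    calc c φ ≤ c φ * r φ := Nat.le_mul_of_pos_right _ (Nat.pos_of_ne_zero hr0)
      _ ≤ k := hle
      _ ≤ 1 := hk
  have hall : ∀ φ, c φ * d φ = c φ := by
    have hle : ∀ φ, c φ * c φ ≤ c φ * d φ := fun φ =>
      Nat.mul_le_mul_left _ ((hc1 φ).trans (hd φ))
    have heq := (Finset.sum_eq_sum_iff_of_le (s := Finset.univ) fun φ _ => hle φ).mp
      (le_antisymm (Finset.sum_le_sum fun φ _ => hle φ) (by omega))
    intro φ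
    rw [← heq φ (Finset.mem_univ φ)]
    rcases Nat.le_one_iff_eq_zero_or_eq_one.mp (hc1 φ) with h0 | h0 <;> simp [h0]
  rw [hexp, hexp 1]
  refine Finset.sum_congr rfl fun φ _ => ?_
  rcases Nat.eq_zero_or_pos (c φ) with h0 | h0
  · simp [h0]
  · have h2 : d φ = 1 := Nat.eq_of_mul_eq_mul_left h0 (by rw [hall, mul_one])
    obtain ⟨l, hl⟩ := exists_hom_of_degree_one (irr_isCharacter φ.2) (by simp [hd1, h2])
    have hval : ∀ z, (φ : G → ℂ) z = (l z : ℂ) := fun z => by rw [hl]
    rw [hval, hval]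
    simp only [map_mul, map_inv, map_one]
    rw [mul_comm (l x) (l y), mul_inv_cancel_right, mul_inv_cancel]

theorem singer_character {D : Subgroup A} {M : AddSubgroup (ZMod n)} (h : SingerData D M) :
    ∃ χ : A → ℂ, Cfsg.IsIrrCharacter A χ ∧ (∀ d ∈ D, χ d = χ 1 → d = 1) ∧
      ∀ x ∈ Subgroup.normalClosure (D : Set A), ∀ y ∈ Subgroup.normalClosure (D : Set A),
        χ (x * y * x⁻¹ * y⁻¹) = χ 1 := by
  classical
  have := h.neZero
  have := Fintype.ofFinite M
  have := Fintype.ofFinite D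
  obtain ⟨a₀, hord, hfaith, hcyc⟩ := exists_dual_generator (D := D) h.cyc
  have : Finite (D →* ℂˣ) := by
    refine Nat.finite_of_card_ne_zero ?_
    rw [natCard_linear]
    exact Subgroup.index_ne_zero_of_finite
  have := Fintype.ofFinite (D →* ℂˣ)
  rw [h.card] at hord
  have hn3 : 3 ≤ n := le_trans (by norm_num) h.hn
  have ha₀ := isRegular_generator M h.card hn3 h.odd hord
  obtain ⟨⟨χ, hχ, hχ1, hwt⟩, hsmall⟩ := singer_weights h ha₀ hcyc
  have hsumorb : ∀ d : D, χ d = ∑ m : M, (tw M m a₀ d : ℂ) := fun d => by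
    rw [← sum_wt h.comm χ d]
    simp only [hwt, orbInd, Int.cast_ite, Int.cast_one, Int.cast_zero, ite_mul, one_mul, zero_mul,
      Finset.sum_ite_mem, Finset.univ_inter]
    rw [orb, Finset.sum_image fun x _ y _ e => tw_inj M h.card ha₀ e]
  refine ⟨χ, hχ, fun d hd heq => ?_, fun x hx y hy => ?_⟩
  · -- faithful on `D`
    have h1 : ∑ m : M, ((tw M m a₀ ⟨d, hd⟩ : ℂ).re) = ∑ _m : M, (1 : ℝ) := by
      have h2 := congr_arg Complex.re ((hsumorb ⟨d, hd⟩).symm.trans (heq.trans hχ1))
      rw [Complex.re_sum, Complex.natCast_re] at h2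
      rw [h2]
      simp
    have h2 := (Finset.sum_eq_sum_iff_of_le (s := Finset.univ) (fun m _ => by
      rw [← lin_norm (tw M m a₀) ⟨d, hd⟩]
      exact Complex.re_le_norm _)).mp h1 0 (Finset.mem_univ _)
    rw [tw_zero] at h2
    have h3 : (a₀ ⟨d, hd⟩ : ℂ) = 1 := by
      refine Complex.ext h2 ?_
      have h4 : Complex.normSq (a₀ ⟨d, hd⟩ : ℂ) = 1 := by
        rw [Complex.normSq_eq_norm_sq, lin_norm, one_pow]
      rw [Complex.normSq_apply, h2] at h4
      simpa using (mul_self_eq_zero.mp (by linarith : ((a₀ ⟨d, hd⟩ : ℂ)).im * (a₀ ⟨d, hd⟩ : ℂ).im = 0))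
    exact congr_arg Subtype.val (hfaith ⟨d, hd⟩ (Units.ext h3))
  · set N₀ := Subgroup.normalClosure (D : Set A) with hN₀
    have hDN : D ≤ N₀ := Subgroup.subset_normalClosure
    set E := D.subgroupOf N₀ with hE
    have := Fintype.ofFinite N₀
    have := Fintype.ofFinite E
    -- the square of `χ`
    set Φ : A → ℂ := fun g => χ g * conj (χ g) with hΦdef
    have hΦ : Cfsg.IsCharacter A Φ :=
      isCharacter_mul (irr_isCharacter hχ) (isCharacter_conj (irr_isCharacter hχ))
    have hΦcl := isCharacter_isClassFunction hΦ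
    have := Fintype.ofFinite (Cfsg.IrrCharacter A)
    choose mm hmm using fun ψ : Cfsg.IrrCharacter A =>
      classInner_isCharacter_nat hΦ (irr_isCharacter ψ.2)
    choose dd hdd using fun ψ : Cfsg.IrrCharacter A => char_apply_one_eq_nat (irr_isCharacter ψ.2)
    choose ww hww using fun (ψ : Cfsg.IrrCharacter A) (a : D →* ℂˣ) =>
      wt_nat (D := D) (irr_isCharacter ψ.2) a
    set f := Fintype.card M with hf
    have hexp : ∀ g, Φ g = ∑ ψ : Cfsg.IrrCharacter A, (mm ψ : ℂ) * (ψ : A → ℂ) g := fun g => by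
      rw [classFunction_apply_eq_sum hΦcl g]
      exact Finset.sum_congr rfl fun ψ _ => by rw [hmm]
    have hdsum : ∑ ψ, mm ψ * dd ψ = f * f := by
      have h1 := hexp 1
      simp only [hΦdef, hχ1, hdd, map_natCast] at h1
      exact_mod_cast h1.symm
    have hΦwt : ∀ a, (∑ ψ : Cfsg.IrrCharacter A, (mm ψ : ℂ) * (ww ψ a : ℂ)) = wt D Φ a := by
      intro a
      rw [wt, show (fun d : D => Φ d) = ∑ ψ : Cfsg.IrrCharacter A, (mm ψ : ℂ) • fun d : D =>
        (ψ : A → ℂ) d by ext d; simp [hexp], classInner_sum_left]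
      exact Finset.sum_congr rfl fun ψ _ => by rw [classInner_smul_left, ← hww]; rfl
    have hΦD : ∀ a, wt D Φ a = (Nat.card {p : M × M // tw M p.1 a₀ * (tw M p.2 a₀)⁻¹ = a} : ℂ) := by
      intro a
      have e1 : (fun d : D => Φ d) =
          ∑ p : M × M, fun d : D => ((tw M p.1 a₀ * (tw M p.2 a₀)⁻¹) d : ℂ) := by
        funext d
        rw [Finset.sum_apply]
        simp only [hΦdef, hsumorb, map_sum, Finset.sum_mul_sum, Fintype.sum_prod_type]
        refine Finset.sum_congr rfl fun i _ => Finset.sum_congr rfl fun j _ => ?_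
        rw [conj_linear_apply, MonoidHom.mul_apply, Units.val_mul]
      rw [wt, e1, classInner_sum_left]
      simp only [lin_inner, Finset.sum_boole, Nat.card_eq_fintype_card, Fintype.card_subtype]
    have hΦ1 : wt D Φ 1 = (f : ℂ) := by
      rw [hΦD, hf, ← Nat.card_eq_fintype_card]
      congr 1
      exact Nat.card_congr
        { toFun := fun p => p.1.1
          invFun := fun m => ⟨(m, m), mul_inv_cancel (G := D →* ℂˣ) (tw M m a₀)⟩
          left_inv := fun p => by
            obtain ⟨⟨i, j⟩, hp⟩ := p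
            have : i = j := tw_inj M h.card ha₀ (mul_inv_eq_one.mp hp)
            subst this; rfl
          right_inv := fun m => rfl }
    have hΦirr : ∀ a, ¬ IsRegular M a → a ≠ 1 → wt D Φ a = 0 := fun a ha ha1 => by
      rw [hΦD, Nat.cast_eq_zero, Nat.card_eq_zero]
      refine Or.inl ⟨fun p => ?_⟩
      obtain ⟨⟨i, j⟩, hp⟩ := p
      by_cases hij : i = j
      · subst hij; exact ha1 (by rw [← hp]; exact mul_inv_cancel (G := D →* ℂˣ) _)
      · exact ha (hp ▸ regular_div_of_generator M h.card h.odd hord hij)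
    have htriv : ∀ ψ : Cfsg.IrrCharacter A, mm ψ ≠ 0 → ww ψ 1 ≠ 0 → ∀ a, a ≠ 1 → ww ψ a = 0 := by
      intro ψ hm h1 a ha
      have hd : dd ψ ≤ f * f := by
        refine le_trans (Nat.le_mul_of_pos_left _ (Nat.pos_of_ne_zero hm)) ?_
        rw [← hdsum]
        exact Finset.single_le_sum (f := fun ψ => mm ψ * dd ψ) (fun i _ => Nat.zero_le _)
          (Finset.mem_univ ψ)
      by_cases hreg : IsRegular M a
      · rcases hsmall ψ ψ.2 (dd ψ) (hdd ψ) hd with h2 | h2
        · rw [hww] at h2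
          exact absurd (by exact_mod_cast h2) h1
        · have := h2 a hreg
          rw [hww] at this
          exact_mod_cast this
      · have h2 := hΦwt a
        rw [hΦirr a hreg ha] at h2
        have h3 : ∑ ψ : Cfsg.IrrCharacter A, mm ψ * ww ψ a = 0 := by exact_mod_cast h2
        have := Finset.sum_eq_zero_iff.mp h3 ψ (Finset.mem_univ _)
        exact (Nat.mul_eq_zero.mp this).resolve_left hm
    have hker : ∀ ψ : Cfsg.IrrCharacter A, mm ψ ≠ 0 → ww ψ 1 ≠ 0 →
        ∀ z ∈ N₀, (ψ : A → ℂ) z = dd ψ ∧ ww ψ 1 = dd ψ := by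
      intro ψ hm h1 z hz
      have hd : ∀ d : D, (ψ : A → ℂ) d = ww ψ 1 := fun d => by
        rw [← sum_wt h.comm (ψ : A → ℂ) d, Finset.sum_eq_single 1 (fun a _ ha => by
          rw [hww, htriv ψ hm h1 a ha]; simp) (fun hh => absurd (Finset.mem_univ _) hh), hww]
        simp
      have hwd : ww ψ 1 = dd ψ := by
        have := hd 1
        rw [OneMemClass.coe_one, hdd] at this
        exact_mod_cast this.symm
      obtain ⟨k, ρ, hρ, hρχ⟩ := ψ.2
      have hle : N₀ ≤ (MonoidHom.ker ρ : Subgroup A) := by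
        refine Subgroup.normalClosure_le_normal fun d hd' => ?_
        rw [SetLike.mem_coe, mem_ker_iff_char, hρχ, hd ⟨d, hd'⟩, hwd, hdd]
      refine ⟨?_, hwd⟩
      rw [← hdd, ← hρχ]
      exact (mem_ker_iff_char ρ z).mp (hle hz)
    -- the norm on the normal closure
    have hχN : Cfsg.IsCharacter N₀ (fun z : N₀ => χ z) := isCharacter_restrict (irr_isCharacter hχ) N₀
    choose nn hnn using fun ψ : Cfsg.IrrCharacter A =>
      classInner_isCharacter_nat (isCharacter_restrict (irr_isCharacter ψ.2) N₀) isCharacter_one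
    have hnorm : Cfsg.classInner (fun z : N₀ => χ z) (fun z : N₀ => χ z) =
        ∑ ψ : Cfsg.IrrCharacter A, (mm ψ : ℂ) * nn ψ := by
      have e : ∀ z : N₀, χ z * conj (χ z) =
          ∑ ψ : Cfsg.IrrCharacter A, (mm ψ : ℂ) * (ψ : A → ℂ) z := fun z => hexp z
      simp only [classInner_def, e, ← hnn, map_one, mul_one, Finset.mul_sum]
      rw [Finset.sum_comm]
      exact Finset.sum_congr rfl fun ψ _ => Finset.sum_congr rfl fun z _ => by ring
    have hN : f ≤ ∑ ψ : Cfsg.IrrCharacter A, mm ψ * nn ψ := by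
      have h1 := hΦwt 1
      rw [hΦ1] at h1
      have h2 : ∑ ψ : Cfsg.IrrCharacter A, mm ψ * ww ψ 1 = f := by exact_mod_cast h1
      rw [← h2]
      refine Finset.sum_le_sum fun ψ _ => ?_
      by_cases hm : mm ψ = 0
      · simp [hm]
      by_cases hw : ww ψ 1 = 0
      · simp [hw]
      refine Nat.mul_le_mul_left _ (le_of_eq ?_)
      have h3 : Cfsg.classInner (fun z : N₀ => (ψ : A → ℂ) z) (fun _ => (1 : ℂ)) = (ww ψ 1 : ℂ) := by
        rw [classInner_def]
        have hv : ∀ z : N₀, (ψ : A → ℂ) z = (ww ψ 1 : ℂ) := fun z => by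
          rw [(hker ψ hm hw z z.2).1, (hker ψ hm hw z z.2).2]
        simp only [hv, map_one, mul_one, Finset.sum_const, Finset.card_univ, nsmul_eq_mul,
          ← Nat.card_eq_fintype_card]
        rw [inv_mul_cancel_left₀ natCard_ne_zero]
      rw [hnn] at h3
      exact_mod_cast h3.symm
    -- weights on `E`
    let e := Subgroup.subgroupOfEquivOfLe hDN
    have hEcomm : ∀ a b : E, a * b = b * a := fun a b =>
      e.injective (by rw [map_mul, map_mul, h.comm])
    have hw : ∀ b : E →* ℂˣ, ∃ k : ℕ, k ≤ 1 ∧ wt E (fun z : N₀ => χ z) b = k := fun b => by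
      refine ⟨if b.comp e.symm.toMonoidHom ∈ orb M a₀ then 1 else 0, by split_ifs <;> norm_num, ?_⟩
      have h1 := hwt (b.comp e.symm.toMonoidHom)
      have h2 : wt E (fun z : N₀ => χ z) b = wt D χ (b.comp e.symm.toMonoidHom) := by
        rw [wt, wt, classInner_def, classInner_def, Nat.card_congr e.toEquiv]
        congr 1
        refine Fintype.sum_equiv e.toEquiv _ _ fun z => ?_
        simp [e]
      rw [h2, h1, orbInd]
      split_ifs <;> simp
    have := linear_of_norm_ge E hEcomm hχN (f := f) (by simpa using hχ1) hw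
      ⟨_, hnorm.trans (by push_cast; rfl), hN⟩ ⟨x, hx⟩ ⟨y, hy⟩
    simpa using this

end CfsgLib.TimesPSL.Affine
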