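import Cfsg.Agent.Lib.Char.TI
import Cfsg.Agent.Lib.Char.LinearSum
import Cfsg.Agent.Lib.Char.Integral

/-!
# Linear characters of a cyclic group; integral coefficients of generalized characters
-/

set_option autoImplicit false

namespace CfsgLib.TimesPSL.Affine

open CfsgLib.Char
open scoped ComplexConjugate

universe u

section Linear

variable {D : Type u} [Group D] [Fintype D]

theorem lin_inner [DecidableEq (D →* ℂˣ)] (a b : D →* ℂˣ) :
    Cfsg.classInner (fun d => (a d : ℂ)) (fun d => (b d : ℂ)) = if a = b then 1 else 0 := by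
  classical
  rw [irr_classInner (isIrrCharacter_linear a) (isIrrCharacter_linear b)]
  by_cases h : a = b
  · subst h; simp
  · rw [if_neg h, if_neg]
    exact fun h' => h (MonoidHom.ext fun d => Units.ext (congr_fun h' d))

theorem sum_inner_lin [Fintype (D →* ℂˣ)] (hcomm : ∀ x y : D, x * y = y * x) (φ : D → ℂ) (d : D) :
    ∑ a : D →* ℂˣ, Cfsg.classInner φ (fun x => (a x : ℂ)) * (a d : ℂ) = φ d := by
  classical
  have hbot : commutator D = ⊥ := by
    rw [commutator_def, Subgroup.commutator_eq_bot_iff_le_centralizer]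
    exact fun x _ => Subgroup.mem_centralizer_iff.mpr fun y _ => hcomm y x
  simp only [classInner_def, Finset.mul_sum, Finset.sum_mul]
  rw [Finset.sum_comm]
  have h : ∀ x : D, ∑ a : D →* ℂˣ, (Nat.card D : ℂ)⁻¹ * (φ x * conj (a x : ℂ)) * (a d : ℂ) =
      if x = d then φ x else 0 := fun x => by
    have h1 : ∀ a : D →* ℂˣ, (Nat.card D : ℂ)⁻¹ * (φ x * conj (a x : ℂ)) * (a d : ℂ) =
        (Nat.card D : ℂ)⁻¹ * φ x * (a (x⁻¹ * d) : ℂ) := fun a => by
      rw [conj_linear_apply, map_mul, map_inv, Units.val_mul, MonoidHom.inv_apply]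
      ring
    rw [Finset.sum_congr rfl fun a _ => h1 a, ← Finset.mul_sum, sum_linear_apply, hbot,
      Subgroup.index_bot]
    simp only [Subgroup.mem_bot, inv_mul_eq_one]
    split_ifs with he
    · field_simp [natCard_ne_zero]
    · simp
  rw [Finset.sum_congr rfl fun x _ => h x]
  simp

theorem exists_lin_weight [Fintype (D →* ℂˣ)] (hcomm : ∀ x y : D, x * y = y * x) {φ : D → ℂ}
    (h1 : φ 1 ≠ 0) : ∃ a : D →* ℂˣ, Cfsg.classInner φ (fun x => (a x : ℂ)) ≠ 0 := by
  by_contra h
  push Not at h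
  exact h1 (by rw [← sum_inner_lin hcomm φ 1]; simp [h])

theorem inner_lin_pow (φ : D → ℂ) (k : ℕ) (hbij : Function.Bijective fun d : D => d ^ k)
    (hφ : ∀ d : D, φ (d ^ k) = φ d) (a : D →* ℂˣ) :
    Cfsg.classInner φ (fun x => ((a ^ k) x : ℂ)) = Cfsg.classInner φ (fun x => (a x : ℂ)) := by
  rw [classInner_def, classInner_def]
  congr 1
  refine Fintype.sum_bijective (fun d : D => d ^ k) hbij _ _ fun d => ?_
  rw [hφ d, MonoidHom.pow_apply, map_pow]

omit [Fintype D] in
theorem lin_norm [Finite D] (a : D →* ℂˣ) (d : D) : ‖(a d : ℂ)‖ = 1 :=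
  norm_eigen_eq_one (orderOf_pos d) (by
    rw [← Units.val_pow_eq_pow_val, ← map_pow, pow_orderOf_eq_one, map_one, Units.val_one])

/-- The linear characters of a cyclic group form a cyclic group, generated by a faithful one. -/
theorem exists_dual_generator (hc : IsCyclic D) :
    ∃ a : D →* ℂˣ, orderOf a = Nat.card D ∧ (∀ d : D, a d = 1 → d = 1) ∧
      IsCyclic (D →* ℂˣ) := by
  obtain ⟨g, hg⟩ := hc.exists_generator
  have hcomm : ∀ x y : D, x * y = y * x := fun x y => by
    obtain ⟨i, rfl⟩ := Subgroup.mem_zpowers_iff.mp (hg x)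
    obtain ⟨j, rfl⟩ := Subgroup.mem_zpowers_iff.mp (hg y)
    exact (Commute.zpow_zpow (Commute.refl g) i j).eq
  have : Finite (D →* ℂˣ) := by
    refine Nat.finite_of_card_ne_zero ?_
    rw [natCard_linear]
    exact Subgroup.index_ne_zero_of_finite
  let ev : (D →* ℂˣ) →* ℂ :=
    { toFun := fun a => (a g : ℂ)
      map_one' := rfl
      map_mul' := fun a b => rfl }
  have hev : Function.Injective ev := fun a b h => MonoidHom.ext fun x => by
    obtain ⟨i, rfl⟩ := Subgroup.mem_zpowers_iff.mp (hg x)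
    rw [map_zpow, map_zpow, Units.ext h]
  have hcyc : IsCyclic (D →* ℂˣ) := isCyclic_of_injective_ringHom ev hev
  obtain ⟨a, ha⟩ := IsCyclic.exists_generator (α := D →* ℂˣ)
  refine ⟨a, ?_, fun d hd => ?_, hcyc⟩
  · rw [orderOf_eq_card_of_forall_mem_zpowers ha, natCard_linear]
    have hbot : commutator D = ⊥ := by
      rw [commutator_def, Subgroup.commutator_eq_bot_iff_le_centralizer]
      exact fun x _ => Subgroup.mem_centralizer_iff.mpr fun y _ => hcomm y x
    rw [hbot, Subgroup.index_bot]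
  · by_contra hd1
    obtain ⟨b, hb⟩ := exists_linear_ne_one hcomm hd1
    obtain ⟨i, rfl⟩ := Subgroup.mem_zpowers_iff.mp (ha b)
    exact hb (by rw [MonoidHom.zpow_apply, hd, one_zpow])

end Linear

section Bessel

variable {G : Type u} [Group G] [Fintype G]

/-- Bessel's inequality for integral coefficients, with the case of equality. -/
theorem bessel_int {ι : Type*} [Fintype ι] (ξ : ι → G → ℂ)
    (hξ : ∀ i, Cfsg.IsIrrCharacter G (ξ i)) (hinj : Function.Injective ξ) {τ : G → ℂ}
    (hgen : Cfsg.IsGeneralizedCharacter G τ) {N : ℤ} (hN : Cfsg.classInner τ τ = N)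
    (k : ι → ℤ) (hk : ∀ i, Cfsg.classInner τ (ξ i) = k i) :
    ∑ i, k i ^ 2 ≤ N ∧ (∑ i, k i ^ 2 = N → τ 1 = ∑ i, (k i : ℂ) * ξ i 1) := by
  classical
  have := Fintype.ofFinite (Cfsg.IrrCharacter G)
  have hcl := isGeneralized_isClassFunction hgen
  choose κ hκ using fun χ : Cfsg.IrrCharacter G =>
    classInner_isGeneralized_int hgen (isGeneralized_of_isCharacter (irr_isCharacter χ.2))
  have hsum : ∑ χ, κ χ ^ 2 = N := by
    rw [classInner_eq_sum_mul hcl τ] at hN
    simp only [hκ, map_intCast, ← sq] at hN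
    exact_mod_cast hN
  let e : ι ↪ Cfsg.IrrCharacter G :=
    ⟨fun i => ⟨ξ i, hξ i⟩, fun a b h => hinj (congr_arg Subtype.val h)⟩
  have hek : ∀ i, κ (e i) = k i := fun i => by
    have h := (hκ (e i)).symm.trans (hk i)
    exact_mod_cast h
  have hT : ∑ χ ∈ Finset.univ.map e, κ χ ^ 2 = ∑ i, k i ^ 2 := by
    simp only [Finset.sum_map, hek]
  constructor
  · rw [← hsum, ← hT]
    exact Finset.sum_le_sum_of_subset_of_nonneg (Finset.subset_univ _) fun i _ _ => sq_nonneg _
  · intro heq
    rw [← hT, ← hsum, ← Finset.sum_sdiff (Finset.subset_univ (Finset.univ.map e))] at heq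
    have h0 : ∑ χ ∈ Finset.univ \ Finset.univ.map e, κ χ ^ 2 = 0 := by linarith
    rw [Finset.sum_eq_zero_iff_of_nonneg fun i _ => sq_nonneg _] at h0
    rw [classFunction_apply_eq_sum hcl (1 : G),
      ← Finset.sum_subset (Finset.subset_univ (Finset.univ.map e)) ?_, Finset.sum_map]
    · refine Finset.sum_congr rfl fun i _ => ?_
      change Cfsg.classInner τ (ξ i) * ξ i 1 = _
      rw [hk i]
    · intro χ _ hχ
      have := h0 χ (Finset.mem_sdiff.mpr ⟨Finset.mem_univ _, hχ⟩)
      rw [hκ, eq_zero_of_pow_eq_zero this, Int.cast_zero, zero_mul]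

theorem irr_degree_dvd {χ : G → ℂ} (hχ : Cfsg.IsIrrCharacter G χ) {d : ℕ} (hd : χ 1 = d) :
    d ∣ Nat.card G := by
  obtain ⟨n, ρ, hρ, rfl⟩ := hχ
  rw [Representation.char_one] at hd
  exact Nat.cast_injective hd ▸ degree_dvd_card ρ

theorem card_mul_sq_le {ι : Type*} [Fintype ι] (ξ : ι → G → ℂ)
    (hξ : ∀ i, Cfsg.IsIrrCharacter G (ξ i)) (hinj : Function.Injective ξ) {e : ℕ}
    (he : ∀ i, ξ i 1 = e) : Fintype.card ι * e ^ 2 ≤ Nat.card G := by
  classical
  have := Fintype.ofFinite (Cfsg.IrrCharacter G)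
  choose d hd using fun χ : Cfsg.IrrCharacter G => char_apply_one_eq_nat (irr_isCharacter χ.2)
  have hs : ∑ χ, d χ ^ 2 = Nat.card G := by
    have h := sum_irr_sq (G := G)
    simp only [hd] at h
    exact_mod_cast h
  let f : ι ↪ Cfsg.IrrCharacter G :=
    ⟨fun i => ⟨ξ i, hξ i⟩, fun a b h => hinj (congr_arg Subtype.val h)⟩
  have hf : ∀ i, d (f i) = e := fun i => by
    have h := (hd (f i)).symm.trans (he i)
    exact_mod_cast h
  rw [← hs]
  refine le_trans (le_of_eq ?_) (Finset.sum_le_sum_of_subset (Finset.subset_univ (Finset.univ.map f)))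
  simp [Finset.sum_map, hf]

end Bessel

end CfsgLib.TimesPSL.Affine
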