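import Cfsg.Agent.Lib.TimesPSL.AffineArith
import Cfsg.Agent.Lib.TimesPSL.AffineLinear

/-!
# Frobenius twists of the linear characters of a Singer cycle
-/

set_option autoImplicit false
set_option linter.unusedSectionVars false

namespace CfsgLib.TimesPSL.Affine

open CfsgLib.Char

universe u

-- powers of linear characters are taken in their group
attribute [-instance] MonoidHom.instPow

variable {n : ℕ}

/-- The exponent attached to an element of `M`. -/
def twExp {M : AddSubgroup (ZMod n)} (m : M) : ℕ := 2 ^ (m : ZMod n).val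

theorem twExp_zero {M : AddSubgroup (ZMod n)} : twExp (0 : M) = 1 := by
  simp [twExp]

theorem pow_two_pow_mod {L : Type*} [Monoid L] {x : L} (hx : x ^ 2 ^ n = x) (a : ℕ) :
    x ^ 2 ^ a = x ^ 2 ^ (a % n) := by
  have h : ∀ k, x ^ 2 ^ (n * k) = x := fun k => by
    induction k with
    | zero => simp
    | succ k ih => rw [Nat.mul_succ, pow_add, pow_mul, ih, hx]
  conv_lhs => rw [← Nat.div_add_mod a n]
  rw [pow_add, pow_mul, h]

theorem pow_two_pow_self {L : Type*} [Monoid L] {x : L} (hx : x ^ (2 ^ n - 1) = 1) :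
    x ^ 2 ^ n = x := by
  have h : 2 ^ n = 2 ^ n - 1 + 1 := (Nat.sub_add_cancel Nat.one_le_two_pow).symm
  rw [h, pow_succ, hx, one_mul]

theorem pow_twExp_add [NeZero n] {M : AddSubgroup (ZMod n)} {L : Type*} [Monoid L] {x : L}
    (hx : x ^ (2 ^ n - 1) = 1) (a b : M) : x ^ twExp (a + b) = (x ^ twExp b) ^ twExp a := by
  rw [← pow_mul, twExp, twExp, twExp, ← pow_add, AddSubgroup.coe_add, ZMod.val_add,
    Nat.add_comm (b : ZMod n).val, ← pow_two_pow_mod (pow_two_pow_self hx)]

/-- A fixed point of a nontrivial twist satisfies a short exponent relation. -/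
theorem exists_small_period [NeZero n] {M : AddSubgroup (ZMod n)} (hM : Odd (Nat.card M))
    {L : Type*} [Group L] {x : L} (hx : x ^ (2 ^ n - 1) = 1) {s : M} (hs : s ≠ 0)
    (hfix : x ^ twExp s = x) :
    ∃ g, 0 < g ∧ 3 * g ≤ n ∧ x ^ (2 ^ g - 1) = 1 := by
  set v := (s : ZMod n).val with hv
  set f := Nat.card M with hf
  have hv0 : v ≠ 0 := fun h => hs (Subtype.ext ((ZMod.val_eq_zero _).mp h))
  have hvn : v < n := ZMod.val_lt _
  set g := Nat.gcd v n with hg
  have hgpos : 0 < g := Nat.gcd_pos_of_pos_left _ (Nat.pos_of_ne_zero hv0)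
  have hgn : g ∣ n := Nat.gcd_dvd_right _ _
  have hdvd : n ∣ f * g := by
    have h0 : f • s = 0 := card_nsmul_eq_zero'
    have h1 : ((f * v : ℕ) : ZMod n) = 0 := by
      rw [Nat.cast_mul, hv, ZMod.natCast_zmod_val, ← nsmul_eq_mul]
      exact congr_arg Subtype.val h0
    rw [hg, ← Nat.gcd_mul_left]
    exact Nat.dvd_gcd ((ZMod.natCast_eq_zero_iff _ _).mp h1) (dvd_mul_left n f)
  refine ⟨g, hgpos, ?_, ?_⟩
  · obtain ⟨r, hr⟩ := hgn
    have hrf : r ∣ f := by
      rw [hr, mul_comm f g] at hdvd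
      exact Nat.dvd_of_mul_dvd_mul_left hgpos hdvd
    have hrodd : Odd r := Odd.of_dvd_nat hM hrf
    have hgv : g ≤ v := Nat.le_of_dvd (Nat.pos_of_ne_zero hv0) (Nat.gcd_dvd_left _ _)
    have hr1 : r ≠ 1 := fun h => by rw [h, mul_one] at hr; omega
    have hr3 : 3 ≤ r := by obtain ⟨k, rfl⟩ := hrodd; omega
    calc 3 * g = g * 3 := mul_comm _ _
      _ ≤ g * r := Nat.mul_le_mul_left _ hr3
      _ = n := hr.symm
  · rw [hg, ← Nat.pow_sub_one_gcd_pow_sub_one]
    refine pow_gcd_eq_one.mpr ⟨?_, hx⟩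
    rw [twExp, ← hv, ← Nat.sub_add_cancel (Nat.one_le_two_pow : 1 ≤ 2 ^ v), pow_succ] at hfix
    exact mul_eq_right.mp hfix

variable {D : Type u} [Group D] (M : AddSubgroup (ZMod n))

/-- The twist of a linear character. -/
def tw (m : M) (a : D →* ℂˣ) : D →* ℂˣ := a ^ twExp m

theorem tw_zero (a : D →* ℂˣ) : tw M 0 a = a := by rw [tw, twExp_zero, pow_one]

theorem tw_one_char (m : M) : tw M m (1 : D →* ℂˣ) = 1 :=
  one_pow (M := D →* ℂˣ) (twExp m)

variable [Fintype D] (hcard : Nat.card D = 2 ^ n - 1)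

include hcard

omit hcard [Fintype D] in
theorem lin_pow_apply (a : D →* ℂˣ) (k : ℕ) (d : D) : (a ^ k) d = a (d ^ k) :=
  (MonoidHom.pow_apply a k d).trans (map_pow a d k).symm

omit hcard in
theorem lin_pow_card (a : D →* ℂˣ) : a ^ Nat.card D = 1 := MonoidHom.ext fun d => by
  rw [lin_pow_apply, pow_card_eq_one', map_one, MonoidHom.one_apply]

theorem tw_add [NeZero n] (a b : M) (c : D →* ℂˣ) : tw M (a + b) c = tw M a (tw M b c) := by
  simp only [tw]
  exact pow_twExp_add (hcard ▸ lin_pow_card c) a b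

/-- Regular linear characters: nontrivial and with trivial stabiliser in `M`. -/
def IsRegular (a : D →* ℂˣ) : Prop := a ≠ 1 ∧ ∀ m : M, tw M m a = a → m = 0

omit hcard in
open scoped Classical in
/-- The orbit of a linear character. -/
noncomputable def orb [Fintype M] (a : D →* ℂˣ) : Finset (D →* ℂˣ) :=
  Finset.univ.image fun m : M => tw M m a

omit hcard in
theorem mem_orb [Fintype M] {a b : D →* ℂˣ} : b ∈ orb M a ↔ ∃ m : M, tw M m a = b := by
  classical
  simp [orb]

theorem orb_eq_of_mem [NeZero n] [Fintype M] {a b : D →* ℂˣ} (h : b ∈ orb M a) :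
    orb M b = orb M a := by
  obtain ⟨m, rfl⟩ := (mem_orb M).mp h
  ext c
  rw [mem_orb, mem_orb]
  constructor
  · rintro ⟨k, rfl⟩; exact ⟨k + m, tw_add M hcard k m a⟩
  · rintro ⟨k, rfl⟩
    exact ⟨k - m, by rw [← tw_add M hcard, sub_add_cancel]⟩

theorem isRegular_tw [NeZero n] {a : D →* ℂˣ} (h : IsRegular M a) (m : M) :
    IsRegular M (tw M m a) := by
  refine ⟨fun h1 => h.1 ?_, fun k hk => ?_⟩
  · rw [← tw_zero M a, ← neg_add_cancel m, tw_add M hcard, h1, tw_one_char]
  · rw [← tw_add M hcard] at hk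
    refine h.2 k ?_
    have := congr_arg (tw M (-m)) hk
    rwa [← tw_add M hcard, ← tw_add M hcard, neg_add_cancel, tw_zero, add_comm k m,
      ← add_assoc, neg_add_cancel, zero_add] at this

theorem tw_inj [NeZero n] {a : D →* ℂˣ} (h : IsRegular M a) :
    Function.Injective fun m : M => tw M m a := fun x y hxy => by
  have := congr_arg (tw M (-y)) hxy
  rw [← tw_add M hcard, ← tw_add M hcard, neg_add_cancel, tw_zero] at this
  exact (neg_add_eq_zero.mp (h.2 _ this)).symm

theorem card_orb [NeZero n] [Fintype M] {a : D →* ℂˣ} (h : IsRegular M a) :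
    (orb M a).card = Fintype.card M := by
  classical
  rw [orb, Finset.card_image_of_injective _ (tw_inj M hcard h), Finset.card_univ]

open scoped Classical in
/-- Only few characters are irregular. -/
theorem card_irregular [Fintype (D →* ℂˣ)] [NeZero n] (hM : Odd (Nat.card M))
    (hcyc : IsCyclic (D →* ℂˣ)) :
    (Finset.univ.filter fun a : D →* ℂˣ => ¬ IsRegular M a).card + (2 * (n / 3) + 1) ≤
      2 ^ (n / 3 + 1) := by
  set S : Finset (D →* ℂˣ) := insert 1 ((Finset.Icc 1 (n / 3)).biUnion fun g =>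
    (Finset.univ.filter fun a : D →* ℂˣ => a ^ (2 ^ g - 1) = 1).erase 1)
  have hsub : (Finset.univ.filter fun a : D →* ℂˣ => ¬ IsRegular M a) ⊆ S := by
    intro a ha
    rw [Finset.mem_filter] at ha
    by_cases h1 : a = 1
    · exact Finset.mem_insert.mpr (Or.inl h1)
    have hns : ∃ m : M, tw M m a = a ∧ m ≠ 0 := by
      by_contra hc
      push Not at hc
      exact ha.2 ⟨h1, hc⟩
    obtain ⟨m, hm, hm0⟩ := hns
    obtain ⟨g, hg, hgn, hag⟩ := exists_small_period hM (hcard ▸ lin_pow_card a) hm0 hm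
    refine Finset.mem_insert.mpr (Or.inr (Finset.mem_biUnion.mpr ⟨g, ?_, ?_⟩))
    · exact Finset.mem_Icc.mpr ⟨hg, by omega⟩
    · exact Finset.mem_erase.mpr ⟨h1, Finset.mem_filter.mpr ⟨Finset.mem_univ _, hag⟩⟩
  have hS : S.card ≤ 1 + ∑ g ∈ Finset.Icc 1 (n / 3), (2 ^ g - 2) := by
    refine (Finset.card_insert_le _ _).trans ?_
    rw [add_comm]
    refine Nat.add_le_add_left (Finset.card_biUnion_le.trans (Finset.sum_le_sum fun g hg => ?_)) 1
    have hg1 : 0 < 2 ^ g - 1 := by
      have : 2 ^ 1 ≤ 2 ^ g := Nat.pow_le_pow_right (by norm_num) (Finset.mem_Icc.mp hg).1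
      omega
    have h1mem : (1 : D →* ℂˣ) ∈ Finset.univ.filter fun a : D →* ℂˣ => a ^ (2 ^ g - 1) = 1 :=
      Finset.mem_filter.mpr ⟨Finset.mem_univ _, one_pow (M := D →* ℂˣ) _⟩
    rw [Finset.card_erase_of_mem h1mem]
    have := IsCyclic.card_pow_eq_one_le (α := D →* ℂˣ) hg1
    omega
  have := sum_two_pow_sub_two (n / 3)
  have := Finset.card_le_card hsub
  omega

/-- Quotients of two different twists of a generator are regular. -/
theorem regular_div_of_generator [NeZero n] (hM : Odd (Nat.card M)) {a : D →* ℂˣ}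
    (ha : orderOf a = 2 ^ n - 1) {i j : M} (hij : i ≠ j) :
    IsRegular M (tw M i a * (tw M j a)⁻¹) := by
  have key : ∀ g, 0 < g → 3 * g ≤ n → (tw M i a * (tw M j a)⁻¹) ^ (2 ^ g - 1) ≠ 1 := by
    intro g hg hgn h
    have h' : a ^ (2 ^ (i : ZMod n).val * (2 ^ g - 1)) = a ^ (2 ^ (j : ZMod n).val * (2 ^ g - 1)) := by
      rw [pow_mul, pow_mul]
      have h1 := (mul_pow (tw M i a) (tw M j a)⁻¹ (2 ^ g - 1)).symm.trans h
      have h2 := (congrArg (tw M i a ^ (2 ^ g - 1) * ·) (inv_pow (tw M j a) (2 ^ g - 1))).symm.trans h1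
      exact mul_inv_eq_one.mp h2
    suffices hmain : ∀ x y : ℕ, y < x → x < n →
        a ^ (2 ^ x * (2 ^ g - 1)) = a ^ (2 ^ y * (2 ^ g - 1)) → False by
      rcases lt_trichotomy (i : ZMod n).val (j : ZMod n).val with hlt | heq | hgt
      · exact hmain _ _ hlt (ZMod.val_lt _) h'.symm
      · exact hij (Subtype.ext (ZMod.val_injective n heq))
      · exact hmain _ _ hgt (ZMod.val_lt _) h'
    intro x y hyx hxn he
    replace he := (pow_eq_pow_iff_modEq (G := D →* ℂˣ)).mp he
    rw [ha] at he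
    have hle : 2 ^ y * (2 ^ g - 1) ≤ 2 ^ x * (2 ^ g - 1) :=
      Nat.mul_le_mul_right _ (Nat.pow_le_pow_right (by norm_num) hyx.le)
    have hd := (Nat.modEq_iff_dvd' hle).mp he.symm
    rw [← Nat.sub_mul, show 2 ^ x - 2 ^ y = 2 ^ y * (2 ^ (x - y) - 1) by
      rw [Nat.mul_sub, mul_one, ← pow_add, Nat.add_sub_cancel' hyx.le], mul_assoc] at hd
    refine mul_pow_sub_one_lt (n := n) (d := x - y) (by omega) (by omega) hg hgn ?_
    refine (Nat.Coprime.pow_right y ?_).dvd_of_dvd_mul_left hd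
    rw [Nat.coprime_two_right]
    have hn0 : n ≠ 0 := NeZero.ne n
    exact Nat.Even.sub_odd Nat.one_le_two_pow (Nat.even_pow.mpr ⟨even_two, hn0⟩) odd_one
  have hn3 : 3 ≤ n := by
    by_contra hcon
    have hn : n = 1 ∨ n = 2 := by have := NeZero.ne n; omega
    have hdvd : Nat.card M ∣ n := by
      have := AddSubgroup.card_addSubgroup_dvd_card M
      rwa [Nat.card_zmod] at this
    have : Nat.card M = 1 := by
      obtain ⟨k, hk⟩ := hM
      have := Nat.le_of_dvd (by omega) hdvd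
      omega
    have : Subsingleton M := (Nat.card_eq_one_iff_unique.mp this).1
    exact hij (Subsingleton.elim _ _)
  refine ⟨fun h1 => key 1 (by norm_num) (by omega) (by rw [h1]; exact one_pow (M := D →* ℂˣ) _), fun m hm => ?_⟩
  by_contra hm0
  obtain ⟨g, hg, hgn, hag⟩ := exists_small_period hM (hcard ▸ lin_pow_card _) hm0 hm
  exact key g hg hgn hag

theorem isRegular_generator [NeZero n] (hn : 3 ≤ n) (hM : Odd (Nat.card M)) {a : D →* ℂˣ}
    (ha : orderOf a = 2 ^ n - 1) : IsRegular M a := by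
  have h8 : 2 ^ 3 ≤ 2 ^ n := Nat.pow_le_pow_right (by norm_num) hn
  refine ⟨fun h => ?_, fun m hm => ?_⟩
  · rw [h, orderOf_one] at ha; omega
  · by_contra hm0
    obtain ⟨g, hg, hgn, hag⟩ := exists_small_period hM (hcard ▸ lin_pow_card a) hm0 hm
    have h1 := orderOf_dvd_of_pow_eq_one hag
    rw [ha] at h1
    have h2 : 2 ^ 1 ≤ 2 ^ g := Nat.pow_le_pow_right (by norm_num) hg
    have h3 : 2 ^ g < 2 ^ n := Nat.pow_lt_pow_right (by norm_num) (by omega)
    have := Nat.le_of_dvd (by omega) h1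
    omega

end CfsgLib.TimesPSL.Affine
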