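import Cfsg.Agent.Lib.TimesPSL.AffineKernel
import Cfsg.Agent.Lib.TimesPSL.AffineField

/-!
# The point stabiliser of an affine action with a Singer cycle
-/

set_option autoImplicit false
set_option linter.unusedSectionVars false

namespace CfsgLib.TimesPSL.Affine

open CfsgLib.Char

universe u

attribute [-instance] MonoidHom.instPow

variable {A : Type u} {U : Type*} [Group A] [Finite A] [CommGroup U] [Finite U]
  [MulDistribMulAction A U]
  (c : A → U) (hc : ∀ g h : A, c (g * h) = c g * g • c h)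

include hc

theorem cocycle_one : c 1 = 1 := by
  have h := hc 1 1
  rw [one_mul, one_smul] at h
  exact mul_eq_left.mp h.symm

theorem cocycle_inv {g : A} (hg : c g = 1) : c g⁻¹ = 1 := by
  have h := hc g g⁻¹
  rw [mul_inv_cancel, cocycle_one c hc, hg, one_mul] at h
  rw [← inv_smul_smul g (c g⁻¹), ← h, smul_one]

/-- The point stabiliser. -/
def stab : Subgroup A where
  carrier := {g | c g = 1}
  one_mem' := cocycle_one c hc
  mul_mem' := fun {a b} (ha : c a = 1) (hb : c b = 1) =>
    show c (a * b) = 1 by rw [hc, ha, hb, smul_one, one_mul]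
  inv_mem' := fun {a} (ha : c a = 1) => cocycle_inv c hc ha

theorem card_eq_mul_stab (hsurj : Function.Surjective c) :
    Nat.card A = Nat.card U * Nat.card (stab c hc) := by
  have hwd : ∀ a b : A, a⁻¹ * b ∈ stab c hc → c a = c b := fun a b h => by
    have h1 := hc a (a⁻¹ * b)
    rw [mul_inv_cancel_left, show c (a⁻¹ * b) = 1 from h, smul_one, mul_one] at h1
    exact h1.symm
  let φ : A ⧸ stab c hc → U := Quotient.lift c fun a b h => hwd a b (QuotientGroup.leftRel_apply.mp h)
  have hbij : Function.Bijective φ := by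
    refine ⟨fun a b => ?_, fun u => ?_⟩
    · induction a using QuotientGroup.induction_on with
      | H a =>
      induction b using QuotientGroup.induction_on with
      | H b =>
      intro (hab : c a = c b)
      refine QuotientGroup.eq.mpr ?_
      show c (a⁻¹ * b) = 1
      rw [hc, ← hab, ← hc, inv_mul_cancel, cocycle_one c hc]
    · obtain ⟨g, rfl⟩ := hsurj u
      exact ⟨g, rfl⟩
  rw [← Nat.card_eq_of_bijective φ hbij, mul_comm, ← Subgroup.index_eq_card, Subgroup.card_mul_index]

variable (hfaith : ∀ g : A, (∀ u : U, g • u = u) → g = 1)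
  (D : Subgroup A) (hD0 : ∀ d ∈ D, c d = 1) (hDcomm : ∀ a ∈ D, ∀ b ∈ D, a * b = b * a)
  (hDnorm : ∀ g : A, c g = 1 → ∀ d ∈ D, g * d * g⁻¹ ∈ D)
  (hDtrans : ∀ u v : U, u ≠ 1 → v ≠ 1 → ∃ d ∈ D, d • u = v)

omit hc in
include hfaith hDcomm hDtrans in
theorem semiregular {d : A} (hd : d ∈ D) {u : U} (hu : u ≠ 1) (h : d • u = u) : d = 1 := by
  refine hfaith d fun v => ?_
  by_cases hv : v = 1
  · rw [hv, smul_one]
  obtain ⟨e, he, rfl⟩ := hDtrans u v hu hv
  rw [← mul_smul, hDcomm d hd e he, mul_smul, h]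

omit hc in
include hfaith hDcomm hDtrans in
theorem card_singer [Nontrivial U] : Nat.card D + 1 = Nat.card U := by
  classical
  have := Fintype.ofFinite U
  obtain ⟨u₀, hu₀⟩ := exists_ne (1 : U)
  let φ : D → {u : U // u ≠ 1} := fun d => ⟨(d : A) • u₀, fun h => hu₀ (by
    rw [← inv_smul_smul (d : A) u₀, h, smul_one])⟩
  have hbij : Function.Bijective φ := by
    refine ⟨fun d e hde => ?_, fun v => ?_⟩
    · have h : (d : A) • u₀ = (e : A) • u₀ := congr_arg Subtype.val hde
      refine (inv_mul_eq_one.mp ?_).symm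
      refine Subtype.ext (semiregular hfaith D hDcomm hDtrans ((e⁻¹ * d : D).2) hu₀ ?_)
      rw [Subgroup.coe_mul, mul_smul, h, Subgroup.coe_inv, inv_smul_smul]
    · obtain ⟨d, hd, h⟩ := hDtrans u₀ v hu₀ v.2
      exact ⟨⟨d, hd⟩, Subtype.ext h⟩
  rw [Nat.card_eq_of_bijective φ hbij, Nat.card_eq_fintype_card, Nat.card_eq_fintype_card,
    Fintype.card_subtype_compl, Fintype.card_subtype_eq]
  exact Nat.sub_add_cancel Fintype.card_pos

include hfaith hD0 hDcomm hDtrans in
theorem mem_stab_of_conj {d x : A} (hd : d ∈ D) (hd1 : d ≠ 1) (hx : x⁻¹ * d * x ∈ D) :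
    x ∈ stab c hc := by
  by_contra hxn
  refine hd1 (semiregular hfaith D hDcomm hDtrans hd (u := c x) hxn ?_)
  have h1 : c (d * x) = d • c x := by rw [hc, hD0 d hd, one_mul]
  rw [show d * x = x * (x⁻¹ * d * x) by group, hc, hD0 _ hx, smul_one, mul_one] at h1
  exact h1.symm

omit hc in
include hfaith hDcomm hDtrans in
theorem mem_of_commute [Nontrivial U] {g : A}
    (hcomm : ∀ d ∈ D, g * d = d * g) : g ∈ D := by
  obtain ⟨u₀, hu₀⟩ := exists_ne (1 : U)
  have hgu : g • u₀ ≠ 1 := fun h => hu₀ (by rw [← inv_smul_smul g u₀, h, smul_one])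
  obtain ⟨d, hd, hdu⟩ := hDtrans u₀ _ hu₀ hgu
  suffices h : d⁻¹ * g = 1 by rw [inv_mul_eq_one] at h; rwa [← h]
  refine hfaith _ fun v => ?_
  by_cases hv : v = 1
  · rw [hv, smul_one]
  obtain ⟨e, he, rfl⟩ := hDtrans u₀ v hu₀ hv
  have hce : d⁻¹ * g * e = e * (d⁻¹ * g) := by
    rw [mul_assoc, hcomm e he, ← mul_assoc, hDcomm _ (D.inv_mem hd) e he, mul_assoc]
  rw [← mul_smul, hce, mul_smul, mul_smul, ← hdu, inv_smul_smul]

include hfaith hD0 hDcomm hDnorm hDtrans in
theorem exists_singerData [Fintype A] (hU : ∀ u : U, u ^ 2 = 1) {n : ℕ} (hn : 4 ≤ n)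
    (hcard : Nat.card U = 2 ^ n) (hsurj : Function.Surjective c)
    (hodd : ∀ g : A, c g = 1 → Odd (orderOf g)) :
    ∃ M : AddSubgroup (ZMod n), SingerData D M := by
  classical
  have : NeZero n := ⟨by omega⟩
  have : Nontrivial U := Finite.one_lt_card_iff_nontrivial.mp
    (hcard ▸ Nat.one_lt_two_pow (by omega))
  set H := stab c hc with hH
  have := Fintype.ofFinite D
  have := Fintype.ofFinite H
  obtain ⟨hcyc, hfrob⟩ := exists_frobenius hU (by omega) hcard hfaith D hDcomm hDtrans
  have hDcard : Nat.card D = 2 ^ n - 1 := by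
    have := card_singer hfaith D hDcomm hDtrans
    omega
  obtain ⟨gen, hgen⟩ := hcyc.exists_generator
  have hgord : orderOf (gen : A) = 2 ^ n - 1 := by
    rw [Subgroup.orderOf_coe, orderOf_eq_card_of_forall_mem_zpowers hgen, hDcard]
  have hpowD : ∀ d ∈ D, d ^ (2 ^ n - 1) = 1 := fun d hd => by
    have := pow_card_eq_one' (G := D) (x := ⟨d, hd⟩)
    rw [hDcard] at this
    exact congr_arg Subtype.val this
  choose i hi hconj using fun h : H => hfrob h (hDnorm h h.2)
    (fun d hd => by simpa using hDnorm (h : A)⁻¹ (H.inv_mem h.2) d hd)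
  have huniq : ∀ a b : ℕ, a < n → b < n → (gen : A) ^ 2 ^ a = (gen : A) ^ 2 ^ b → a = b := by
    intro a b ha hb hab
    rw [pow_eq_pow_iff_modEq, hgord] at hab
    have hlt : ∀ k, k < n → 2 ^ k < 2 ^ n - 1 := fun k hk => by
      have h1 : 2 ^ k ≤ 2 ^ (n - 1) := Nat.pow_le_pow_right (by norm_num) (by omega)
      have h2 : 2 * 2 ^ (n - 1) = 2 ^ n := by rw [← pow_succ']; congr 1; omega
      have h3 : 2 ^ 3 ≤ 2 ^ (n - 1) := Nat.pow_le_pow_right (by norm_num) (by omega)
      omega
    exact Nat.pow_right_injective le_rfl (Nat.ModEq.eq_of_lt_of_lt hab (hlt a ha) (hlt b hb))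
  let e : Additive H →+ ZMod n := AddMonoidHom.mk' (fun h => (i h.toMul : ZMod n)) fun a b => by
    have h1 : i (a.toMul * b.toMul) = (i b.toMul + i a.toMul) % n := by
      refine huniq _ _ (hi _) (Nat.mod_lt _ (by omega)) ?_
      rw [← hconj _ _ gen.2, ← pow_two_pow_mod (pow_two_pow_self (hpowD _ gen.2)),
        pow_add, pow_mul, ← hconj a.toMul _ (D.pow_mem gen.2 _), ← hconj b.toMul _ gen.2,
        Subgroup.coe_mul]
      group
    change ((i (a.toMul * b.toMul) : ℕ) : ZMod n) = _
    rw [h1, ZMod.natCast_mod, Nat.cast_add, add_comm]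
  have he : ∀ (h : H) (d : A), d ∈ D →
      (h : A) * d * (h : A)⁻¹ = d ^ 2 ^ (e (Additive.ofMul h)).val := fun h d hd => by
    change _ = d ^ 2 ^ ((i h : ℕ) : ZMod n).val
    rw [ZMod.val_natCast_of_lt (hi h), hconj h d hd]
  have hker : ∀ h : H, e (Additive.ofMul h) = 0 ↔ (h : A) ∈ D := fun h => by
    constructor
    · intro h0
      refine mem_of_commute hfaith D hDcomm hDtrans fun d hd => ?_
      have := he h d hd
      rw [h0, ZMod.val_zero, pow_zero, pow_one, mul_inv_eq_iff_eq_mul] at this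
      exact this
    · intro hh
      have h1 := he h gen gen.2
      rw [hDcomm _ hh _ gen.2, mul_inv_cancel_right] at h1
      have h2 := huniq 0 _ (by omega) (ZMod.val_lt _) (by rwa [pow_zero, pow_one])
      exact (ZMod.val_eq_zero _).mp h2.symm
  have hkcard : Nat.card e.ker = Nat.card D := by
    refine Nat.card_congr
      { toFun := fun k => ⟨((k : Additive H).toMul : A), (hker _).mp k.2⟩
        invFun := fun d => ⟨Additive.ofMul ⟨(d : A), hD0 d d.2⟩, (hker ⟨(d : A), hD0 d d.2⟩).mpr d.2⟩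
        left_inv := fun k => rfl
        right_inv := fun d => rfl }
  have hHcard : Nat.card H = (2 ^ n - 1) * Nat.card e.range := by
    rw [← hDcard, ← hkcard, ← AddSubgroup.index_ker e, AddSubgroup.card_mul_index]
    exact Nat.card_congr Additive.ofMul
  have hHodd : Odd (Nat.card H) := by
    rw [← Nat.not_even_iff_odd, even_iff_two_dvd]
    intro h2
    have : Fact (Nat.Prime 2) := ⟨Nat.prime_two⟩
    obtain ⟨x, hx⟩ := exists_prime_orderOf_dvd_card' (G := H) 2 h2
    have := hodd x x.2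
    rw [Subgroup.orderOf_coe, hx] at this
    exact Nat.not_even_iff_odd.mpr this even_two
  refine ⟨e.range, ⟨hn, hcyc, hDcard, Odd.of_dvd_nat hHodd (Dvd.intro_left _ hHcard.symm), ?_,
    fun {_} φ hφ d => ?_, fun m d => ?_⟩⟩
  · rw [card_eq_mul_stab c hc hsurj, hcard, ← hH, hHcard, mul_assoc]
  · -- the restriction of an induced function
    by_cases hd1 : d = 1
    · subst hd1
      rw [OneMemClass.coe_one, indFun_apply_one, hφ, mul_zero]
      simp [hφ]
    set F : A → ℂ := fun x => Cfsg.extendByZero D φ (x⁻¹ * (d : A) * x) with hF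
    have hout : ∀ x, x ∉ H → F x = 0 := fun x hx => extendByZero_of_not_mem φ fun hmem =>
      hx (mem_stab_of_conj c hc hfaith D hD0 hDcomm hDtrans d.2
        (fun h1 => hd1 (Subtype.ext h1)) hmem)
    have hin : ∀ h : H, F ((h⁻¹ : H) : A) = φ (d ^ 2 ^ (e (Additive.ofMul h)).val) := fun h => by
      have h1 := he h d d.2
      simp only [hF, Subgroup.coe_inv, inv_inv, h1]
      rw [← SubgroupClass.coe_pow, extendByZero_coe]
    have hsum : ∑ x : A, F x = ∑ h : Additive H, φ (d ^ 2 ^ (e h).val) := by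
      rw [← Finset.sum_filter_of_ne (p := fun x => x ∈ H) fun x _ hne => by
        by_contra hx; exact hne (hout x hx)]
      rw [Finset.sum_subtype (F := inferInstance) _ (p := fun x => x ∈ H) (by simp)]
      exact Fintype.sum_equiv ((Equiv.inv H).trans Additive.ofMul) _ _ fun h => by
        rw [Equiv.trans_apply, Equiv.inv_apply, ← hin, inv_inv]
    rw [indFun_def, hsum, ← Finset.sum_fiberwise Finset.univ e.rangeRestrict]
    have hfib : ∀ m : e.range,
        (Finset.univ.filter fun h => e.rangeRestrict h = m).card = Nat.card D := fun m => by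
      obtain ⟨h0, rfl⟩ := e.rangeRestrict_surjective m
      rw [← hkcard, Nat.card_eq_fintype_card, Fintype.card_subtype (fun h => h ∈ e.ker)]
      refine Finset.card_equiv (Equiv.addLeft (-h0)) fun h => ?_
      simp only [Finset.mem_filter, Finset.mem_univ, true_and, Equiv.coe_addLeft,
        AddMonoidHom.mem_ker, Subtype.ext_iff, AddMonoidHom.coe_rangeRestrict, map_add, map_neg,
        neg_add_eq_zero]
      exact eq_comm
    have hin' : ∀ m : e.range,
        ∑ h ∈ Finset.univ.filter (fun h => e.rangeRestrict h = m), φ (d ^ 2 ^ (e h).val) =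
          (Nat.card D : ℂ) * φ (d ^ twExp m) := fun m => by
      rw [Finset.sum_congr rfl (g := fun _ => φ (d ^ twExp m)) fun h hh => by
        rw [← (Finset.mem_filter.mp hh).2]; rfl, Finset.sum_const, hfib, nsmul_eq_mul]
    rw [Finset.sum_congr rfl fun m _ => hin' m, ← Finset.mul_sum,
      inv_mul_cancel_left₀ natCard_ne_zero]
  · obtain ⟨h, hh⟩ := m.2
    refine isConj_iff.mpr ⟨((h.toMul : H) : A), ?_⟩
    rw [he h.toMul d d.2, twExp, ← hh]
    rfl

end CfsgLib.TimesPSL.Affine
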