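import Cfsg.Agent.Lib.TimesPSL.AffineOrbit

/-!
# A TI Singer cycle: the isometry and the exceptional family
-/

set_option autoImplicit false
set_option linter.unusedSectionVars false

namespace CfsgLib.TimesPSL.Affine

open CfsgLib.Char
open scoped ComplexConjugate

universe u

attribute [-instance] MonoidHom.instPow

variable {n : ℕ} {A : Type u} [Group A] [Fintype A]

/-- A cyclic TI subgroup whose normaliser acts on it by Frobenius powers. -/
structure SingerData (D : Subgroup A) (M : AddSubgroup (ZMod n)) : Prop where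
  hn : 4 ≤ n
  cyc : IsCyclic D
  card : Nat.card D = 2 ^ n - 1
  odd : Odd (Nat.card M)
  cardA : Nat.card A = 2 ^ n * (2 ^ n - 1) * Nat.card M
  res : ∀ [Fintype M], ∀ φ : D → ℂ, φ 1 = 0 → ∀ d : D,
    Cfsg.indFun D φ d = ∑ m : M, φ (d ^ twExp m)
  isConjPow : ∀ (m : M) (d : D), IsConj (d : A) ((d : A) ^ twExp m)

/-- Multiplicity of a linear character of `D` in the restriction of a class function. -/
noncomputable def wt (D : Subgroup A) [Fintype D] (ψ : A → ℂ) (a : D →* ℂˣ) : ℂ :=
  Cfsg.classInner (fun d : D => ψ d) (fun d => (a d : ℂ))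

/-- The number of twists of `a` equal to `b`. -/
noncomputable def cnt {D : Type u} [Group D] (M : AddSubgroup (ZMod n)) (a b : D →* ℂˣ) : ℕ :=
  Nat.card {m : M // tw M m a = b}

variable {D : Subgroup A} [Fintype D] {M : AddSubgroup (ZMod n)}

theorem SingerData.comm (h : SingerData D M) (x y : D) : x * y = y * x := by
  obtain ⟨g, hg⟩ := h.cyc.exists_generator
  obtain ⟨i, rfl⟩ := Subgroup.mem_zpowers_iff.mp (hg x)
  obtain ⟨j, rfl⟩ := Subgroup.mem_zpowers_iff.mp (hg y)
  exact (Commute.zpow_zpow (Commute.refl g) i j).eq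

theorem SingerData.neZero (h : SingerData D M) : NeZero n := ⟨by have := h.hn; omega⟩

theorem wt_nat {ψ : A → ℂ} (hψ : Cfsg.IsCharacter A ψ) (a : D →* ℂˣ) :
    ∃ k : ℕ, wt D ψ a = k :=
  classInner_isCharacter_nat (isCharacter_restrict hψ D) (irr_isCharacter (isIrrCharacter_linear a))

omit [Fintype A] in
theorem sum_wt [Fintype (D →* ℂˣ)] (hcomm : ∀ x y : D, x * y = y * x) (ψ : A → ℂ) (d : D) :
    ∑ a : D →* ℂˣ, wt D ψ a * (a d : ℂ) = ψ d :=
  sum_inner_lin hcomm _ d

omit [Fintype A] in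
theorem sum_wt_one [Fintype (D →* ℂˣ)] (hcomm : ∀ x y : D, x * y = y * x) (ψ : A → ℂ) :
    ∑ a : D →* ℂˣ, wt D ψ a = ψ 1 := by
  have h := sum_wt hcomm ψ 1
  simpa using h

theorem SingerData.wt_tw (h : SingerData D M) {ψ : A → ℂ} (hψ : Cfsg.IsClassFunction A ψ)
    (m : M) (a : D →* ℂˣ) : wt D ψ (tw M m a) = wt D ψ a := by
  have hbij : Function.Bijective fun d : D => d ^ twExp m := by
    refine (powCoprime (G := D) ?_).bijective
    rw [h.card]
    refine Nat.Coprime.pow_right _ ?_
    rw [Nat.coprime_two_right]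
    exact Nat.Even.sub_odd Nat.one_le_two_pow
      (Nat.even_pow.mpr ⟨even_two, by have := h.hn; omega⟩) odd_one
  exact inner_lin_pow _ _ hbij
    (fun d => by
      rw [SubgroupClass.coe_pow]
      exact (isClassFunction_isConj hψ (h.isConjPow m d)).symm) a

theorem classInner_sum_twists [Fintype M] (a b : D →* ℂˣ) :
    Cfsg.classInner (fun d : D => ∑ m : M, (tw M m a d : ℂ)) (fun d => (b d : ℂ)) = (cnt M a b : ℂ) := by
  classical
  have e : (fun d : D => ∑ m : M, (tw M m a d : ℂ)) = ∑ m : M, fun d : D => (tw M m a d : ℂ) := by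
    ext d; simp
  rw [e, classInner_sum_left]
  simp only [lin_inner, Finset.sum_boole, cnt, Nat.card_eq_fintype_card, Fintype.card_subtype]

/-- The function inducing the virtual character attached to two linear characters. -/
noncomputable def linSub (a b : D →* ℂˣ) : D → ℂ :=
  (fun d => (a d : ℂ)) - fun d => (b d : ℂ)

omit [Fintype A] [Fintype D] in
theorem linSub_one (a b : D →* ℂˣ) : linSub a b 1 = 0 := by simp [linSub]

theorem isGeneralized_linSub (a b : D →* ℂˣ) :
    Cfsg.IsGeneralizedCharacter A (Cfsg.indFun D (linSub a b)) :=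
  isGeneralized_indFun D (isGeneralized_sub
    (isGeneralized_of_isCharacter (irr_isCharacter (isIrrCharacter_linear a)))
    (isGeneralized_of_isCharacter (irr_isCharacter (isIrrCharacter_linear b))))

theorem SingerData.res_linSub (h : SingerData D M) (a b c : D →* ℂˣ) :
    wt D (Cfsg.indFun D (linSub a b)) c = (cnt M a c : ℂ) - (cnt M b c : ℂ) := by
  have := h.neZero
  have := Fintype.ofFinite M
  have e : (fun d : D => Cfsg.indFun D (linSub a b) d) =
      (fun d : D => ∑ m : M, (tw M m a d : ℂ)) - fun d : D => ∑ m : M, (tw M m b d : ℂ) := by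
    funext d
    rw [Pi.sub_apply, h.res _ (linSub_one a b) d, ← Finset.sum_sub_distrib]
    refine Finset.sum_congr rfl fun m _ => ?_
    simp only [linSub, Pi.sub_apply, tw, lin_pow_apply]
  rw [wt, e, classInner_sub_left, classInner_sum_twists, classInner_sum_twists]

theorem inner_ind_linSub {ψ : A → ℂ} (hψ : Cfsg.IsClassFunction A ψ) (a b : D →* ℂˣ) :
    Cfsg.classInner (Cfsg.indFun D (linSub a b)) ψ = conj (wt D ψ a - wt D ψ b) := by
  rw [frobenius_reciprocity D _ ψ hψ, linSub, classInner_sub_left, wt, wt, map_sub,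
    classInner_conj_symm, classInner_conj_symm]

theorem SingerData.gram (h : SingerData D M) (a b c d : D →* ℂˣ) :
    Cfsg.classInner (Cfsg.indFun D (linSub a b)) (Cfsg.indFun D (linSub c d)) =
      ((((cnt M c a : ℤ) - cnt M d a) - ((cnt M c b : ℤ) - cnt M d b) : ℤ) : ℂ) := by
  rw [inner_ind_linSub (indFun_isClassFunction _ _), h.res_linSub, h.res_linSub]
  simp

open scoped Classical in
theorem cnt_regular [NeZero n] [Fintype M] (hcard : Nat.card D = 2 ^ n - 1) {a : D →* ℂˣ}
    (ha : IsRegular M a) (b : D →* ℂˣ) : cnt M a b = if b ∈ orb M a then 1 else 0 := by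
  split_ifs with hb
  · obtain ⟨m, rfl⟩ := (mem_orb M).mp hb
    rw [cnt, Nat.card_eq_one_iff_unique]
    exact ⟨⟨fun x y => Subtype.ext (tw_inj M hcard ha (x.2.trans y.2.symm))⟩, ⟨⟨m, rfl⟩⟩⟩
  · rw [cnt, Nat.card_eq_zero]
    exact Or.inl ⟨fun x => hb ((mem_orb M).mpr ⟨x.1, x.2⟩)⟩

theorem cnt_le [NeZero n] (a b : D →* ℂˣ) : cnt M a b ≤ Nat.card M :=
  Nat.card_le_card_of_injective Subtype.val Subtype.val_injective

theorem cnt_one [NeZero n] : cnt M (1 : D →* ℂˣ) 1 = Nat.card M :=
  Nat.card_congr (Equiv.subtypeUnivEquiv fun m => tw_one_char M m)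

end CfsgLib.TimesPSL.Affine
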