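import Cfsg.Agent.Lib.TimesPSL.AffineFamily

/-!
# The weights of the exceptional characters: a single orbit
-/

set_option autoImplicit false
set_option linter.unusedSectionVars false

namespace CfsgLib.TimesPSL.Affine

open CfsgLib.Char
open scoped ComplexConjugate

universe u

attribute [-instance] MonoidHom.instPow

variable {n : ℕ} {A : Type u} [Group A] [Fintype A] {D : Subgroup A} [Fintype D]
  {M : AddSubgroup (ZMod n)}

/-- The outcome: characters `μ i` whose weights are exactly the regular orbits. -/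
structure Weights (D : Subgroup A) [Fintype D] (M : AddSubgroup (ZMod n)) [Fintype M]
    (a₀ : D →* ℂˣ) : Prop where
  exists_char : ∃ χ : A → ℂ, Cfsg.IsIrrCharacter A χ ∧ (χ 1 = (Fintype.card M : ℂ)) ∧
    (∀ a, wt D χ a = (orbInd (M := M) a₀ a : ℂ))
  small : ∀ ψ : A → ℂ, Cfsg.IsIrrCharacter A ψ → ∀ d : ℕ, ψ 1 = d →
    d ≤ Fintype.card M * Fintype.card M →
      wt D ψ 1 = 0 ∨ ∀ a : D →* ℂˣ, IsRegular M a → wt D ψ a = 0

set_option maxHeartbeats 400000 in
theorem singer_weights (h : SingerData D M) [NeZero n] [Fintype M] [Fintype (D →* ℂˣ)]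
    {a₀ : D →* ℂˣ} (ha₀ : IsRegular M a₀) (hcyc : IsCyclic (D →* ℂˣ)) : Weights D M a₀ := by
  classical
  obtain ⟨K, θ, i₀, hθ0, hθ, hdist, hcov, hKcard⟩ := exists_reps h ha₀
  obtain ⟨ε, μ, b, hε, hμ, hμinj, hb, hdeg, hdiff, hb0, hout⟩ := exists_family h θ i₀ hθ hdist
  subst hθ0
  set f := Fintype.card M with hf
  have hfM : Nat.card M = f := Nat.card_eq_fintype_card
  have hfn : f ∣ n := by
    have h1 := AddSubgroup.card_addSubgroup_dvd_card M
    rwa [Nat.card_zmod, hfM] at h1
  have hfodd : Odd f := hfM ▸ h.odd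
  -- counting the regular characters
  have hN : Nat.card (D →* ℂˣ) = 2 ^ n - 1 := by
    have hbot : commutator D = ⊥ := by
      rw [commutator_def, Subgroup.commutator_eq_bot_iff_le_centralizer]
      exact fun x _ => Subgroup.mem_centralizer_iff.mpr fun y _ => h.comm y x
    rw [natCard_linear, hbot, Subgroup.index_bot, h.card]
  have hRsum : K * f + (Finset.univ.filter fun a : D →* ℂˣ => ¬ IsRegular M a).card =
      2 ^ n - 1 := by
    rw [hKcard, Nat.card_eq_fintype_card, Fintype.card_subtype (fun b => IsRegular M b),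
      Finset.card_filter_add_card_filter_not, Finset.card_univ, ← Nat.card_eq_fintype_card, hN]
  have hirr := card_irregular M h.card h.odd hcyc
  have h2n : 16 ≤ 2 ^ n := le_trans (by norm_num : 16 ≤ 2 ^ 4) (Nat.pow_le_pow_right (by norm_num) h.hn)
  have hR : 2 ^ n ≤ K * f + 2 ^ (n / 3 + 1) := by omega
  have hone : ¬ IsRegular M (1 : D →* ℂˣ) := fun hc => hc.1 rfl
  have hsmall : n ≤ 5 → K * f + 2 = 2 ^ n := fun hn5 => by
    have h13 : n / 3 = 1 := by have := h.hn; omega
    have h1 : 1 ≤ (Finset.univ.filter fun a : D →* ℂˣ => ¬ IsRegular M a).card :=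
      Finset.card_pos.mpr ⟨1, Finset.mem_filter.mpr ⟨Finset.mem_univ _, hone⟩⟩
    rw [h13] at hirr
    norm_num at hirr
    omega
  obtain ⟨hK3, hKf, hK6, hff⟩ := orbit_count_bounds h.hn hfn hfodd hR hsmall
  have hε0 : ε ≠ 0 := by rcases hε with rfl | rfl <;> norm_num
  have hεsq : ε * ε = 1 := by rcases hε with rfl | rfl <;> norm_num
  have hind : ∀ i j, orbInd (M := M) (θ i) (θ j) = if i = j then 1 else 0 := fun i j => by
    rw [orbInd]
    by_cases hij : i = j
    · subst hij; rw [if_pos ((mem_orb M).mpr ⟨0, tw_zero M _⟩), if_pos rfl]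
    · rw [if_neg fun hm => hij (hdist j i hm).symm, if_neg hij]
  have hinv : ∀ i m x, b i (tw M m x) = b i x := fun i m x => by
    have h1 := h.wt_tw (irr_isClassFunction (hμ i)) m x
    rw [hb, hb] at h1
    exact_mod_cast h1
  set c : (D →* ℂˣ) → ℤ := fun x => (b i₀ x : ℤ) - ε * orbInd (M := M) (θ i₀) x with hc
  have hbc : ∀ i x, (b i x : ℤ) = c x + ε * orbInd (M := M) (θ i) x := fun i x => by
    have := hdiff i x
    simp only [hc]
    linear_combination this
  set a := c (θ i₀) with ha
  have hcreg : ∀ x, IsRegular M x → c x = a := fun x hx => by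
    obtain ⟨i, hi⟩ := hcov x hx
    obtain ⟨m, rfl⟩ := (mem_orb M).mp hi
    have h1 : c (tw M m (θ i)) = c (θ i) := by simp only [hc, hinv, orbInd_tw h]
    rw [h1]
    by_cases hii : i = i₀
    · rw [hii]
    · simp only [ha, hc, hind, if_neg (Ne.symm hii), if_true]
      have := hb0 i hii
      linear_combination this
  -- the trivial character lies outside the family
  have hwt1 : ∀ x : D →* ℂˣ, wt D (fun _ : A => (1 : ℂ)) x = if x = 1 then 1 else 0 := fun x => by
    have h1 := lin_inner (1 : D →* ℂˣ) x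
    simp only [MonoidHom.one_apply, Units.val_one] at h1
    rw [wt, h1]
    simp only [eq_comm]
  have htriv : ∀ i, μ i ≠ fun _ => 1 := fun i hi => by
    have hb1 : ∀ j, (b i (θ j) : ℤ) = 0 := fun j => by
      have h1 := hb i (θ j)
      rw [hi, hwt1, if_neg (hθ j).1] at h1
      exact_mod_cast h1.symm
    have : Nontrivial (Fin K) := Fin.nontrivial_iff_two_le.mpr (by omega)
    obtain ⟨j, hj⟩ := exists_ne i
    have h1 := hb1 i
    have h2 := hb1 j
    rw [hbc, hcreg _ (hθ _), hind, if_pos rfl] at h1
    rw [hbc, hcreg _ (hθ _), hind, if_neg hj.symm] at h2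
    exact hε0 (by linarith)
  obtain ⟨e, he⟩ := char_apply_one_eq_nat (irr_isCharacter (hμ i₀))
  have hμe : ∀ i, μ i 1 = e := fun i => (hdeg i).trans he
  have hepos : 0 < e := by
    obtain ⟨d, hd, hd'⟩ := irr_apply_one_pos (hμ i₀)
    rw [he] at hd'
    have : e = d := by exact_mod_cast hd'
    omega
  -- no irregular character has a different multiplicity
  have hcall : ∀ x, c x = a := fun x => by
    by_cases hx : IsRegular M x
    · exact hcreg x hx
    by_contra hne
    set y := c x - a with hy
    have hy0 : y ≠ 0 := sub_ne_zero.mpr hne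
    have hxorb : ∀ i, orbInd (M := M) (θ i) x = 0 := fun i => by
      rw [orbInd, if_neg]
      intro hm
      obtain ⟨m, rfl⟩ := (mem_orb M).mp hm
      exact hx (isRegular_tw M h.card (hθ i) m)
    have hcx : cnt M x (θ i₀) = 0 := by
      rw [cnt, Nat.card_eq_zero]
      exact Or.inl ⟨fun z => hx (by
        have e1 := congrArg (tw M (-z.1)) z.2
        rw [← tw_add M h.card, neg_add_cancel, tw_zero] at e1
        exact e1.symm ▸ isRegular_tw M h.card (hθ i₀) (-z.1))⟩
    have hcx' : cnt M (θ i₀) x = 0 := by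
      rw [cnt_regular h.card (hθ i₀), if_neg]
      intro hm
      obtain ⟨m, rfl⟩ := (mem_orb M).mp hm
      exact hx (isRegular_tw M h.card (hθ i₀) m)
    have hc00 : cnt M (θ i₀) (θ i₀) = 1 := by
      rw [cnt_regular h.card (hθ i₀), if_pos ((mem_orb M).mpr ⟨0, tw_zero M _⟩)]
    have hnorm : Cfsg.classInner (Cfsg.indFun D (linSub x (θ i₀)))
        (Cfsg.indFun D (linSub x (θ i₀))) = (((cnt M x x : ℤ) + 1 : ℤ) : ℂ) := by
      rw [h.gram, hcx, hcx', hc00]
      push_cast
      ring
    have hcoef : ∀ j, Cfsg.classInner (Cfsg.indFun D (linSub x (θ i₀))) (μ j) =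
        ((y - ε * (if j = i₀ then 1 else 0) : ℤ) : ℂ) := fun j => by
      rw [inner_ind_linSub (irr_isClassFunction (hμ j)), hb, hb, map_sub, map_natCast, map_natCast]
      have h1 : (b j x : ℤ) - b j (θ i₀) = y - ε * (if j = i₀ then 1 else 0) := by
        rw [hbc, hbc, hxorb, hcreg _ (hθ i₀), hind, hy]; ring
      rw [← h1]; push_cast; rfl
    have hsumj : ∑ j : Fin K, (y - ε * (if j = i₀ then 1 else 0)) ^ 2 =
        (K : ℤ) * y ^ 2 - 2 * ε * y + 1 := by
      rw [← Finset.add_sum_erase _ _ (Finset.mem_univ i₀), if_pos rfl,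
        Finset.sum_congr rfl (g := fun _ => y ^ 2) (fun j hj => by
          rw [if_neg (Finset.mem_erase.mp hj).1]; ring),
        Finset.sum_const, Finset.card_erase_of_mem (Finset.mem_univ i₀), Finset.card_univ,
        Fintype.card_fin, nsmul_eq_mul, Nat.cast_sub (by omega : 1 ≤ K)]
      linear_combination hεsq
    have hlow : (K : ℤ) - 1 ≤ (K : ℤ) * y ^ 2 - 2 * ε * y + 1 := by
      have hy1 : 1 ≤ y ^ 2 := sq_pos_of_ne_zero hy0
      have h3 : (0 : ℤ) ≤ (y - ε) ^ 2 := sq_nonneg _
      have h4 : ((K : ℤ) - 1) * 1 ≤ ((K : ℤ) - 1) * y ^ 2 :=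
        mul_le_mul_of_nonneg_left hy1 (by omega)
      have h5 : (y - ε) ^ 2 = y ^ 2 - 2 * ε * y + 1 := by linear_combination hεsq
      linarith
    have hle : (cnt M x x : ℤ) ≤ f := by
      have := cnt_le (M := M) x x
      rw [hfM] at this
      exact_mod_cast this
    by_cases hx1 : x = 1
    · subst hx1
      set ξ : Option (Fin K) → (A → ℂ) := fun o => o.elim (fun _ => 1) μ with hξ
      have hξirr : ∀ o, Cfsg.IsIrrCharacter A (ξ o) := fun o => by
        cases o with
        | none => exact isIrrCharacter_one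
        | some j => exact hμ j
      have hξinj : Function.Injective ξ := fun o o' hoo => by
        cases o with
        | none =>
          cases o' with
          | none => rfl
          | some j => exact absurd hoo.symm (htriv j)
        | some j =>
          cases o' with
          | none => exact absurd hoo (htriv j)
          | some j' => rw [hμinj hoo]
      obtain ⟨hbes, heq⟩ := bessel_int ξ hξirr hξinj (isGeneralized_linSub _ _) hnorm
        (fun o => o.elim 1 fun j => y - ε * (if j = i₀ then 1 else 0)) (fun o => by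
          cases o with
          | none =>
            simp only [hξ, Option.elim]
            rw [inner_ind_linSub (irr_isClassFunction isIrrCharacter_one), hwt1, hwt1, if_pos rfl,
              if_neg (hθ i₀).1]
            simp
          | some j => exact hcoef j)
      rw [Fintype.sum_option] at hbes heq
      simp only [Option.elim, hsumj] at hbes heq
      rw [cnt_one, hfM] at hbes heq
      have hKf' : (f : ℤ) + 1 ≤ K := by exact_mod_cast hKf
      have hy1 : y = ε := by
        by_contra hye
        have h3 : 1 ≤ (y - ε) ^ 2 := sq_pos_of_ne_zero (sub_ne_zero.mpr hye)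
        have hy1 : 1 ≤ y ^ 2 := sq_pos_of_ne_zero hy0
        have h4 : ((K : ℤ) - 1) * 1 ≤ ((K : ℤ) - 1) * y ^ 2 :=
          mul_le_mul_of_nonneg_left hy1 (by omega)
        have h5 : (y - ε) ^ 2 = y ^ 2 - 2 * ε * y + 1 := by linear_combination hεsq
        linarith
      have hval := heq (by linarith)
      rw [indFun_apply_one, linSub_one, mul_zero, Fintype.sum_option] at hval
      simp only [Option.elim, hξ, hμe, hy1, ← Finset.sum_mul] at hval
      rw [Int.cast_one, one_mul] at hval
      have hint : (0 : ℤ) = 1 + (∑ j : Fin K, (ε - ε * (if j = i₀ then 1 else 0))) * e := by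
        exact_mod_cast hval
      rw [Finset.sum_sub_distrib, Finset.sum_const, Finset.card_univ, Fintype.card_fin,
        nsmul_eq_mul, ← Finset.mul_sum, Finset.sum_ite_eq' Finset.univ i₀, if_pos (Finset.mem_univ _)]
        at hint
      have hK2 : (2 : ℤ) ≤ (K : ℤ) - 1 := by omega
      have he1 : (1 : ℤ) ≤ e := by exact_mod_cast hepos
      have : 2 * 1 ≤ ((K : ℤ) - 1) * e := mul_le_mul hK2 he1 (by norm_num) (by omega)
      rcases hε with rfl | rfl <;> linarith
    · obtain ⟨hbes, -⟩ := bessel_int μ hμ hμinj (isGeneralized_linSub _ _) hnorm _ hcoef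
      rw [hsumj] at hbes
      have h6 : 6 ≤ n := by
        by_contra hn5
        have h13 : n / 3 = 1 := by have := h.hn; omega
        rw [h13] at hirr
        norm_num at hirr
        have h2 : ({1, x} : Finset (D →* ℂˣ)) ⊆
            Finset.univ.filter fun z : D →* ℂˣ => ¬ IsRegular M z := by
          intro z hz
          simp only [Finset.mem_insert, Finset.mem_singleton] at hz
          rcases hz with rfl | rfl
          · exact Finset.mem_filter.mpr ⟨Finset.mem_univ _, hone⟩
          · exact Finset.mem_filter.mpr ⟨Finset.mem_univ _, hx⟩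
        have h3 := Finset.card_le_card h2
        rw [Finset.card_pair (Ne.symm hx1)] at h3
        omega
      have := hK6 h6
      have : ((f : ℤ) + 2 < K) := by exact_mod_cast this
      linarith
  -- degrees
  have ha0 : 0 ≤ a := by
    have h1 := hbc i₀ 1
    rw [hcall, orbInd, if_neg, mul_zero, add_zero] at h1
    · omega
    · intro hm
      obtain ⟨m, hm⟩ := (mem_orb M).mp hm
      exact (isRegular_tw M h.card (hθ i₀) m).1 hm
  have hesum : (e : ℤ) = a * ((2 ^ n - 1 : ℕ) : ℤ) + ε * f := by
    have h1 := sum_wt_one h.comm (μ i₀) (D := D)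
    simp only [hb, he] at h1
    have h2 : ((∑ x : D →* ℂˣ, b i₀ x : ℕ) : ℤ) = (e : ℤ) := by
      have : (∑ x : D →* ℂˣ, b i₀ x) = e := by exact_mod_cast h1
      exact_mod_cast this
    rw [← h2]
    push_cast
    simp only [hbc, hcall, Finset.sum_add_distrib, Finset.sum_const, Finset.card_univ,
      nsmul_eq_mul, ← Finset.mul_sum, sum_orbInd h (hθ i₀)]
    rw [← Nat.card_eq_fintype_card, hN]
    ring
  have hcA : Nat.card A = 2 ^ n * (2 ^ n - 1) * f := by rw [h.cardA, hfM]
  have haz : a = 0 := by
    by_contra hne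
    have ha1 : 1 ≤ a := by omega
    refine degree_exclusion (e := e) h.hn hfn hfodd hR hsmall ?_ ?_ ?_
    · have h3 : ((2 ^ n - 1 : ℕ) : ℤ) ≤ a * ((2 ^ n - 1 : ℕ) : ℤ) :=
        le_mul_of_one_le_left (Int.natCast_nonneg _) ha1
      have h4 : -(f : ℤ) ≤ ε * f := by rcases hε with rfl | rfl <;> omega
      have h5 : ((2 ^ n - 1 : ℕ) : ℤ) ≤ (e : ℤ) + f := by linarith
      have : 2 ^ n - 1 ≤ e + f := by exact_mod_cast h5
      omega
    · have := card_mul_sq_le μ hμ hμinj hμe
      rwa [Fintype.card_fin, hcA] at this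
    · rw [← hcA]; exact irr_degree_dvd (hμ i₀) he
  rw [haz, zero_mul, zero_add] at hesum
  have hε1 : ε = 1 := by
    rcases hε with e1 | e1
    · exact e1
    · rw [e1] at hesum; omega
  subst hε1
  have hb' : ∀ i x, (b i x : ℤ) = orbInd (M := M) (θ i) x := fun i x => by
    rw [hbc, hcall, haz]; ring
  refine ⟨⟨μ i₀, hμ i₀, ?_, fun x => ?_⟩, fun ψ hψ d hd hle => ?_⟩
  · rw [he]
    have : (e : ℤ) = f := by rw [hesum, one_mul]
    exact_mod_cast congr_arg (fun z : ℤ => (z : ℂ)) this
  · rw [hb, ← hb']; simp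
  · by_cases hfam : ∃ i, ψ = μ i
    · obtain ⟨i, rfl⟩ := hfam
      left
      have h1 : (b i 1 : ℤ) = 0 := by
        rw [hb', orbInd, if_neg]
        intro hm
        obtain ⟨m, hm⟩ := (mem_orb M).mp hm
        exact (isRegular_tw M h.card (hθ i) m).1 hm
      rw [hb]
      exact_mod_cast h1
    · right
      push Not at hfam
      choose k hk using fun x => wt_nat (D := D) (irr_isCharacter hψ) x
      have hkc : ∀ x, IsRegular M x → k x = k (θ i₀) := fun x hx => by
        obtain ⟨i, hi⟩ := hcov x hx
        obtain ⟨m, rfl⟩ := (mem_orb M).mp hi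
        have h1 := hout ψ hψ hfam i
        have h2 := h.wt_tw (irr_isClassFunction hψ) m (θ i)
        rw [hk, hk] at h1 h2
        exact_mod_cast h2.trans h1
      intro x hx
      rw [hk, hkc x hx]
      have hsum : ∑ z : D →* ℂˣ, k z = d := by
        have h1 := sum_wt_one h.comm ψ (D := D)
        simp only [hk, hd] at h1
        exact_mod_cast h1
      have h1 : ∑ z ∈ Finset.univ.filter (fun z : D →* ℂˣ => IsRegular M z), k z ≤ d :=
        hsum ▸ Finset.sum_le_sum_of_subset (Finset.subset_univ _)
      rw [Finset.sum_congr rfl fun z hz => hkc z (Finset.mem_filter.mp hz).2, Finset.sum_const,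
        smul_eq_mul, ← Fintype.card_subtype, ← Nat.card_eq_fintype_card, ← hKcard] at h1
      rcases Nat.eq_zero_or_pos (k (θ i₀)) with h0 | h0
      · rw [h0, Nat.cast_zero]
      · exfalso
        exact absurd (((Nat.le_mul_of_pos_right (K * f) h0).trans h1).trans hle) (not_le.mpr hff)

end CfsgLib.TimesPSL.Affine
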