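import Cfsg.Agent.Lib.TimesPSL.Good

/-!
# The action of `N(R⟨t⟩)` on `U`
-/

namespace CfsgLib.TimesPSL

open Subgroup

variable {G : Type*} [Group G]

/-- Conjugation of an element of a subgroup normalizing `U`. -/
noncomputable def conjHom (M U : Subgroup G) (hM : ∀ x ∈ M, ∀ u ∈ U, x * u * x⁻¹ ∈ U) :
    M →* MulAut U where
  toFun x :=
    { toFun := fun u => ⟨(x : G) * u * (x : G)⁻¹, hM x x.2 u u.2⟩
      invFun := fun u => ⟨(x : G)⁻¹ * u * x, by simpa using hM _ (inv_mem x.2) u u.2⟩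
      left_inv := fun u => Subtype.ext (by simp [mul_assoc])
      right_inv := fun u => Subtype.ext (by simp [mul_assoc])
      map_mul' := fun u v => Subtype.ext (by simp [mul_assoc]) }
  map_one' := MulEquiv.ext fun u => Subtype.ext (by simp)
  map_mul' x y := MulEquiv.ext fun u => Subtype.ext (by
    simp [mul_assoc, mul_inv_rev])

@[simp] theorem conjHom_apply (M U : Subgroup G) (hM : ∀ x ∈ M, ∀ u ∈ U, x * u * x⁻¹ ∈ U)
    (x : M) (u : U) : ((conjHom M U hM x u : U) : G) = (x : G) * u * (x : G)⁻¹ := rfl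

theorem conjHom_eq_iff (M U : Subgroup G) (hM : ∀ x ∈ M, ∀ u ∈ U, x * u * x⁻¹ ∈ U) (x y : M) :
    conjHom M U hM x = conjHom M U hM y ↔
      ∀ u ∈ U, (x : G) * u * (x : G)⁻¹ = (y : G) * u * (y : G)⁻¹ :=
  ⟨fun h u hu => congrArg Subtype.val (MulEquiv.congr_fun h ⟨u, hu⟩),
    fun h => MulEquiv.ext fun u => Subtype.ext (h u u.2)⟩

end CfsgLib.TimesPSL
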