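import Cfsg.Agent.Lib.TimesPSL.Elem

/-!
# An invariant character by averaging over an odd index
-/

namespace CfsgLib.TimesPSL

open Subgroup

variable {G : Type*} [Group G]

/-- A subgroup of index `2` containing `R` and missing `t`, when squares lie in `R`. -/
theorem exists_index_two [Finite G] {Y R : Subgroup G} (hRY : R ≤ Y)
    (hsq : ∀ y ∈ Y, y * y ∈ R) {t : G} (htY : t ∈ Y) (htR : t ∉ R) :
    ∃ M : Subgroup Y, M.index = 2 ∧ R.subgroupOf Y ≤ M ∧ (⟨t, htY⟩ : Y) ∉ M := by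
  let S : Set (Subgroup Y) := {M | R.subgroupOf Y ≤ M ∧ (⟨t, htY⟩ : Y) ∉ M}
  obtain ⟨M, hM, hMm⟩ := Set.Finite.exists_maximalFor id S (Set.toFinite _)
    ⟨R.subgroupOf Y, le_rfl, htR⟩
  refine ⟨M, ?_, hM.1, hM.2⟩
  have hs : ∀ a : Y, a * a ∈ M := fun a => hM.1 (hsq a a.2)
  have hcomm : ∀ a b : Y, b⁻¹ * a⁻¹ * b * a ∈ M := by
    intro a b
    have e : b⁻¹ * a⁻¹ * b * a = b⁻¹ * b⁻¹ * ((b * a⁻¹) * (b * a⁻¹)) * (a * a) := by group
    rw [e]; exact M.mul_mem (M.mul_mem (hs _) (hs _)) (hs a)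
  have hn : M.Normal := ⟨fun m hm a => by
    have := M.mul_mem hm (hcomm a⁻¹ m)
    rw [show m * (m⁻¹ * a⁻¹⁻¹ * m * a⁻¹) = a * m * a⁻¹ by group] at this
    exact this⟩
  rw [Subgroup.index_eq_two_iff]
  refine ⟨⟨t, htY⟩, fun a => ?_⟩
  by_cases ha : a ∈ M
  · exact Or.inr ⟨ha, fun h' => hM.2 ((mul_mem_cancel_left ha).1 h')⟩
  · refine Or.inl ⟨?_, ha⟩
    have hle : M ≤ M ⊔ zpowers a := le_sup_left
    have ht : (⟨t, htY⟩ : Y) ∈ M ⊔ zpowers a := by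
      by_contra h'
      have := hMm (j := M ⊔ zpowers a) ⟨hM.1.trans hle, h'⟩ hle
      exact ha (this (mem_sup_right (mem_zpowers a)))
    rw [← SetLike.mem_coe, Subgroup.normal_mul] at ht
    obtain ⟨m, hm, z, hz, hmz⟩ := ht
    obtain ⟨i, rfl⟩ := mem_zpowers_iff.1 hz
    have hi : a ^ i ∈ M ∨ a ^ i * a ∈ M := by
      rcases Int.even_or_odd i with ⟨l, hl⟩ | ⟨l, hl⟩
      · exact Or.inl (by rw [hl, zpow_add, ← (Commute.refl a).mul_zpow]; exact M.zpow_mem (hs a) l)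
      · refine Or.inr ?_
        rw [hl, zpow_add, zpow_one, two_mul, zpow_add, ← (Commute.refl a).mul_zpow, mul_assoc]
        exact M.mul_mem (M.zpow_mem (hs a) l) (hs a)
    rcases hi with hi | hi
    · exact absurd (hmz ▸ M.mul_mem hm hi) hM.2
    · have h1 : (⟨t, htY⟩ : Y) * a ∈ M := by
        rw [← hmz]
        change m * a ^ i * a ∈ M
        rw [mul_assoc]
        exact M.mul_mem hm hi
      have := hn.mem_comm h1
      exact this

/-- An average over an odd number of conjugates. -/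
theorem exists_inv_char [Finite G] {Y W W0 : Subgroup G} (hWY : W ≤ normalizer (Y : Set G))
    (hodd : Odd (W0.relIndex W)) (ψ : Y →* ℤˣ)
    (hW0 : ∀ (w : G) (_ : w ∈ W0) (y : G) (hy : y ∈ Y) (hy' : w * y * w⁻¹ ∈ Y),
      ψ ⟨w * y * w⁻¹, hy'⟩ = ψ ⟨y, hy⟩)
    {t : G} (htY : t ∈ Y) (hWt : ∀ w ∈ W, w * t = t * w) (hψt : ψ ⟨t, htY⟩ = -1) :
    ∃ χ : Y →* ℤˣ, χ ⟨t, htY⟩ = -1 ∧
      (∀ y : Y, (∀ (w : G) (_ : w ∈ W) (hy' : w * y * w⁻¹ ∈ Y), ψ ⟨w * y * w⁻¹, hy'⟩ = 1) →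
        χ y = 1) ∧
      ∀ (w : G) (_ : w ∈ W) (y : G) (hy : y ∈ Y) (hy' : w * y * w⁻¹ ∈ Y),
        χ ⟨w * y * w⁻¹, hy'⟩ = χ ⟨y, hy⟩ := by
  classical
  let Q := W ⧸ (W0.subgroupOf W)
  have := Fintype.ofFinite Q
  have hmem : ∀ (w : W) {y : G}, y ∈ Y → (w : G) * y * (w : G)⁻¹ ∈ Y := fun w y hy =>
    (mem_normalizer_iff.1 (hWY w.2) y).1 hy
  have hmem' : ∀ (w : W) {y : G}, y ∈ Y → (w : G)⁻¹ * y * w ∈ Y := fun w y hy => by
    simpa using hmem w⁻¹ hy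
  -- value of the summand at `q`
  let φ : W → Y →* ℤˣ := fun w =>
    { toFun := fun y => ψ ⟨(w : G)⁻¹ * y * w, hmem' w y.2⟩
      map_one' := by
        rw [← map_one ψ]; exact congrArg ψ (Subtype.ext (by simp))
      map_mul' := fun a b => by
        rw [← map_mul]; exact congrArg ψ (Subtype.ext (by simp [mul_assoc])) }
  have hwell : ∀ w w' : W, (QuotientGroup.mk w : Q) = QuotientGroup.mk w' → φ w = φ w' := by
    intro w w' he
    have hm : (w : G)⁻¹ * w' ∈ W0 := mem_subgroupOf.1 (QuotientGroup.eq.1 he)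
    ext y : 1
    change ψ ⟨(w : G)⁻¹ * y * w, _⟩ = ψ ⟨(w' : G)⁻¹ * y * w', _⟩
    rw [← hW0 _ hm ((w' : G)⁻¹ * y * w') (hmem' w' y.2) (by
      rw [show (w : G)⁻¹ * w' * ((w' : G)⁻¹ * y * w') * ((w : G)⁻¹ * w')⁻¹ =
        (w : G)⁻¹ * y * w by group]
      exact hmem' w y.2)]
    exact congrArg ψ (Subtype.ext (by simp [mul_assoc]))
  refine ⟨∏ q : Q, φ q.out, ?_, ?_, ?_⟩
  · rw [MonoidHom.finsetProd_apply]
    have h1 : ∀ q : Q, φ q.out ⟨t, htY⟩ = -1 := fun q => by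
      rw [← hψt]
      refine congrArg ψ (Subtype.ext ?_)
      change (q.out : G)⁻¹ * t * q.out = t
      rw [mul_assoc, ← hWt _ q.out.2, inv_mul_cancel_left]
    rw [Finset.prod_congr rfl fun q _ => h1 q, Finset.prod_const, Finset.card_univ,
      ← Nat.card_eq_fintype_card]
    exact Odd.neg_one_pow hodd
  · intro y hy
    rw [MonoidHom.finsetProd_apply]
    refine Finset.prod_eq_one fun q _ => ?_
    have := hy (q.out : G)⁻¹ (inv_mem q.out.2) (by simpa using hmem' q.out y.2)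
    rw [← this]
    exact congrArg ψ (Subtype.ext (by simp))
  · intro w hw y hy hy'
    rw [MonoidHom.finsetProd_apply, MonoidHom.finsetProd_apply]
    refine Fintype.prod_equiv (MulAction.toPerm (⟨w, hw⟩ : W)⁻¹) _ _ fun q => ?_
    have he : (QuotientGroup.mk ((⟨w, hw⟩ : W)⁻¹ * q.out) : Q) =
        QuotientGroup.mk ((⟨w, hw⟩ : W)⁻¹ • q).out := by
      rw [QuotientGroup.out_eq']
      conv_rhs => rw [← QuotientGroup.out_eq' q]
      rfl
    change φ q.out ⟨w * y * w⁻¹, hy'⟩ = φ ((⟨w, hw⟩ : W)⁻¹ • q).out ⟨y, hy⟩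
    rw [← hwell _ _ he]
    exact congrArg ψ (Subtype.ext (by simp [mul_assoc]))

end CfsgLib.TimesPSL
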