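import Cfsg.Agent.Lib.TimesPSL.Basic

/-!
# An involution with a given Sylow 2-subgroup of its centralizer
-/

namespace CfsgLib.TimesPSL

open Subgroup

variable {G : Type*} [Group G]

/-- `T` is a Sylow `2`-subgroup of the centralizer of the involution `t`. -/
structure Base (t : G) (T : Subgroup G) : Prop where
  ht : orderOf t = 2
  htT : t ∈ T
  hle : T ≤ centralizer ({t} : Set G)
  hT : IsPGroup 2 T
  hodd : Odd (T.relIndex (centralizer ({t} : Set G)))

theorem isConj_conj_iff {t x : G} (g : G) : IsConj t (g * x * g⁻¹) ↔ IsConj t x := by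
  have : IsConj x (g * x * g⁻¹) := isConj_iff.2 ⟨g, rfl⟩
  exact ⟨fun h => h.trans this.symm, fun h => h.trans this⟩

namespace Base

variable {t : G} {T : Subgroup G}

theorem tt (B : Base t T) : t * t = 1 := by
  rw [← pow_two, ← B.ht]; exact pow_orderOf_eq_one t

theorem t_ne_one (B : Base t T) : t ≠ 1 := fun h => by
  have := B.ht
  rw [h, orderOf_one] at this
  exact absurd this (by norm_num)

theorem comm (B : Base t T) {x : G} (hx : x ∈ T) : x * t = t * x :=
  mem_centralizer_singleton_iff.1 (B.hle hx)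

theorem card_centralizer (B : Base t T) :
    Nat.card (centralizer ({t} : Set G)) = Nat.card T * T.relIndex (centralizer ({t} : Set G)) := by
  rw [mul_comm, ← Subgroup.index_mul_card (T.subgroupOf (centralizer ({t} : Set G))),
    Nat.card_congr (Subgroup.subgroupOfEquivOfLe B.hle).toEquiv]
  rfl

theorem exists_card_eq [Finite G] (B : Base t T) : ∃ n, Nat.card T = 2 ^ n :=
  haveI : Fact (Nat.Prime 2) := ⟨Nat.prime_two⟩
  IsPGroup.iff_card.1 B.hT

/-- A `2`-subgroup centralizing a conjugate of `t` is no larger than `T`. -/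
theorem card_le [Finite G] (B : Base t T) {x : G} (hx : IsConj t x) {Q : Subgroup G}
    (hQ : IsPGroup 2 Q) (hQx : Q ≤ centralizer ({x} : Set G)) :
    Nat.card Q ≤ Nat.card T := by
  have : Fact (Nat.Prime 2) := ⟨Nat.prime_two⟩
  obtain ⟨g, rfl⟩ := isConj_iff.1 hx
  obtain ⟨m, hm⟩ := IsPGroup.iff_card.1 hQ
  have hmap : Q.map (MulAut.conj g⁻¹).toMonoidHom ≤ centralizer ({t} : Set G) := by
    rintro _ ⟨y, hy, rfl⟩
    have := mem_centralizer_singleton_iff.1 (hQx hy)
    rw [mem_centralizer_singleton_iff]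
    simp only [MulEquiv.toMonoidHom_eq_coe, MonoidHom.coe_coe, MulAut.conj_apply, inv_inv]
    calc g⁻¹ * y * g * t = g⁻¹ * (y * (g * t * g⁻¹)) * g := by group
      _ = g⁻¹ * (g * t * g⁻¹ * y) * g := by rw [this]
      _ = t * (g⁻¹ * y * g) := by group
  have hd := Subgroup.card_dvd_of_le hmap
  rw [Subgroup.card_map_of_injective (MulEquiv.injective _), B.card_centralizer, hm] at hd
  rw [hm]
  refine Nat.le_of_dvd Nat.card_pos ((Nat.Coprime.pow_left m ?_).dvd_of_dvd_mul_right hd)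
  exact (Nat.coprime_two_left.2 B.hodd)

theorem eq_of_le [Finite G] (B : Base t T) {Q : Subgroup G} (hQ : IsPGroup 2 Q) (hTQ : T ≤ Q)
    (hQt : Q ≤ centralizer ({t} : Set G)) : T = Q :=
  eq_of_le_of_card_ge hTQ (B.card_le (IsConj.refl t) hQ hQt)

/-- The centralizer of an extremal conjugate inside a `2`-subgroup. -/
theorem cent_mem [Finite G] (B : Base t T) {S : Subgroup G} (hS : IsPGroup 2 S) {g : G}
    (hg : ∀ x ∈ T, g⁻¹ * x * g ∈ S) {s : G} (hs : s ∈ S)
    (hc : s * (g⁻¹ * t * g) = g⁻¹ * t * g * s) : g * s * g⁻¹ ∈ T := by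
  let Q : Subgroup G := S ⊓ centralizer ({g⁻¹ * t * g} : Set G)
  have hT' : T.map (MulAut.conj g⁻¹).toMonoidHom ≤ Q := by
    rintro _ ⟨y, hy, rfl⟩
    simp only [MulEquiv.toMonoidHom_eq_coe, MonoidHom.coe_coe, MulAut.conj_apply, inv_inv]
    refine ⟨hg y hy, mem_centralizer_singleton_iff.2 ?_⟩
    calc g⁻¹ * y * g * (g⁻¹ * t * g) = g⁻¹ * (y * t) * g := by group
      _ = g⁻¹ * (t * y) * g := by rw [B.comm hy]
      _ = g⁻¹ * t * g * (g⁻¹ * y * g) := by group
  have hle := B.card_le (x := g⁻¹ * t * g) (isConj_iff.2 ⟨g⁻¹, by rw [inv_inv]⟩)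
    (hS.to_le (inf_le_left : Q ≤ S)) inf_le_right
  have he := eq_of_le_of_card_ge hT'
    (by rwa [Subgroup.card_map_of_injective (MulEquiv.injective _)])
  have hsQ : s ∈ Q := ⟨hs, mem_centralizer_singleton_iff.2 hc⟩
  rw [← he] at hsQ
  obtain ⟨y, hy, rfl⟩ := hsQ
  simpa [mul_assoc] using hy

/-- A `2`-subgroup of the centralizer of `t` is conjugate into `T`. -/
theorem conj_into [Finite G] (B : Base t T) {Q : Subgroup G} (hQ : IsPGroup 2 Q)
    (hQt : Q ≤ centralizer ({t} : Set G)) :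
    ∃ c : G, c * t = t * c ∧ ∀ x ∈ Q, c * x * c⁻¹ ∈ T := by
  have : Fact (Nat.Prime 2) := ⟨Nat.prime_two⟩
  set C := centralizer ({t} : Set G)
  have hTC : IsPGroup 2 (T.subgroupOf C) := B.hT.comap_subtype
  let P : Sylow 2 C := hTC.toSylow (by
    intro h
    exact (Nat.not_even_iff_odd.2 B.hodd) (even_iff_two_dvd.2 h))
  obtain ⟨R, hR⟩ := (hQ.comap_subtype (K := C) : IsPGroup 2 (Q.subgroupOf C)).exists_le_sylow
  obtain ⟨c, hc⟩ := MulAction.exists_smul_eq C R P
  refine ⟨c, mem_centralizer_singleton_iff.1 c.2, fun x hx => ?_⟩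
  have hxR : (⟨x, hQt hx⟩ : C) ∈ (R : Subgroup C) := hR hx
  have : MulAut.conj c ⟨x, hQt hx⟩ ∈ ((c • R : Sylow 2 C) : Subgroup C) := by
    rw [Sylow.smul_def, Sylow.pointwise_smul_def]
    exact Subgroup.smul_mem_pointwise_smul _ _ _ hxR
  rw [hc] at this
  exact this

theorem sylow_eq [Finite G] (B : Base t T) {S : Subgroup G} (hS : IsPGroup 2 S) (hTS : T ≤ S)
    {s : G} (hs : s ∈ S) (hc : s * t = t * s) : s ∈ T := by
  have := B.cent_mem hS (g := 1) (fun x hx => by simpa using hTS hx) hs (by simpa using hc)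
  simpa using this

end Base

end CfsgLib.TimesPSL
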