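import Cfsg.Agent.Lib.Transfer.SylowLemmas
import Mathlib.GroupTheory.Transfer
import Mathlib.GroupTheory.Perm.Cycle.Type
import Mathlib.GroupTheory.Sylow

/-!
# Parity and transfer arguments for an involution of a simple group
-/

namespace CfsgLib.TimesPSL

open Subgroup MulAction
open scoped Pointwise

variable {G : Type*} [Group G] [Finite G]

theorem hom_trivial [IsSimpleGroup G] (hG : ¬ IsMulCommutative G) {A : Type*} [CommGroup A]
    (f : G →* A) (g : G) : f g = 1 := by
  rcases IsSimpleGroup.eq_bot_or_eq_top_of_normal f.ker inferInstance with h | h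
  · refine absurd ⟨⟨fun a b => ?_⟩⟩ hG
    apply (MonoidHom.ker_eq_bot_iff f).1 h
    rw [map_mul, map_mul, mul_comm]
  · exact MonoidHom.mem_ker.1 (h ▸ mem_top g)

/-- The cosets of `H` fixed by `t`, counted by conjugates of `t` in `H`. -/
theorem card_fixed_mul (H : Subgroup G) (t : G) :
    Nat.card {x : G ⧸ H // t • x = x} * Nat.card H =
      Nat.card (centralizer ({t} : Set G)) * Nat.card {x : G // x ∈ H ∧ IsConj t x} := by
  classical
  have e1 : {g : G // g⁻¹ * t * g ∈ H} ≃ H × {x : G ⧸ H | t • x = x} :=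
    (Equiv.subtypeEquivRight fun g => by
      show g⁻¹ * t * g ∈ H ↔ (QuotientGroup.mk g : G ⧸ H) ∈ {x : G ⧸ H | t • x = x}
      rw [Set.mem_setOf_eq, MulAction.Quotient.smul_mk, QuotientGroup.eq, smul_eq_mul]
      constructor
      · intro h
        have := H.inv_mem h
        simpa [mul_assoc] using this
      · intro h
        have := H.inv_mem h
        simpa [mul_assoc] using this).trans
      (QuotientGroup.preimageMkEquivSubgroupProdSet H _)
  let φ : {g : G // g⁻¹ * t * g ∈ H} → {x : G // x ∈ H ∧ IsConj t x} := fun g =>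
    ⟨(g : G)⁻¹ * t * g, g.2, isConj_iff.2 ⟨(g : G)⁻¹, by rw [inv_inv]⟩⟩
  have hfib : ∀ x, Nat.card {g // φ g = x} = Nat.card (centralizer ({t} : Set G)) := by
    rintro ⟨x, hxH, hx⟩
    obtain ⟨d, hd⟩ := isConj_iff.1 hx
    refine Nat.card_congr
      { toFun := fun g => ⟨(g.1 : G) * d, ?_⟩
        invFun := fun c => ⟨⟨(c : G) * d⁻¹, ?_⟩, ?_⟩
        left_inv := fun g => by simp
        right_inv := fun c => by simp }
    · rw [mem_centralizer_singleton_iff]
      have h : (g.1 : G)⁻¹ * t * g.1 = x := congrArg Subtype.val g.2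
      replace h := h.trans hd.symm
      calc (g.1 : G) * d * t = (g.1 : G) * (d * t * d⁻¹) * d := by group
        _ = (g.1 : G) * ((g.1 : G)⁻¹ * t * g.1) * d := by rw [h]
        _ = t * ((g.1 : G) * d) := by group
    · have hc := mem_centralizer_singleton_iff.1 c.2
      have : ((c : G) * d⁻¹)⁻¹ * t * ((c : G) * d⁻¹) = x := by
        calc ((c : G) * d⁻¹)⁻¹ * t * ((c : G) * d⁻¹) = d * (c : G)⁻¹ * (t * c) * d⁻¹ := by group
          _ = d * t * d⁻¹ := by rw [← hc]; group
          _ = x := hd
      rw [this]; exact hxH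
    · have hc := mem_centralizer_singleton_iff.1 c.2
      refine Subtype.ext ?_
      calc ((c : G) * d⁻¹)⁻¹ * t * ((c : G) * d⁻¹) = d * (c : G)⁻¹ * (t * c) * d⁻¹ := by group
        _ = d * t * d⁻¹ := by rw [← hc]; group
        _ = x := hd
  have h2 : Nat.card {g : G // g⁻¹ * t * g ∈ H} =
      Nat.card {x : G // x ∈ H ∧ IsConj t x} * Nat.card (centralizer ({t} : Set G)) := by
    have := Fintype.ofFinite {x : G // x ∈ H ∧ IsConj t x}
    rw [← Nat.card_congr (Equiv.sigmaFiberEquiv φ), Nat.card_sigma,
      Finset.sum_congr rfl fun x _ => hfib x, Finset.sum_const, Finset.card_univ,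
      smul_eq_mul, ← Nat.card_eq_fintype_card]
  rw [Nat.card_congr e1, Nat.card_prod] at h2
  rw [mul_comm]
  exact h2.trans (mul_comm _ _)

/-- An involution of a non-abelian simple group acts on every coset space by an even permutation. -/
theorem fixed_mod_four [IsSimpleGroup G] (hG : ¬ IsMulCommutative G) (H : Subgroup G) {t : G}
    (ht : t * t = 1) :
    ((H.index : ℤ) - Nat.card {x : G ⧸ H // t • x = x}) % 4 = 0 := by
  classical
  have := Fintype.ofFinite (G ⧸ H)
  set σ := MulAction.toPermHom G (G ⧸ H) t with hσdef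
  have hsign := CfsgLib.Transfer.sign_eq_one_of_simple hG (MulAction.toPermHom G (G ⧸ H)) t
  have hσ : σ ^ 2 = 1 := by rw [hσdef, ← map_pow, pow_two, ht, map_one]
  rw [Equiv.Perm.sign_of_pow_two_eq_one hσ] at hsign
  have hF : Fintype.card (Function.fixedPoints σ) = Nat.card {x : G ⧸ H // t • x = x} := by
    rw [← Nat.card_eq_fintype_card]; rfl
  have hle : Fintype.card (Function.fixedPoints σ) ≤ Fintype.card (G ⧸ H) :=
    Fintype.card_subtype_le _
  have heven : 2 ∣ Fintype.card (G ⧸ H) - Fintype.card (Function.fixedPoints σ) := by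
    have : Fact (Nat.Prime 2) := ⟨Nat.prime_two⟩
    have h := Equiv.Perm.card_compl_support_modEq (p := 2) (n := 1) (σ := σ) (by rw [pow_one]; exact hσ)
    have hc : σ.supportᶜ.card = Fintype.card (Function.fixedPoints σ) := by
      rw [← Fintype.card_coe]
      exact Fintype.card_congr (Equiv.subtypeEquivRight fun x => by
        simp [Function.fixedPoints, Function.IsFixedPt])
    rw [hc] at h
    exact (Nat.modEq_iff_dvd' hle).1 h
  obtain ⟨r, hr⟩ := heven
  rw [Subgroup.index_eq_card, Nat.card_eq_fintype_card (α := G ⧸ H)]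
  rw [hr, Nat.mul_div_cancel_left r (by norm_num)] at hsign
  have : Even r := by
    rcases Nat.even_or_odd r with h | h
    · exact h
    · rw [h.neg_one_pow] at hsign; exact absurd hsign (by decide)
  obtain ⟨k, hk⟩ := this
  omega

/-- Transfer with values checked only at the cosets fixed by a `2`-subgroup `T` centralizing `t`. -/
theorem transfer_extremal [IsSimpleGroup G] (hG : ¬ IsMulCommutative G) (S : Sylow 2 G)
    {A : Type*} [CommGroup A] (f : (S : Subgroup G) →* A) {t : G} (ht : t * t = 1)
    (T : Subgroup G) (hT : IsPGroup 2 T) (htT : t ∈ T) (hTt : ∀ x ∈ T, x * t = t * x)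
    (a : A) (ha : a ≠ 1)
    (h : ∀ (g : G) (hx : g⁻¹ * t * g ∈ (S : Subgroup G)),
      (∀ x ∈ T, g⁻¹ * x * g ∈ (S : Subgroup G)) → f ⟨_, hx⟩ = a) : False := by
  classical
  have := Fintype.ofFinite (G ⧸ (S : Subgroup G))
  have := Fintype.ofFinite (Quotient (orbitRel (zpowers t) (G ⧸ (S : Subgroup G))))
  have := Fintype.ofFinite (Quotient (orbitRel T (G ⧸ (S : Subgroup G))))
  let val : G ⧸ (S : Subgroup G) → A := fun q =>
    if hq : q.out⁻¹ * t * q.out ∈ (S : Subgroup G) then f ⟨_, hq⟩ else 1
  have hfix : ∀ g : G, t • (QuotientGroup.mk g : G ⧸ (S : Subgroup G)) = QuotientGroup.mk g ↔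
      g⁻¹ * t * g ∈ (S : Subgroup G) := by
    intro g
    rw [MulAction.Quotient.smul_mk, QuotientGroup.eq, smul_eq_mul, ← inv_mem_iff]
    simp [mul_assoc]
  have hval : ∀ (g : G) (hg : g⁻¹ * t * g ∈ (S : Subgroup G)),
      val (QuotientGroup.mk g) = f ⟨_, hg⟩ := by
    intro g hg
    obtain ⟨s, hs⟩ := QuotientGroup.mk_out_eq_mul (S : Subgroup G) g
    have hmem : (QuotientGroup.mk g : G ⧸ (S : Subgroup G)).out⁻¹ * t *
        (QuotientGroup.mk g : G ⧸ (S : Subgroup G)).out ∈ (S : Subgroup G) :=
      (hfix _).1 (by rw [QuotientGroup.out_eq']; exact (hfix g).2 hg)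
    simp only [val, dif_pos hmem]
    have : (⟨_, hmem⟩ : (S : Subgroup G)) = s⁻¹ * ⟨_, hg⟩ * s := Subtype.ext (by
      simp only [hs, Subgroup.coe_mul, Subgroup.coe_inv]; group)
    rw [this, map_mul, map_mul, map_inv, mul_comm, ← mul_assoc, mul_inv_cancel, one_mul]
  have hval0 : ∀ g : G, g⁻¹ * t * g ∉ (S : Subgroup G) → val (QuotientGroup.mk g) = 1 := by
    intro g hg
    refine dif_neg fun hmem => hg ((hfix g).1 ?_)
    have := (hfix _).2 hmem
    rwa [QuotientGroup.out_eq'] at this
  have hsq : ∀ q, val q * val q = 1 := by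
    intro q
    simp only [val]
    split_ifs with hq
    · rw [← map_mul]
      refine (congrArg f (Subtype.ext ?_)).trans (map_one f)
      calc q.out⁻¹ * t * q.out * (q.out⁻¹ * t * q.out) = q.out⁻¹ * (t * t) * q.out := by group
        _ = 1 := by rw [ht]; group
    · exact one_mul 1
  -- the transfer of `t`
  have hV : ∏ q, val q = MonoidHom.transfer f t := by
    rw [MonoidHom.transfer_eq_prod_quotient_orbitRel_zpowers_quot,
      ← Finset.prod_fiberwise (Finset.univ)
        (fun q => (⟦q⟧ : Quotient (orbitRel (zpowers t) (G ⧸ (S : Subgroup G))))) val]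
    refine Finset.prod_congr rfl fun ω _ => ?_
    by_cases hω : t • ω.out = ω.out
    · have hs : Finset.univ.filter (fun q => (⟦q⟧ : Quotient (orbitRel (zpowers t)
          (G ⧸ (S : Subgroup G)))) = ω) = {ω.out} := by
        ext q
        simp only [Finset.mem_filter, Finset.mem_univ, true_and, Finset.mem_singleton]
        refine ⟨fun hq => ?_, fun hq => by rw [hq, Quotient.out_eq]⟩
        obtain ⟨⟨x, hx⟩, hxq⟩ := Quotient.exact (hq.trans ω.out_eq.symm)
        obtain ⟨k, rfl⟩ := mem_zpowers_iff.1 hx
        rw [← hxq]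
        exact smul_eq_self_of_mem_zpowers (zpow_mem (mem_zpowers t) k) hω
      have hp : Function.minimalPeriod (t • ·) ω.out = 1 :=
        Function.minimalPeriod_eq_one_iff_isFixedPt.2 hω
      rw [hs, Finset.prod_singleton]
      have hm := QuotientGroup.out_conj_pow_minimalPeriod_mem (S : Subgroup G) t ω.out
      have hm' : ω.out.out⁻¹ * t * ω.out.out ∈ (S : Subgroup G) := by
        rwa [hp, pow_one] at hm
      simp only [val, dif_pos hm']
      congr 1
      exact Subtype.ext (by simp only [hp, pow_one])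
    · have hp : Function.minimalPeriod (t • ·) ω.out = 2 := by
        have hd : Function.minimalPeriod (t • ·) ω.out ∣ 2 := by
          apply Function.IsPeriodicPt.minimalPeriod_dvd
          change t • t • ω.out = ω.out
          rw [← mul_smul, ht, one_smul]
        rcases (Nat.dvd_prime Nat.prime_two).1 hd with h1 | h1
        · exact absurd (Function.minimalPeriod_eq_one_iff_isFixedPt.1 h1) hω
        · exact h1
      rw [Finset.prod_eq_one]
      · refine ((congrArg f (Subtype.ext ?_)).trans (map_one f)).symm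
        simp only [hp, pow_two, ht]
        simp
      · intro q hq
        simp only [Finset.mem_filter, Finset.mem_univ, true_and] at hq
        obtain ⟨⟨x, hx⟩, hxq⟩ := Quotient.exact (hq.trans ω.out_eq.symm)
        refine dif_neg fun hmem => hω ?_
        have hq' := (hfix _).2 hmem
        rw [QuotientGroup.out_eq'] at hq'
        have : x • ω.out = q := hxq
        rw [← this, ← mul_smul] at hq'
        obtain ⟨k, rfl⟩ := mem_zpowers_iff.1 hx
        rw [(Commute.self_zpow t k).eq, mul_smul] at hq'
        exact smul_left_cancel _ hq'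
  have hV1 : MonoidHom.transfer f t = 1 := hom_trivial hG _ t
  -- orbits of `T`
  have hTval : ∀ (x : T) q, val (x • q) = val q := by
    intro x q
    induction q using QuotientGroup.induction_on with
    | _ g =>
      change val (QuotientGroup.mk ((x : G) * g)) = _
      have he : ((x : G) * g)⁻¹ * t * ((x : G) * g) = g⁻¹ * t * g := by
        calc ((x : G) * g)⁻¹ * t * ((x : G) * g) = g⁻¹ * ((x : G)⁻¹ * (t * x)) * g := by group
          _ = g⁻¹ * t * g := by rw [← hTt x x.2]; group
      by_cases hg : g⁻¹ * t * g ∈ (S : Subgroup G)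
      · rw [hval g hg, hval ((x : G) * g) (he ▸ hg)]
        exact congrArg f (Subtype.ext he)
      · rw [hval0 g hg, hval0 _ (he ▸ hg)]
  have hprod : ∏ q, val q = ∏ q ∈ Finset.univ.filter (fun q => q ∈ fixedPoints T _), val q := by
    rw [Finset.prod_filter, ← Finset.prod_fiberwise Finset.univ
        (fun q => (⟦q⟧ : Quotient (orbitRel T (G ⧸ (S : Subgroup G))))) val,
      ← Finset.prod_fiberwise Finset.univ
        (fun q => (⟦q⟧ : Quotient (orbitRel T (G ⧸ (S : Subgroup G)))))
        (fun q => if q ∈ fixedPoints T _ then val q else 1)]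
    refine Finset.prod_congr rfl fun ω _ => ?_
    by_cases hω : ω.out ∈ fixedPoints T (G ⧸ (S : Subgroup G))
    · refine Finset.prod_congr rfl fun q hq => ?_
      simp only [Finset.mem_filter, Finset.mem_univ, true_and] at hq
      obtain ⟨x, hxq⟩ := Quotient.exact (hq.trans ω.out_eq.symm)
      have hxq' : x • ω.out = q := hxq
      rw [if_pos]
      rw [← hxq', hω x]
      exact hω
    · have hnf : ∀ q ∈ Finset.univ.filter (fun q => (⟦q⟧ : Quotient (orbitRel T
          (G ⧸ (S : Subgroup G)))) = ω), val q = val ω.out ∧ q ∉ fixedPoints T _ := by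
        intro q hq
        simp only [Finset.mem_filter, Finset.mem_univ, true_and] at hq
        obtain ⟨x, hxq⟩ := Quotient.exact (hq.trans ω.out_eq.symm)
        have hxq' : x • ω.out = q := hxq
        refine ⟨hxq' ▸ hTval x _, fun hfix' => hω fun y => ?_⟩
        have h1 := hfix' x⁻¹
        rw [← hxq', inv_smul_smul] at h1
        rw [h1, hxq']
        exact hfix' y
      rw [Finset.prod_congr rfl (fun q hq => (hnf q hq).1), Finset.prod_const,
        Finset.prod_congr rfl (fun q hq => if_neg (hnf q hq).2), Finset.prod_const_one]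
      have hc : (Finset.univ.filter (fun q => (⟦q⟧ : Quotient (orbitRel T
          (G ⧸ (S : Subgroup G)))) = ω)).card = Nat.card (orbit T ω.out) := by
        rw [← Fintype.card_subtype, ← Nat.card_eq_fintype_card]
        refine Nat.card_congr (Equiv.subtypeEquivRight fun q => ?_)
        rw [← orbitRel_apply]
        exact ⟨fun hq => Quotient.exact (hq.trans ω.out_eq.symm),
          fun hq => (Quotient.sound hq).trans ω.out_eq⟩
      have : Fact (Nat.Prime 2) := ⟨Nat.prime_two⟩
      obtain ⟨k, hk⟩ := hT.card_orbit ω.out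
      rw [hc, hk]
      rcases k with _ | k
      · exfalso
        refine hω fun y => ?_
        have hsub : Subsingleton (orbit T ω.out) :=
          (Nat.card_eq_one_iff_unique.1 (by rw [hk, pow_zero])).1
        exact congrArg Subtype.val (hsub.elim ⟨_, mem_orbit _ y⟩ ⟨_, mem_orbit_self _⟩)
      · rw [pow_succ', pow_mul, pow_two, hsq, one_pow]
  have hall : ∀ q ∈ Finset.univ.filter (fun q => q ∈ fixedPoints T (G ⧸ (S : Subgroup G))),
      val q = a := by
    intro q hq
    simp only [Finset.mem_filter, Finset.mem_univ, true_and] at hq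
    induction q using QuotientGroup.induction_on with
    | _ g =>
      have hx : ∀ x ∈ T, g⁻¹ * x * g ∈ (S : Subgroup G) := by
        intro x hxT
        have := hq ⟨x, hxT⟩
        change (QuotientGroup.mk (x * g) : G ⧸ (S : Subgroup G)) = _ at this
        rw [QuotientGroup.eq, ← inv_mem_iff] at this
        simpa [mul_assoc] using this
      rw [hval g (hx t htT)]
      exact h g _ hx
  rw [hV1, hprod] at hV
  rw [Finset.prod_congr rfl hall, Finset.prod_const] at hV
  have : Fact (Nat.Prime 2) := ⟨Nat.prime_two⟩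
  have hodd : Odd (Finset.univ.filter
      (fun q => q ∈ fixedPoints T (G ⧸ (S : Subgroup G)))).card := by
    rw [← Fintype.card_subtype, ← Nat.card_eq_fintype_card]
    have hm := hT.card_modEq_card_fixedPoints (G ⧸ (S : Subgroup G))
    rw [← Subgroup.index_eq_card] at hm
    have hn : ¬ 2 ∣ (S : Subgroup G).index := S.not_dvd_index
    rw [Nat.two_dvd_ne_zero] at hn
    unfold Nat.ModEq at hm
    rw [Nat.odd_iff]
    exact hm.symm.trans hn
  obtain ⟨j, hj⟩ := hodd
  have ha2 : a * a = 1 := by
    obtain ⟨q, hq⟩ := Finset.card_pos.1 (by omega : 0 < (Finset.univ.filter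
      (fun q => q ∈ fixedPoints T (G ⧸ (S : Subgroup G)))).card)
    rw [← hall q hq]; exact hsq q
  rw [hj, pow_succ, pow_mul, pow_two, ha2, one_pow, one_mul] at hV
  exact ha hV

end CfsgLib.TimesPSL
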