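import Mathlib.GroupTheory.Index
import Mathlib.GroupTheory.SpecificGroups.Dihedral
import Mathlib.Tactic.Linarith
import Mathlib.Tactic.LinearCombination
import Mathlib.Tactic.Ring

/-!
# The sign character of a subgroup of index two and dihedral facts
-/

namespace CfsgLib.TimesPSL

open Subgroup

variable {S : Type*} [Group S]

/-- The character with kernel a subgroup of index `2`. -/
noncomputable def sgnHom (M : Subgroup S) (hM : M.index = 2) : S →* ℤˣ := by
  classical
  exact
  { toFun := fun x => if x ∈ M then 1 else -1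
    map_one' := if_pos M.one_mem
    map_mul' := fun x y => by
      have h := Subgroup.mul_mem_iff_of_index_two hM (a := x) (b := y)
      by_cases hx : x ∈ M <;> by_cases hy : y ∈ M <;> simp [h, hx, hy] }

theorem sgnHom_of_not_mem (M : Subgroup S) (hM : M.index = 2) {x : S} (hx : x ∉ M) :
    sgnHom M hM x = -1 := by
  classical
  simp [sgnHom, hx]

section Dihedral

open DihedralGroup

variable {k : ℕ}

theorem dih_zmod_half (hk : 4 ∣ k) (hk0 : k ≠ 0) {a : ZMod k} (ha : a + a = 0) :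
    a = 0 ∨ a = (k / 2 : ℕ) := by
  haveI : NeZero k := ⟨hk0⟩
  obtain ⟨j, rfl⟩ := hk
  have hv : ((a.val + a.val : ℕ) : ZMod (4 * j)) = 0 := by
    rw [Nat.cast_add, ZMod.natCast_zmod_val]; exact ha
  rw [ZMod.natCast_eq_zero_iff] at hv
  have := a.val_lt
  obtain ⟨c, hc⟩ := hv
  have hc2 : c = 0 ∨ c = 1 := by
    rcases c with _ | _ | c
    · exact Or.inl rfl
    · exact Or.inr rfl
    · exfalso
      nlinarith
  rcases hc2 with rfl | rfl
  · exact Or.inl ((ZMod.val_eq_zero a).1 (by omega))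
  · refine Or.inr ?_
    rw [← ZMod.natCast_zmod_val a]
    congr 1
    omega

theorem dih_half_add (hk : 4 ∣ k) : ((k / 2 : ℕ) : ZMod k) + (k / 2 : ℕ) = 0 := by
  obtain ⟨j, rfl⟩ := hk
  rw [← Nat.cast_add, ZMod.natCast_eq_zero_iff]
  exact ⟨1, by omega⟩

theorem dih_half_ne (hk : 4 ∣ k) (hk0 : k ≠ 0) : ((k / 2 : ℕ) : ZMod k) ≠ 0 := by
  rw [Ne, ZMod.natCast_eq_zero_iff]
  intro h
  obtain ⟨j, rfl⟩ := hk
  have := Nat.le_of_dvd (by omega) h
  omega

/-- The square roots of `1` in a dihedral group. -/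
theorem dih_sq_one (hk : 4 ∣ k) (hk0 : k ≠ 0) {d : DihedralGroup k} (hd : d * d = 1) :
    d = 1 ∨ d = r (k / 2 : ℕ) ∨ ∃ i, d = sr i := by
  cases d with
  | r a =>
    rw [r_mul_r, ← r_zero] at hd
    rcases dih_zmod_half hk hk0 (r.inj hd) with h | h
    · exact Or.inl (by rw [h, r_zero])
    · exact Or.inr (Or.inl (by rw [h]))
  | sr a => exact Or.inr (Or.inr ⟨a, rfl⟩)

theorem dih_half_sq (hk : 4 ∣ k) :
    r (k / 2 : ℕ) * r (k / 2 : ℕ) = (1 : DihedralGroup k) := by
  rw [r_mul_r, dih_half_add hk, r_zero]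

/-- The central elements of a dihedral group of order divisible by `8`. -/
theorem dih_central (hk : 4 ∣ k) (hk0 : k ≠ 0) {d : DihedralGroup k} (hd : ∀ x, d * x = x * d) :
    d = 1 ∨ d = r (k / 2 : ℕ) := by
  cases d with
  | r a =>
    have h := hd (sr 0)
    rw [r_mul_sr, sr_mul_r] at h
    have h' := sr.inj h
    rcases dih_zmod_half hk hk0 (a := a) (by linear_combination -h') with h1 | h1
    · exact Or.inl (by rw [h1, r_zero])
    · exact Or.inr (by rw [h1])
  | sr a =>
    have h := hd (r 1)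
    rw [sr_mul_r, r_mul_sr] at h
    have h' := sr.inj h
    exfalso
    have h2 : ((2 : ℕ) : ZMod k) = 0 := by push_cast; linear_combination h'
    rw [ZMod.natCast_eq_zero_iff] at h2
    have := Nat.le_of_dvd (by norm_num) h2
    have := Nat.le_of_dvd (Nat.pos_of_ne_zero hk0) hk
    omega

theorem dih_half_central (hk : 4 ∣ k) (x : DihedralGroup k) :
    r (k / 2 : ℕ) * x = x * r (k / 2 : ℕ) := by
  have h := dih_half_add (k := k) hk
  cases x with
  | r a => rw [r_mul_r, r_mul_r, add_comm]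
  | sr a =>
    rw [r_mul_sr, sr_mul_r]
    congr 1
    linear_combination -h

theorem dih_half_is_sq (hk : 4 ∣ k) :
    r (k / 4 : ℕ) * r (k / 4 : ℕ) = (r (k / 2 : ℕ) : DihedralGroup k) := by
  obtain ⟨j, rfl⟩ := hk
  rw [r_mul_r, ← Nat.cast_add]
  congr 2
  omega

end Dihedral

end CfsgLib.TimesPSL
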