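import Cfsg.Agent.Lib.TimesPSL.Base
import Cfsg.Agent.Lib.TimesPSL.Sgn
import Mathlib.GroupTheory.PGroup

/-!
# No simple group has an involution centralizer with Sylow 2-subgroup `Z₂ × dihedral`
(when the involutions of the dihedral factor are fused in the centralizer).
-/

namespace CfsgLib.TimesPSL

open Subgroup DihedralGroup

variable {G : Type*} [Group G]

/-- The situation. -/
structure DSetup (t : G) (T D : Subgroup G) (k : ℕ) : Prop where
  base : Base t T
  hDT : D ≤ T
  htD : t ∉ D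
  hsplit : ∀ x ∈ T, x ∈ D ∨ x * t ∈ D
  hk : 4 ∣ k
  hk0 : k ≠ 0
  hiso : Nonempty (DihedralGroup k ≃* D)
  hI : ∀ a ∈ D, ∀ b ∈ D, a * a = 1 → a ≠ 1 → b * b = 1 → b ≠ 1 →
    ∃ c : G, c * t = t * c ∧ c * a * c⁻¹ = b

namespace DSetup

variable {t : G} {T D : Subgroup G} {k : ℕ}

theorem exists_z (h : DSetup t T D k) :
    ∃ z ∈ D, z ≠ 1 ∧ z * z = 1 ∧ (∀ d ∈ D, z * d = d * z) ∧ (∃ w ∈ D, w * w = z) ∧
      (∀ x ∈ D, (∀ d ∈ D, x * d = d * x) → x = 1 ∨ x = z) ∧
      ∃ s ∈ D, s * s = 1 ∧ s ≠ 1 ∧ ∀ δ ∈ D, δ * δ = z → δ * s = z * (s * δ) := by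
  obtain ⟨e⟩ := h.hiso
  refine ⟨e (r (k / 2 : ℕ)), (e _).2, ?_, ?_, ?_, ⟨e (r (k / 4 : ℕ)), (e _).2, ?_⟩, ?_,
    e (sr 0), (e _).2, ?_, ?_, ?_⟩
  · intro h1
    have : r (k / 2 : ℕ) = (1 : DihedralGroup k) :=
      e.injective (by rw [map_one]; exact Subtype.ext h1)
    rw [← r_zero] at this
    exact dih_half_ne h.hk h.hk0 (r.inj this)
  · rw [← Subgroup.coe_mul, ← map_mul, dih_half_sq h.hk, map_one, Subgroup.coe_one]
  · intro d hd
    obtain ⟨d', hd'⟩ := e.surjective ⟨d, hd⟩
    have : d = (e d' : G) := by rw [hd']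
    rw [this, ← Subgroup.coe_mul, ← Subgroup.coe_mul, ← map_mul, ← map_mul, dih_half_central h.hk]
  · rw [← Subgroup.coe_mul, ← map_mul, dih_half_is_sq h.hk]
  · intro x hx hc
    obtain ⟨x', hx'⟩ := e.surjective ⟨x, hx⟩
    have hxe : x = (e x' : G) := by rw [hx']
    rcases dih_central h.hk h.hk0 (d := x') (fun y => e.injective (Subtype.ext (by
      rw [map_mul, map_mul, Subgroup.coe_mul, Subgroup.coe_mul, ← hxe]
      exact hc _ (e y).2))) with h1 | h1
    · exact Or.inl (by rw [hxe, h1, map_one, Subgroup.coe_one])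
    · exact Or.inr (by rw [hxe, h1])
  · rw [← Subgroup.coe_mul, ← map_mul, sr_mul_self, map_one, Subgroup.coe_one]
  · intro h1
    have : sr 0 = (1 : DihedralGroup k) := e.injective (by rw [map_one]; exact Subtype.ext h1)
    rw [← r_zero] at this
    cases this
  · intro δ hδ hδ2
    obtain ⟨d, hd⟩ := e.surjective ⟨δ, hδ⟩
    have hδe : δ = (e d : G) := by rw [hd]
    have hd2 : d * d = r (k / 2 : ℕ) := e.injective (Subtype.ext (by
      rw [map_mul, Subgroup.coe_mul, ← hδe, hδ2]))
    rw [hδe, ← Subgroup.coe_mul, ← Subgroup.coe_mul, ← Subgroup.coe_mul, ← map_mul, ← map_mul,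
      ← map_mul]
    congr 2
    cases d with
    | r a =>
      rw [r_mul_r] at hd2
      have ha := r.inj hd2
      have hh := dih_half_add (k := k) h.hk
      rw [r_mul_sr, sr_mul_r, r_mul_sr]
      congr 1
      linear_combination hh - ha - hh + hh - hh
    | sr a =>
      rw [sr_mul_self, ← r_zero] at hd2
      exact absurd (r.inj hd2).symm (dih_half_ne h.hk h.hk0)

theorem inv_card (h : DSetup t T D k) [Finite G] :
    Nat.card {d : G // d ∈ D ∧ d * d = 1 ∧ d ≠ 1} = k + 1 := by
  obtain ⟨e⟩ := h.hiso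
  have : NeZero k := ⟨h.hk0⟩
  have e1 : Option (ZMod k) ≃ {d : G // d ∈ D ∧ d * d = 1 ∧ d ≠ 1} := by
    refine Equiv.ofBijective (fun o => ⟨(e (o.elim (r (k / 2 : ℕ)) sr) : G), ?_⟩) ⟨?_, ?_⟩
    · refine ⟨(e _).2, ?_, ?_⟩
      · rw [← Subgroup.coe_mul, ← map_mul]
        cases o with
        | none => rw [Option.elim_none, dih_half_sq h.hk, map_one, Subgroup.coe_one]
        | some i => rw [Option.elim_some, sr_mul_self, map_one, Subgroup.coe_one]
      · intro h1
        have h2 : o.elim (r (k / 2 : ℕ)) sr = (1 : DihedralGroup k) :=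
          e.injective (by rw [map_one]; exact Subtype.ext h1)
        rw [← r_zero] at h2
        cases o with
        | none => exact dih_half_ne h.hk h.hk0 (r.inj h2)
        | some i => cases h2
    · intro a b hab
      have h' : ((e (a.elim (r (k / 2 : ℕ)) sr) : D) : G) = ((e (b.elim (r (k / 2 : ℕ)) sr) : D) : G) :=
        (congrArg Subtype.val hab :)
      have := e.injective (Subtype.ext h')
      cases a <;> cases b <;> simp at this <;> simp [this]
    · rintro ⟨d, hd, hd2, hd1⟩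
      obtain ⟨d', hd'⟩ := e.surjective ⟨d, hd⟩
      have hde : d = (e d' : G) := by rw [hd']
      have hd2' : d' * d' = 1 := e.injective (Subtype.ext (by
        rw [map_mul, map_one, Subgroup.coe_mul, ← hde, hd2, Subgroup.coe_one]))
      rcases dih_sq_one h.hk h.hk0 hd2' with rfl | rfl | ⟨i, rfl⟩
      · exact absurd (by rw [hde, map_one, Subgroup.coe_one]) hd1
      · exact ⟨none, Subtype.ext hde.symm⟩
      · exact ⟨some i, Subtype.ext hde.symm⟩
  rw [← Nat.card_congr e1, Nat.card_eq_fintype_card, Fintype.card_option, ZMod.card]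

theorem t_mul_mem (h : DSetup t T D k) {x : G} (hx : x ∈ T) (hxD : x ∉ D) :
    ∃ d ∈ D, x = t * d := by
  refine ⟨x * t, (h.hsplit x hx).resolve_left hxD, ?_⟩
  calc x = x * (t * t) := by rw [h.base.tt, mul_one]
    _ = x * t * t := by group
    _ = t * x * t := by rw [h.base.comm hx]
    _ = t * (x * t) := by group

theorem sq_mem (h : DSetup t T D k) {x : G} (hx : x ∈ T) : x * x ∈ D := by
  rcases h.hsplit x hx with hD | hD
  · exact D.mul_mem hD hD
  · have : x * t * (x * t) = x * x := by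
      calc x * t * (x * t) = x * (t * x) * t := by group
        _ = x * (x * t) * t := by rw [h.base.comm hx]
        _ = x * x * (t * t) := by group
        _ = x * x := by rw [h.base.tt, mul_one]
    rw [← this]; exact D.mul_mem hD hD

end DSetup

/-- **The dihedral case.** -/
theorem case_dihedral [Finite G] [IsSimpleGroup G] (hG : ¬ IsMulCommutative G) {t : G}
    {T D : Subgroup G} {k : ℕ} (h : DSetup t T D k) : False := by
  classical
  have : Fact (Nat.Prime 2) := ⟨Nat.prime_two⟩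
  have hB := h.base
  obtain ⟨z, hzD, hz1, hz2, hzc, ⟨w, hwD, hw⟩, hcen, s, hsD, hs2, hs1, hsδ⟩ := h.exists_z
  have htc : ∀ {x : G}, x ∈ D → x * t = t * x := fun hx => hB.comm (h.hDT hx)
  have hnsq : ∀ {x y : G}, x ∈ T → x * x = y → y ∈ D := fun hx hy => hy ▸ h.sq_mem hx
  -- central elements of `T`
  have hcenT : ∀ x ∈ T, (∀ y ∈ T, x * y = y * x) → x ∉ D → x = t ∨ x = t * z := by
    intro x hx hc hxD
    obtain ⟨d, hd, rfl⟩ := h.t_mul_mem hx hxD
    rcases hcen d hd (fun e he => mul_left_cancel (a := t) (by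
        rw [← mul_assoc, hc e (h.hDT he), ← mul_assoc, htc he, mul_assoc])) with rfl | rfl
    · exact Or.inl (mul_one t)
    · exact Or.inr rfl
  have htzD : t * z ∉ D := fun h' => h.htD ((mul_mem_cancel_right hzD).1 h')
  obtain ⟨S, hTS⟩ := hB.hT.exists_le_sylow
  have hS2 : IsPGroup 2 (S : Subgroup G) := S.2
  -- a conjugate of `t` extremal and central in `T` lies outside `D`
  by_cases hST : (S : Subgroup G) ≤ T
  · have hSeq : (S : Subgroup G) = T := le_antisymm hST hTS
    let M : Subgroup (S : Subgroup G) := D.subgroupOf (S : Subgroup G)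
    have htS : t ∈ (S : Subgroup G) := hTS hB.htT
    have hM : M.index = 2 := by
      rw [Subgroup.index_eq_two_iff]
      refine ⟨⟨t, htS⟩, fun x => ?_⟩
      have hx := hST x.2
      simp only [M, mem_subgroupOf, Subgroup.coe_mul]
      rcases h.hsplit x hx with hD | hD
      · exact Or.inr ⟨hD, fun h' => h.htD ((mul_mem_cancel_left hD).1 h')⟩
      · exact Or.inl ⟨hD, fun h' => h.htD ((mul_mem_cancel_left h').1 hD)⟩
    refine transfer_extremal hG S (sgnHom M hM) hB.tt T hB.hT hB.htT (fun x hx => hB.comm hx)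
      (-1) (by decide) fun g hx hg => sgnHom_of_not_mem M hM fun hxM => ?_
    have hxD : g⁻¹ * t * g ∈ D := hxM
    -- `x` is central in `T`
    let e : T → T := fun y => ⟨g⁻¹ * y * g, hST (hg y y.2)⟩
    have einj : Function.Injective e := fun a b hab => Subtype.ext (by
      have h' : g⁻¹ * (a : G) * g = g⁻¹ * b * g := congrArg Subtype.val hab
      exact mul_left_cancel (mul_right_cancel h'))
    have esurj : Function.Surjective e := Finite.injective_iff_surjective.1 einj
    have hxc : ∀ y ∈ D, g⁻¹ * t * g * y = y * (g⁻¹ * t * g) := by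
      intro y hy
      obtain ⟨⟨u, hu⟩, he⟩ := esurj ⟨y, h.hDT hy⟩
      have he' : g⁻¹ * u * g = y := congrArg Subtype.val he
      rw [← he']
      calc g⁻¹ * t * g * (g⁻¹ * u * g) = g⁻¹ * (t * u) * g := by group
        _ = g⁻¹ * (u * t) * g := by rw [hB.comm hu]
        _ = _ := by group
    rcases hcen _ hxD hxc with h1 | h1
    · exact hB.t_ne_one (by rw [show t = g * (g⁻¹ * t * g) * g⁻¹ by group, h1]; group)
    · obtain ⟨⟨u, hu⟩, he⟩ := esurj ⟨w, h.hDT hwD⟩
      have he' : g⁻¹ * u * g = w := congrArg Subtype.val he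
      refine h.htD (hnsq hu ?_)
      have h3 : g⁻¹ * (u * u) * g = g⁻¹ * t * g := by
        rw [h1, ← hw, ← he']; group
      simpa using h3
  -- the conjugates of `t` in `T`
  have := Fintype.ofFinite G
  let I : Finset G := Finset.univ.filter (fun d => d ∈ D ∧ d * d = 1 ∧ d ≠ 1)
  let J : Finset G := I.image (t * ·)
  have hIcard : I.card = k + 1 := by
    have := h.inv_card
    rw [Nat.card_eq_fintype_card, Fintype.card_subtype] at this
    exact this
  have hJcard : J.card = k + 1 := by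
    rw [Finset.card_image_of_injective _ (mul_right_injective t), hIcard]
  have hmemI : ∀ {d : G}, d ∈ I ↔ d ∈ D ∧ d * d = 1 ∧ d ≠ 1 := by intro d; simp [I]
  have hIz : ∀ d ∈ I, IsConj t d ↔ IsConj t z := by
    intro d hd
    obtain ⟨hdD, hd2, hd1⟩ := hmemI.1 hd
    obtain ⟨c, -, hc⟩ := h.hI d hdD z hzD hd2 hd1 hz2 hz1
    rw [← hc, isConj_conj_iff]
  have hJz : ∀ d ∈ I, IsConj t (t * d) ↔ IsConj t (t * z) := by
    intro d hd
    obtain ⟨hdD, hd2, hd1⟩ := hmemI.1 hd
    obtain ⟨c, hct, hc⟩ := h.hI d hdD z hzD hd2 hd1 hz2 hz1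
    have : c * (t * d) * c⁻¹ = t * z := by rw [← hc, ← mul_assoc, hct]; group
    rw [← this, isConj_conj_iff]
  have hconjsq : ∀ {x : G}, IsConj t x → x * x = 1 ∧ x ≠ 1 := by
    intro x hx
    obtain ⟨c, rfl⟩ := isConj_iff.1 hx
    refine ⟨by rw [show c * t * c⁻¹ * (c * t * c⁻¹) = c * (t * t) * c⁻¹ by group, hB.tt]; group,
      fun h1 => hB.t_ne_one (conj_eq_one_iff.1 h1)⟩
  have hclass : ∀ x ∈ T, IsConj t x → x = t ∨ x ∈ I ∨ x ∈ J := by
    intro x hx hxX
    obtain ⟨hx2, hx1⟩ := hconjsq hxX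
    by_cases hxD : x ∈ D
    · exact Or.inr (Or.inl (hmemI.2 ⟨hxD, hx2, hx1⟩))
    · obtain ⟨d, hd, rfl⟩ := h.t_mul_mem hx hxD
      rcases eq_or_ne d 1 with rfl | hd1
      · exact Or.inl (mul_one t)
      · refine Or.inr (Or.inr (Finset.mem_image.2 ⟨d, hmemI.2 ⟨hd, ?_, hd1⟩, rfl⟩))
        calc d * d = t * t * (d * d) := by rw [hB.tt, one_mul]
          _ = t * (t * d) * d := by group
          _ = t * (d * t) * d := by rw [htc hd]
          _ = t * d * (t * d) := by group
          _ = 1 := hx2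
  let K : Finset G := insert t ((if IsConj t z then I else ∅) ∪ (if IsConj t (t * z) then J else ∅))
  have hK : Nat.card {x : G // x ∈ T ∧ IsConj t x} = K.card := by
    rw [Nat.card_eq_fintype_card, Fintype.card_subtype]
    congr 1
    ext x
    simp only [Finset.mem_filter, Finset.mem_univ, true_and, K, Finset.mem_insert, Finset.mem_union]
    constructor
    · rintro ⟨hx, hxX⟩
      rcases hclass x hx hxX with h1 | h1 | h1
      · exact Or.inl h1
      · rw [if_pos ((hIz x h1).1 hxX)]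
        exact Or.inr (Or.inl h1)
      · obtain ⟨d, hd, rfl⟩ := Finset.mem_image.1 h1
        rw [if_pos ((hJz d hd).1 hxX)]
        exact Or.inr (Or.inr h1)
    · rintro (rfl | h1 | h1)
      · exact ⟨hB.htT, IsConj.refl _⟩
      · split_ifs at h1 with hz
        · exact ⟨h.hDT (hmemI.1 h1).1, (hIz x h1).2 hz⟩
        · simp at h1
      · split_ifs at h1 with hz
        · obtain ⟨d, hd, rfl⟩ := Finset.mem_image.1 h1
          exact ⟨T.mul_mem hB.htT (h.hDT (hmemI.1 hd).1), (hJz d hd).2 hz⟩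
        · simp at h1
  have htI : t ∉ I := fun h' => h.htD (hmemI.1 h').1
  have htJ : t ∉ J := fun h' => by
    obtain ⟨d, hd, he⟩ := Finset.mem_image.1 h'
    exact (hmemI.1 hd).2.2 (mul_left_cancel (he.trans (mul_one t).symm))
  have hIJ : Disjoint I J := Finset.disjoint_left.2 fun d hd hd' => by
    obtain ⟨d', hd'', rfl⟩ := Finset.mem_image.1 hd'
    exact h.htD ((mul_mem_cancel_right (hmemI.1 hd'').1).1 (hmemI.1 hd).1)
  have hcount := card_fixed_mul T t
  rw [hK, hB.card_centralizer] at hcount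
  set o := T.relIndex (centralizer ({t} : Set G))
  have hfix : Nat.card {x : G ⧸ T // t • x = x} = o * K.card := by
    refine Nat.eq_of_mul_eq_mul_right (Nat.card_pos (α := T)) ?_
    rw [hcount]; ring
  have hmod := fixed_mod_four hG T hB.tt
  rw [hfix] at hmod
  obtain ⟨o', ho'⟩ : Odd o := hB.hodd
  -- the index of `T` in `S`
  have hidx : T.index = T.relIndex (S : Subgroup G) * (S : Subgroup G).index :=
    (Subgroup.relIndex_mul_index hTS).symm
  obtain ⟨j, hj⟩ : ∃ j, T.relIndex (S : Subgroup G) = 2 ^ j := by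
    obtain ⟨n, hn⟩ := S.2.exists_card_eq
    have hd : T.relIndex (S : Subgroup G) ∣ 2 ^ n := hn ▸ Subgroup.index_dvd_card _
    obtain ⟨j, -, hj⟩ := (Nat.dvd_prime_pow Nat.prime_two).1 hd
    exact ⟨j, hj⟩
  obtain ⟨i', hi'⟩ : Odd (S : Subgroup G).index :=
    Nat.not_even_iff_odd.1 fun h' => S.not_dvd_index (even_iff_two_dvd.1 h')
  have hj0 : j ≠ 0 := by
    rintro rfl
    rw [pow_zero] at hj
    exact hST (Subgroup.relIndex_eq_one.1 hj)
  obtain ⟨k', hk'⟩ := h.hk
  have hKval : K.card = 1 + ((if IsConj t z then k + 1 else 0) +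
      (if IsConj t (t * z) then k + 1 else 0)) := by
    simp only [K]
    rw [Finset.card_insert_of_notMem, Finset.card_union_of_disjoint]
    · split_ifs <;> simp [hIcard, hJcard, add_comm]
    · split_ifs <;> simp [hIJ]
    · split_ifs <;> simp [htI, htJ]
  have hTidx : ∃ j', T.index = 2 * j' := by
    obtain ⟨j₁, rfl⟩ := Nat.exists_eq_succ_of_ne_zero hj0
    exact ⟨2 ^ j₁ * (S : Subgroup G).index, by rw [hidx, hj, pow_succ]; ring⟩
  obtain ⟨j', hj'⟩ := hTidx
  have hone : ¬ (IsConj t z ∧ IsConj t (t * z)) := by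
    rintro ⟨h1, h2⟩
    rw [hKval, if_pos h1, if_pos h2, hj', ho', hk'] at hmod
    push_cast at hmod
    have : ((2 * (j' : ℤ)) - (2 * (o' : ℤ) + 1) * (1 + ((4 * (k' : ℤ) + 1) + (4 * k' + 1)))) % 2
        = 0 := by omega
    ring_nf at this
    omega
  have hj1 : j = 1 := by
    by_contra hj1
    have h4 : 4 ∣ T.index := by
      obtain ⟨j₂, rfl⟩ : ∃ j₂, j = j₂ + 2 := ⟨j - 2, by omega⟩
      exact ⟨2 ^ j₂ * (S : Subgroup G).index, by rw [hidx, hj, pow_add]; ring⟩
    obtain ⟨m, hm⟩ := h4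
    rw [hKval, hm, ho', hk'] at hmod
    split_ifs at hmod <;> push_cast at hmod <;> ring_nf at hmod <;> omega
  have hS2T : T.relIndex (S : Subgroup G) = 2 := by rw [hj, hj1, pow_one]
  -- `S` normalizes `T`
  have hTnS : (T.subgroupOf (S : Subgroup G)).Normal := normal_of_index_eq_two hS2T
  have hconjT : ∀ y ∈ (S : Subgroup G), ∀ x ∈ T, y * x * y⁻¹ ∈ T := fun y hy x hx =>
    hTnS.conj_mem ⟨x, hTS hx⟩ hx ⟨y, hy⟩
  have hout : ∀ y ∈ (S : Subgroup G), y ∉ T → y * t * y⁻¹ = t * z := by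
    intro y hy hyT
    have hmem := hconjT y hy t hB.htT
    have hc : ∀ x ∈ T, y * t * y⁻¹ * x = x * (y * t * y⁻¹) := by
      intro x hx
      have h' : y⁻¹ * x * y ∈ T := by simpa using hconjT y⁻¹ (inv_mem hy) x hx
      calc y * t * y⁻¹ * x = y * (t * (y⁻¹ * x * y)) * y⁻¹ := by group
        _ = y * (y⁻¹ * x * y * t) * y⁻¹ := by rw [hB.comm h']
        _ = _ := by group
    have hnD : y * t * y⁻¹ ∉ D := by
      intro h'
      rcases hcen _ h' (fun d hd => hc d (h.hDT hd)) with h1 | h1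
      · exact hB.t_ne_one (conj_eq_one_iff.1 h1)
      · have hw' : y⁻¹ * w * y ∈ T := by simpa using hconjT y⁻¹ (inv_mem hy) w (h.hDT hwD)
        refine h.htD (hnsq hw' ?_)
        calc y⁻¹ * w * y * (y⁻¹ * w * y) = y⁻¹ * (w * w) * y := by group
          _ = t := by rw [hw, ← h1]; group
    rcases hcenT _ hmem hc hnD with h1 | h1
    · exact absurd (hB.sylow_eq hS2 hTS hy (mul_inv_eq_iff_eq_mul.1 h1)) hyT
    · exact h1
  obtain ⟨y, hyS, hyT⟩ := Set.not_subset.1 hST
  have htz : IsConj t (t * z) := isConj_iff.2 ⟨y, hout y hyS hyT⟩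
  have hz : ¬ IsConj t z := fun h1 => hone ⟨h1, htz⟩
  have hID : ∀ {d : G}, d ∈ D → d * d = 1 → ¬ IsConj t d := by
    intro d hd hd2 hX
    rcases eq_or_ne d 1 with rfl | hd1
    · exact hB.t_ne_one ((isConj_one_right).1 hX.symm)
    · exact hz ((hIz d (hmemI.2 ⟨hd, hd2, hd1⟩)).1 hX)
  have hJX : ∀ {d : G}, d ∈ D → d * d = 1 → IsConj t (t * d) := by
    intro d hd hd2
    rcases eq_or_ne d 1 with rfl | hd1
    · rw [mul_one]
    · exact (hJz d (hmemI.2 ⟨hd, hd2, hd1⟩)).2 htz
  -- commuting pairs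
  have hpair : ∀ {a b : G}, IsConj t a → b * b = 1 → b ≠ 1 → b ≠ a → a * b = b * a →
      (IsConj t b ↔ ¬ IsConj t (a * b)) := by
    intro a b ha hb2 hb1 hba hab
    obtain ⟨g, rfl⟩ := isConj_iff.1 ha
    set b₁ := g⁻¹ * b * g with hb₁
    have hb₁t : b₁ * t = t * b₁ := by
      calc b₁ * t = g⁻¹ * (b * (g * t * g⁻¹)) * g := by rw [hb₁]; group
        _ = g⁻¹ * (g * t * g⁻¹ * b) * g := by rw [hab]
        _ = t * b₁ := by rw [hb₁]; group
    have hb₁2 : b₁ ^ 2 = 1 := by
      rw [pow_two, hb₁, show g⁻¹ * b * g * (g⁻¹ * b * g) = g⁻¹ * (b * b) * g by group, hb2]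
      group
    obtain ⟨c, hct, hc⟩ := hB.conj_into (Q := zpowers b₁)
      (IsPGroup.of_card_dvd_pow (n := 1) (by
        rw [Nat.card_zpowers, pow_one]; exact orderOf_dvd_of_pow_eq_one hb₁2))
      (zpowers_le.2 (mem_centralizer_singleton_iff.2 hb₁t))
    have hdT := hc b₁ (mem_zpowers _)
    set d := c * b₁ * c⁻¹ with hd
    have h1 : IsConj t b ↔ IsConj t d := by
      rw [hd, isConj_conj_iff, hb₁]
      have := isConj_conj_iff (t := t) (x := g⁻¹ * b * g) g
      rw [show g * (g⁻¹ * b * g) * g⁻¹ = b by group] at this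
      exact this
    have h2 : IsConj t (g * t * g⁻¹ * b) ↔ IsConj t (t * d) := by
      have e1 : c * (t * b₁) * c⁻¹ = t * d := by
        rw [hd, ← mul_assoc, hct]; group
      have e2 : g * (t * b₁) * g⁻¹ = g * t * g⁻¹ * b := by rw [hb₁]; group
      rw [← e1, isConj_conj_iff, ← e2, isConj_conj_iff]
    rw [h1, h2]
    have hd2 : d * d = 1 := by
      rw [pow_two] at hb₁2
      rw [hd, show c * b₁ * c⁻¹ * (c * b₁ * c⁻¹) = c * (b₁ * b₁) * c⁻¹ by group, hb₁2]; group
    by_cases hdD : d ∈ D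
    · exact iff_of_false (hID hdD hd2) (not_not_intro (hJX hdD hd2))
    · obtain ⟨e, he, hde⟩ := h.t_mul_mem hdT hdD
      have he2 : e * e = 1 := by
        calc e * e = t * t * (e * e) := by rw [hB.tt, one_mul]
          _ = t * (t * e) * e := by group
          _ = t * (e * t) * e := by rw [htc he]
          _ = t * e * (t * e) := by group
          _ = 1 := by rw [← hde, hd2]
      refine iff_of_true (hde ▸ hJX he he2) ?_
      rw [hde, ← mul_assoc, hB.tt, one_mul]
      exact hID he he2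
  -- `D` is normal in `S`
  have hDn : ∀ y ∈ (S : Subgroup G), ∀ d ∈ D, y * d * y⁻¹ ∈ D := by
    intro y hy
    suffices hinv : ∀ d ∈ D, d * d = 1 → y * d * y⁻¹ ∈ D by
      obtain ⟨e⟩ := h.hiso
      intro d hd
      obtain ⟨d', hd'⟩ := e.surjective ⟨d, hd⟩
      have hde : d = (e d' : G) := by rw [hd']
      cases d' with
      | r a =>
        have hsplit' : d = (e (sr 0) : G) * (e (sr a) : G) := by
          rw [hde, ← Subgroup.coe_mul, ← map_mul, sr_mul_sr, sub_zero]
        rw [hsplit', show y * ((e (sr 0) : G) * (e (sr a) : G)) * y⁻¹ =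
          y * (e (sr 0) : G) * y⁻¹ * (y * (e (sr a) : G) * y⁻¹) by group]
        refine D.mul_mem (hinv _ (e _).2 ?_) (hinv _ (e _).2 ?_) <;>
          rw [← Subgroup.coe_mul, ← map_mul, sr_mul_self, map_one, Subgroup.coe_one]
      | sr a =>
        refine hinv d hd ?_
        rw [hde, ← Subgroup.coe_mul, ← map_mul, sr_mul_self, map_one, Subgroup.coe_one]
    intro d hd hd2
    by_contra hnD
    obtain ⟨e, he, hye⟩ := h.t_mul_mem (hconjT y hy d (h.hDT hd)) hnD
    have he2 : e * e = 1 := by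
      calc e * e = t * t * (e * e) := by rw [hB.tt, one_mul]
        _ = t * (t * e) * e := by group
        _ = t * (e * t) * e := by rw [htc he]
        _ = t * e * (t * e) := by group
        _ = y * (d * d) * y⁻¹ := by rw [← hye]; group
        _ = 1 := by rw [hd2]; group
    exact hID hd hd2 ((isConj_conj_iff y).1 (hye ▸ hJX he he2))
  -- the quotient `S / D`
  let D' : Subgroup (S : Subgroup G) := D.subgroupOf (S : Subgroup G)
  have hD'n : D'.Normal := ⟨fun d hd y => hDn y y.2 d hd⟩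
  have hDT2 : D.relIndex T = 2 := by
    rw [Subgroup.relIndex, Subgroup.index_eq_two_iff]
    refine ⟨⟨t, hB.htT⟩, fun x => ?_⟩
    simp only [mem_subgroupOf, Subgroup.coe_mul]
    rcases h.hsplit x x.2 with hD | hD
    · exact Or.inr ⟨hD, fun h' => h.htD ((mul_mem_cancel_left hD).1 h')⟩
    · exact Or.inl ⟨hD, fun h' => h.htD ((mul_mem_cancel_left h').1 hD)⟩
  have hq4 : Nat.card ((S : Subgroup G) ⧸ D') = 2 ^ 2 := by
    rw [← Subgroup.index_eq_card]
    change D.relIndex (S : Subgroup G) = _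
    rw [← Subgroup.relIndex_mul_relIndex D T _ h.hDT hTS, hDT2, hS2T]
    rfl
  let _ : CommGroup ((S : Subgroup G) ⧸ D') :=
    { (inferInstance : Group ((S : Subgroup G) ⧸ D')) with
      mul_comm := IsPGroup.commutative_of_card_eq_prime_sq hq4 }
  let f : (S : Subgroup G) →* (S : Subgroup G) ⧸ D' := QuotientGroup.mk' D'
  have htS : t ∈ (S : Subgroup G) := hTS hB.htT
  set tb := f ⟨t, htS⟩ with htb
  have htb1 : tb ≠ 1 := fun h1 => h.htD ((QuotientGroup.eq_one_iff (N := D') ⟨t, htS⟩).1 h1)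
  have hfT : ∀ (x : G) (hx : x ∈ T), IsConj t x → f ⟨x, hTS hx⟩ = tb := by
    intro x hx hX
    have hxD : x ∉ D := fun h' => hID h' (hconjsq hX).1 hX
    obtain ⟨d, hd, rfl⟩ := h.t_mul_mem hx hxD
    rw [htb, show (⟨t * d, hTS hx⟩ : (S : Subgroup G)) = ⟨t, htS⟩ * ⟨d, hTS (h.hDT hd)⟩ from rfl,
      map_mul, mul_eq_left]
    exact (QuotientGroup.eq_one_iff (N := D') ⟨d, hTS (h.hDT hd)⟩).2 hd
  by_cases hx0 : ∃ g₀ : G, g₀⁻¹ * t * g₀ ∈ (S : Subgroup G) ∧ g₀⁻¹ * t * g₀ ∉ T ∧
      ∀ x ∈ T, g₀⁻¹ * x * g₀ ∈ (S : Subgroup G)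
  swap
  · refine transfer_extremal hG S f hB.tt T hB.hT hB.htT (fun x hx => hB.comm hx) tb htb1 ?_
    intro g hx hg
    have hxT : g⁻¹ * t * g ∈ T := by
      by_contra h'
      exact hx0 ⟨g, hx, h', hg⟩
    exact hfT _ hxT (isConj_iff.2 ⟨g⁻¹, by rw [inv_inv]⟩)
  obtain ⟨g₀, hx₀S, hx₀T, hg₀⟩ := hx0
  set x₀ := g₀⁻¹ * t * g₀ with hx₀
  have hx₀X : IsConj t x₀ := isConj_iff.2 ⟨g₀⁻¹, by rw [inv_inv]⟩
  have hx₀2 := (hconjsq hx₀X).1
  have hx₀i : x₀⁻¹ = x₀ := inv_eq_of_mul_eq_one_right hx₀2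
  have hx₀t : x₀ * t = t * z * x₀ := mul_inv_eq_iff_eq_mul.1 (hout x₀ hx₀S hx₀T)
  have hzx₀ : x₀ * z = z * x₀ := by
    have h1 : x₀ * (t * z) * x₀⁻¹ = t := by
      rw [← hout x₀ hx₀S hx₀T]
      calc x₀ * (x₀ * t * x₀⁻¹) * x₀⁻¹ = x₀ * x₀ * t * (x₀⁻¹ * x₀⁻¹) := by group
        _ = t := by rw [hx₀i, hx₀2]; group
    have h2 : x₀ * z * x₀⁻¹ = z := by
      have h3 : x₀ * (t * z) * x₀⁻¹ = t * z * (x₀ * z * x₀⁻¹) := by
        rw [show x₀ * (t * z) * x₀⁻¹ = x₀ * t * x₀⁻¹ * (x₀ * z * x₀⁻¹) by group,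
          hout x₀ hx₀S hx₀T]
      rw [h1] at h3
      calc x₀ * z * x₀⁻¹ = (t * z)⁻¹ * (t * z * (x₀ * z * x₀⁻¹)) := by group
        _ = (t * z)⁻¹ * t := by rw [← h3]
        _ = z⁻¹ := by group
        _ = z := inv_eq_of_mul_eq_one_right hz2
    exact mul_inv_eq_iff_eq_mul.1 h2
  -- `x₀` acts on `D` by `d ↦ d` or `d ↦ z d`
  have hact : ∀ d ∈ D, x₀ * d = d * x₀ ∨ x₀ * d = z * d * x₀ := by
    intro d hd
    let W : Subgroup G := (S : Subgroup G) ⊓ centralizer ({x₀} : Set G)
    have hW : (W.subgroupOf (S : Subgroup G)).index ≤ 2 := by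
      have hle : T.map (MulAut.conj g₀⁻¹).toMonoidHom ≤ W := by
        rintro _ ⟨u, hu, rfl⟩
        simp only [MulEquiv.toMonoidHom_eq_coe, MonoidHom.coe_coe, MulAut.conj_apply, inv_inv]
        refine ⟨hg₀ u hu, mem_centralizer_singleton_iff.2 ?_⟩
        rw [hx₀]
        calc g₀⁻¹ * u * g₀ * (g₀⁻¹ * t * g₀) = g₀⁻¹ * (u * t) * g₀ := by group
          _ = g₀⁻¹ * (t * u) * g₀ := by rw [hB.comm hu]
          _ = _ := by group
      have h1 := Subgroup.card_le_of_le hle
      rw [Subgroup.card_map_of_injective (MulEquiv.injective _)] at h1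
      have h2 := Subgroup.index_mul_card (W.subgroupOf (S : Subgroup G))
      rw [Nat.card_congr (Subgroup.subgroupOfEquivOfLe (inf_le_left : W ≤ _)).toEquiv] at h2
      have h3 := Subgroup.index_mul_card (T.subgroupOf (S : Subgroup G))
      rw [Nat.card_congr (Subgroup.subgroupOfEquivOfLe hTS).toEquiv] at h3
      change T.relIndex (S : Subgroup G) * _ = _ at h3
      rw [hS2T] at h3
      by_contra h4
      have h5 : 3 * Nat.card T ≤ (W.subgroupOf (S : Subgroup G)).index * Nat.card W :=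
        Nat.mul_le_mul (by omega) h1
      have := Nat.card_pos (α := T)
      clear hmod hcount
      linarith
    set W' := W.subgroupOf (S : Subgroup G)
    have htW : (⟨t, htS⟩ : (S : Subgroup G)) ∉ W' := by
      intro h'
      have := mem_centralizer_singleton_iff.1 (mem_subgroupOf.1 h').2
      exact hx₀T (hB.sylow_eq hS2 hTS hx₀S this.symm)
    have hW2 : W'.index = 2 := by
      rcases Nat.lt_or_ge W'.index 2 with h' | h'
      · exfalso
        have : W'.index = 1 := by
          have := Subgroup.index_ne_zero_of_finite (H := W'); omega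
        exact htW (Subgroup.index_eq_one.1 this ▸ mem_top _)
      · omega
    have hdS : d ∈ (S : Subgroup G) := hTS (h.hDT hd)
    by_cases hdW : (⟨d, hdS⟩ : (S : Subgroup G)) ∈ W'
    · exact Or.inl (mem_centralizer_singleton_iff.1 (mem_subgroupOf.1 hdW).2).symm
    · have hm : (⟨t, htS⟩ : (S : Subgroup G)) * ⟨d, hdS⟩ ∈ W' :=
        (Subgroup.mul_mem_iff_of_index_two hW2).2 (iff_of_false htW hdW)
      have hc : t * d * x₀ = x₀ * (t * d) :=
        mem_centralizer_singleton_iff.1 (mem_subgroupOf.1 hm).2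
      refine Or.inr ?_
      calc x₀ * d = (t * z)⁻¹ * (t * z * x₀) * d := by group
        _ = (t * z)⁻¹ * (x₀ * (t * d)) := by rw [← hx₀t]; group
        _ = (t * z)⁻¹ * (t * d * x₀) := by rw [hc]
        _ = z⁻¹ * d * x₀ := by group
        _ = z * d * x₀ := by rw [inv_eq_of_mul_eq_one_right hz2]
  set xb := f ⟨x₀, hx₀S⟩ with hxb
  have hxb2 : xb * xb = 1 := by
    rw [hxb, ← map_mul, show (⟨x₀, hx₀S⟩ : (S : Subgroup G)) * ⟨x₀, hx₀S⟩ = 1 from
      Subtype.ext hx₀2, map_one]
  have hxbT : xb ∉ ({1, tb} : Set ((S : Subgroup G) ⧸ D')) := by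
    rintro (h1 | h1)
    · exact hx₀T (h.hDT ((QuotientGroup.eq_one_iff (N := D') ⟨x₀, hx₀S⟩).1 h1))
    · have := (QuotientGroup.eq (s := D')).1 h1.symm
      rw [mem_subgroupOf] at this
      exact hx₀T (by simpa using T.mul_mem hB.htT (h.hDT this))
  let N : Subgroup ((S : Subgroup G) ⧸ D') := zpowers (xb * tb)
  have htN : tb ∉ N := by
    intro h'
    obtain ⟨i, hi⟩ := mem_zpowers_iff.1 h'
    have htb2 : tb * tb = 1 := by
      rw [htb, ← map_mul, show (⟨t, htS⟩ : (S : Subgroup G)) * ⟨t, htS⟩ = 1 from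
        Subtype.ext hB.tt, map_one]
    have h2 : (xb * tb) ^ 2 = 1 := by rw [mul_pow, pow_two, pow_two, hxb2, htb2, one_mul]
    rcases Int.even_or_odd i with ⟨l, hl⟩ | ⟨l, hl⟩
    · rw [hl, ← two_mul, zpow_mul, zpow_two, ← pow_two, h2, one_zpow] at hi
      exact htb1 hi.symm
    · rw [hl, zpow_add, zpow_mul, zpow_two, ← pow_two, h2, one_zpow, one_mul, zpow_one,
        mul_eq_right] at hi
      exact hxbT (Or.inl hi)
  refine transfer_extremal hG S ((QuotientGroup.mk' N).comp f) hB.tt T hB.hT hB.htT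
    (fun x hx => hB.comm hx) (QuotientGroup.mk' N tb)
    (fun h1 => htN ((QuotientGroup.eq_one_iff _).1 h1)) ?_
  intro g hx hg
  have hX : IsConj t (g⁻¹ * t * g) := isConj_iff.2 ⟨g⁻¹, by rw [inv_inv]⟩
  set x := g⁻¹ * t * g with hxdef
  rw [MonoidHom.comp_apply]
  by_cases hxT : x ∈ T
  · rw [hfT x hxT hX]
  · -- `x` lies in the coset of `x₀`
    have hmem : x₀ * x ∈ T := by
      have := (Subgroup.mul_mem_iff_of_index_two (H := T.subgroupOf (S : Subgroup G)) hS2T
        (a := ⟨x₀, hx₀S⟩) (b := ⟨x, hx⟩)).2 (iff_of_false hx₀T hxT)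
      exact this
    obtain hD1 | ⟨δ, hδ, hδe⟩ : x₀ * x ∈ D ∨ ∃ δ ∈ D, x₀ * x = t * δ := by
      by_cases hD1 : x₀ * x ∈ D
      · exact Or.inl hD1
      · exact Or.inr (h.t_mul_mem hmem hD1)
    · have : f ⟨x, hx⟩ = xb := by
        refine ((QuotientGroup.eq (s := D')).2 ?_).symm
        rw [mem_subgroupOf]
        simpa [hx₀i] using hD1
      rw [this, QuotientGroup.mk'_eq_mk']
      refine ⟨xb * tb, mem_zpowers _, ?_⟩
      rw [← mul_assoc, hxb2, one_mul]
    exfalso
    have hxe : x = x₀ * t * δ := by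
      calc x = x₀ * x₀ * x := by rw [hx₀2, one_mul]
        _ = x₀ * (x₀ * x) := by group
        _ = _ := by rw [hδe]; group
    have hx2 := (hconjsq hX).1
    rcases hact δ hδ with hfixδ | hmovδ
    · -- `δ` has order four
      have hδ2 : δ * δ = z := by
        have h1 : x * x = z * (δ * δ) := by
          rw [hxe]
          calc x₀ * t * δ * (x₀ * t * δ) = x₀ * t * (δ * x₀) * t * δ := by group
            _ = x₀ * t * (x₀ * δ) * t * δ := by rw [hfixδ]
            _ = t * z * x₀ * x₀ * (δ * t) * δ := by rw [hx₀t]; group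
            _ = t * z * (δ * t) * δ := by rw [mul_assoc _ x₀ x₀, hx₀2, mul_one]
            _ = t * (z * t) * δ * δ := by rw [htc hδ]; group
            _ = t * (t * z) * δ * δ := by rw [htc hzD]
            _ = t * t * (z * (δ * δ)) := by group
            _ = z * (δ * δ) := by rw [hB.tt, one_mul]
        rw [hx2] at h1
        calc δ * δ = z * (z * (δ * δ)) := by rw [← mul_assoc, hz2, one_mul]
          _ = z := by rw [← h1, mul_one]
      have hδs := hsδ δ hδ hδ2
      have hδsD : δ * s ∈ D := D.mul_mem hδ hsD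
      have hδs2 : δ * s * (δ * s) = 1 := by
        calc δ * s * (δ * s) = δ * s * (z * (s * δ)) := by rw [← hδs]
          _ = δ * (s * z) * (s * δ) := by group
          _ = δ * (z * s) * (s * δ) := by rw [hzc s hsD]
          _ = δ * z * (s * s) * δ := by group
          _ = δ * z * δ := by rw [hs2]; group
          _ = z * (δ * δ) := by rw [← hzc δ hδ]; group
          _ = 1 := by rw [hδ2, hz2]
      have hδs1 : δ * s ≠ 1 := fun h1 => by
        have : δ = s := by
          calc δ = δ * (s * s) := by rw [hs2, mul_one]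
            _ = δ * s * s := by group
            _ = s := by rw [h1, one_mul]
        rw [this, hs2] at hδ2
        exact hz1 hδ2.symm
      rcases hact s hsD with hfixs | hmovs
      · -- `w = t s`
        set w' := t * s with hw'
        have hw'T : w' ∈ T := T.mul_mem hB.htT (h.hDT hsD)
        have hw'X : IsConj t w' := hJX hsD hs2
        have hw'2 := hconjsq hw'X
        have hxw : x * w' = x₀ * (δ * s) := by
          rw [hxe, hw']
          calc x₀ * t * δ * (t * s) = x₀ * t * (δ * t) * s := by group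
            _ = x₀ * t * (t * δ) * s := by rw [htc hδ]
            _ = x₀ * (t * t) * (δ * s) := by group
            _ = _ := by rw [hB.tt, mul_one]
        have hwx : w' * x = x₀ * (δ * s) := by
          rw [hxe, hw']
          calc t * s * (x₀ * t * δ) = t * (s * x₀) * t * δ := by group
            _ = t * (x₀ * s) * t * δ := by rw [hfixs]
            _ = t * x₀ * (s * t) * δ := by group
            _ = t * x₀ * (t * s) * δ := by rw [htc hsD]
            _ = t * (x₀ * t) * s * δ := by group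
            _ = t * t * (z * x₀) * s * δ := by rw [hx₀t]; group
            _ = z * x₀ * s * δ := by rw [hB.tt, one_mul]
            _ = x₀ * (z * (s * δ)) := by rw [← hzx₀]; group
            _ = x₀ * (δ * s) := by rw [hδs]
        have h1 := (hpair hX hw'2.1 hw'2.2 (fun h' => hxT (h' ▸ hw'T)) (hxw.trans hwx.symm)).1 hw'X
        rw [hxw] at h1
        have h2 := hpair hx₀X hδs2 hδs1 (fun h' => hx₀T (h' ▸ h.hDT hδsD)) (by
          calc x₀ * (δ * s) = x₀ * δ * s := by group
            _ = δ * (x₀ * s) := by rw [hfixδ]; group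
            _ = δ * s * x₀ := by rw [hfixs]; group)
        exact hID hδsD hδs2 (h2.2 h1)
      · -- `s` moved
        have hsx₀ : s * x₀ = x₀ * (z * s) := by
          calc s * x₀ = z * z * s * x₀ := by rw [hz2, one_mul]
            _ = z * (z * s * x₀) := by group
            _ = z * (x₀ * s) := by rw [hmovs]
            _ = z * x₀ * s := by group
            _ = x₀ * z * s := by rw [hzx₀]
            _ = x₀ * (z * s) := by group
        have hxs : x * s = s * x := by
          rw [hxe]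
          calc x₀ * t * δ * s = x₀ * t * (δ * s) := by group
            _ = x₀ * (t * z) * (s * δ) := by rw [hδs]; group
            _ = x₀ * (z * t) * (s * δ) := by rw [htc hzD]
            _ = x₀ * z * (t * s) * δ := by group
            _ = x₀ * z * (s * t) * δ := by rw [htc hsD]
            _ = x₀ * (z * s) * t * δ := by group
            _ = _ := by rw [← hsx₀]; group
        have h1 : IsConj t (x * s) := by
          by_contra h'
          exact hID hsD hs2 ((hpair hX hs2 hs1 (fun h'' => hxT (h'' ▸ h.hDT hsD)) hxs).2 h')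
        have hy : x * s = x₀ * (t * (δ * s)) := by rw [hxe]; group
        rw [hy] at h1
        have hyX := hJX hδsD hδs2
        have hyT : t * (δ * s) ∈ T := T.mul_mem hB.htT (h.hDT hδsD)
        have hcomm : x₀ * (t * (δ * s)) = t * (δ * s) * x₀ := by
          calc x₀ * (t * (δ * s)) = x₀ * t * δ * s := by group
            _ = t * z * (x₀ * δ) * s := by rw [hx₀t]; group
            _ = t * z * δ * (x₀ * s) := by rw [hfixδ]; group
            _ = t * z * δ * (z * s * x₀) := by rw [hmovs]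
            _ = t * z * (δ * z) * s * x₀ := by group
            _ = t * z * (z * δ) * s * x₀ := by rw [hzc δ hδ]
            _ = t * (z * z) * (δ * s) * x₀ := by group
            _ = _ := by rw [hz2, mul_one]
        exact (hpair hx₀X (hconjsq hyX).1 (hconjsq hyX).2 (fun h' => hx₀T (h' ▸ hyT)) hcomm).1
          hyX h1
    · -- `δ` is an involution
      have hc : x₀ * (t * δ) = t * δ * x₀ := by
        calc x₀ * (t * δ) = x₀ * t * δ := by group
          _ = t * z * (x₀ * δ) := by rw [hx₀t]; group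
          _ = t * z * (z * δ * x₀) := by rw [hmovδ]
          _ = t * (z * z) * δ * x₀ := by group
          _ = _ := by rw [hz2, mul_one]
      have hxe' : x = x₀ * (t * δ) := by rw [hxe]; group
      have hτ2 : t * δ * (t * δ) = 1 := by
        rw [← hx2, hxe']
        calc t * δ * (t * δ) = x₀ * x₀ * (t * δ * (t * δ)) := by rw [hx₀2, one_mul]
          _ = x₀ * (x₀ * (t * δ)) * (t * δ) := by group
          _ = x₀ * (t * δ * x₀) * (t * δ) := by rw [hc]
          _ = _ := by group
      have hδ2 : δ * δ = 1 := by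
        calc δ * δ = t * t * (δ * δ) := by rw [hB.tt, one_mul]
          _ = t * (t * δ) * δ := by group
          _ = t * (δ * t) * δ := by rw [htc hδ]
          _ = t * δ * (t * δ) := by group
          _ = 1 := hτ2
      have hτX := hJX hδ hδ2
      have h1 := (hpair hx₀X (hconjsq hτX).1 (hconjsq hτX).2
        (fun h' => hx₀T (h' ▸ T.mul_mem hB.htT (h.hDT hδ))) hc).1 hτX
      exact h1 (hxe' ▸ hX)

end CfsgLib.TimesPSL
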