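import Cfsg.Agent.Lib.TimesPSL.Ladder

/-!
# The elementary abelian case
-/

namespace CfsgLib.TimesPSL

open Subgroup

variable {G : Type*} [Group G]

theorem xor_parity {p1 p2 p3 q1 q2 q3 r1 r2 r3 : Prop} (f1 : p3 ↔ (p1 ↔ p2))
    (f2 : q3 ↔ (q1 ↔ q2)) (f3 : r3 ↔ (r1 ↔ r2)) (h1 : r1 ↔ ¬(p1 ↔ q1)) (h2 : r2 ↔ ¬(p2 ↔ q2))
    (h3 : r3 ↔ ¬(p3 ↔ q3)) : False := by
  classical
  by_cases a : p1 <;> by_cases b : p2 <;> by_cases c : q1 <;> by_cases d : q2 <;> simp_all

theorem xor_three {p q r a b c : Prop} (e1 : a ↔ ¬p) (e2 : b ↔ ¬q) (e3 : c ↔ ¬r)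
    (e4 : c ↔ (a ↔ b)) : r ↔ ¬(p ↔ q) := by
  classical
  by_cases hp : p <;> by_cases hq : q <;> simp_all

/-- Membership in the first subgroup, as an element of `ZMod 2`. -/
theorem index_two_additive {T H : Subgroup G} (hH : (H.subgroupOf T).index = 2) {x y : G}
    (hx : x ∈ T) (hy : y ∈ T) : (x * y ∈ H ↔ (x ∈ H ↔ y ∈ H)) :=
  Subgroup.mul_mem_iff_of_index_two hH (a := ⟨x, hx⟩) (b := ⟨y, hy⟩)

/-- **The elementary abelian case**. -/
theorem case_elem [Finite G] [IsSimpleGroup G] (hG : ¬ IsMulCommutative G) {t : G}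
    {T U Dg : Subgroup G} (h : ESetup t T U Dg) :
    Nat.card U = 4 ∧ ∃ S : Sylow 2 G, (S : Subgroup G) = T := by
  classical
  have : Fact (Nat.Prime 2) := ⟨Nat.prime_two⟩
  have hB := h.base
  obtain ⟨S, hTS⟩ := hB.hT.exists_le_sylow
  let Nm : Subgroup G := normalizer (T : Set G)
  -- the orbit of `t` under `N(T)`
  let O : G → Prop := fun x => ∃ g ∈ Nm, g * t * g⁻¹ = x
  have hOT : ∀ {x}, O x → x ∈ T := by
    rintro x ⟨g, hg, rfl⟩
    exact (mem_normalizer_iff.1 hg t).1 hB.htT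
  have hDNm : ∀ {d}, d ∈ Dg → d ∈ Nm := fun hd => mem_normalizer_of_conj (h.hDT _ hd)
  have hDU : ∀ {d u}, d ∈ Dg → u ∈ U → d * u * d⁻¹ ∈ U := fun hd hu =>
    h.hNU _ (h.hDt _ hd) (h.hDT _ hd) _ hu
  have hconjD : ∀ {d}, d ∈ Dg → ∀ x, d * (t * x) * d⁻¹ = t * (d * x * d⁻¹) := by
    intro d hd x
    calc d * (t * x) * d⁻¹ = d * t * (x * d⁻¹) := by group
      _ = _ := by rw [h.hDt d hd]; group
  have hmove : ∀ {d x}, d ∈ Dg → O x → O (d * x * d⁻¹) := by
    rintro d x hd ⟨g, hg, rfl⟩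
    exact ⟨d * g, mul_mem (hDNm hd) hg, by group⟩
  have hU1 : ∀ {u}, u ∈ U → u ≠ 1 → O u → ∀ v ∈ U, v ≠ 1 → O v := by
    intro u hu hu1 hO v hv hv1
    obtain ⟨d, hd, rfl⟩ := h.hDtrans u hu hu1 v hv hv1
    exact hmove hd hO
  have hV1 : ∀ {u}, u ∈ U → u ≠ 1 → O (t * u) → ∀ v ∈ U, v ≠ 1 → O (t * v) := by
    intro u hu hu1 hO v hv hv1
    obtain ⟨d, hd, rfl⟩ := h.hDtrans u hu hu1 v hv hv1
    rw [← hconjD hd]
    exact hmove hd hO
  have hOne : ∀ {x}, O x → x ≠ 1 := by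
    rintro x ⟨g, -, rfl⟩ h1
    exact hB.t_ne_one (conj_eq_one_iff.1 h1)
  have hOt : O t := ⟨1, one_mem _, by group⟩
  -- an element of `U` in the orbit forces an element of `t U#`
  have hall : ∀ {u}, u ∈ U → O u → ∀ v ∈ U, v ≠ 1 → O (t * v) := by
    intro u hu hO
    have hu1 := hOne hO
    by_contra hne
    have hcl : ∀ {x}, O x → x = t ∨ x ∈ U := by
      intro x hx
      by_cases hxU : x ∈ U
      · exact Or.inr hxU
      · obtain ⟨w, hw, rfl⟩ := h.tmul_mem (hOT hx) hxU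
        rcases eq_or_ne w 1 with rfl | hw1
        · exact Or.inl (mul_one t)
        · exact absurd (fun v hv hv1 => hV1 hw hw1 hx v hv hv1) hne
    obtain ⟨g, hg, hge⟩ := hO
    have himg : ∀ {v}, v ∈ U → v ≠ 1 → g * v * g⁻¹ = t ∨ g * v * g⁻¹ ∈ U := fun hv hv1 => by
      obtain ⟨k, hk, hke⟩ := hU1 hu hu1 ⟨g, hg, hge⟩ _ hv hv1
      exact hcl ⟨g * k, mul_mem hg hk, by rw [← hke]; group⟩
    obtain ⟨g', hg', hg'e⟩ : O (g⁻¹ * t * g) := ⟨g⁻¹, inv_mem hg, by group⟩
    have hv : g⁻¹ * t * g ∈ U := by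
      rcases hcl ⟨g', hg', hg'e⟩ with h1 | h1
      · refine absurd ?_ (fun h2 : u = t => h.htU (h2 ▸ hu))
        calc u = g * t * g⁻¹ := hge.symm
          _ = g * (g⁻¹ * t * g) * g⁻¹ := by rw [h1]
          _ = t := by group
      · exact h1
    set v := g⁻¹ * t * g with hvdef
    have hv1 : v ≠ 1 := fun h1 => hB.t_ne_one (by
      calc t = g * v * g⁻¹ := by rw [hvdef]; group
        _ = 1 := by rw [h1]; group)
    obtain ⟨a, ha, ha1, hav⟩ := h.exists_factor hv hv1
    have hva1 : v * a ≠ 1 := fun h1 => hav (by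
      rw [← inv_of_sq (h.hexp v (h.hUT hv))]
      exact eq_inv_of_mul_eq_one_right h1)
    have hgv : g * v * g⁻¹ = t := by rw [hvdef]; group
    have hinj : ∀ {b}, g * b * g⁻¹ = t → b = v := fun {b} hb => by
      calc b = g⁻¹ * (g * b * g⁻¹) * g := by group
        _ = v := by rw [hb]
    have h1 := (himg ha ha1).resolve_left fun h2 => hav (hinj h2)
    have h2 := (himg (U.mul_mem hv ha) hva1).resolve_left fun h2 => by
      have := hinj h2
      exact ha1 (mul_eq_left.1 this)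
    refine h.htU ?_
    have e : t = g * (v * a) * g⁻¹ * (g * a * g⁻¹) := by
      calc t = g * v * g⁻¹ := hgv.symm
        _ = g * (v * (a * a)) * g⁻¹ := by rw [h.hexp a (h.hUT ha), mul_one]
        _ = _ := by group
    rw [e]
    exact U.mul_mem h2 h1
  -- the fixed point case
  by_cases hST : (S : Subgroup G) ≤ T
  · have hSeq : (S : Subgroup G) = T := le_antisymm hST hTS
    refine ⟨?_, S, hSeq⟩
    by_contra h4
    have hU8 : 8 ≤ Nat.card U := by
      obtain ⟨n, hn⟩ := (hB.hT.to_le h.hUT).exists_card_eq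
      have := h.hU4
      rcases n with _ | _ | _ | n
      · simp only [pow_succ, pow_zero, zero_add, one_mul] at hn; omega
      · simp only [pow_succ, pow_zero, zero_add, one_mul] at hn; omega
      · simp only [pow_succ, pow_zero, zero_add, one_mul] at hn; omega
      · rw [hn, pow_succ, pow_succ, pow_succ]
        have : 0 < 2 ^ n := by positivity
        omega
    have hM : (U.subgroupOf (S : Subgroup G)).index = 2 := by
      have h1 := Subgroup.index_mul_card (U.subgroupOf (S : Subgroup G))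
      rw [Nat.card_congr (Subgroup.subgroupOfEquivOfLe (hSeq ▸ h.hUT : U ≤ _)).toEquiv] at h1
      have h2 : Nat.card (S : Subgroup G) = 2 * Nat.card U := by rw [hSeq, h.cardT]
      rw [h2] at h1
      exact Nat.eq_of_mul_eq_mul_right Nat.card_pos h1
    -- some conjugate lies in `U`
    obtain ⟨u0, hu0, hu0O⟩ : ∃ u, u ∈ U ∧ O u := by
      by_contra hno
      refine transfer_extremal hG S (sgnHom _ hM) hB.tt T hB.hT hB.htT (fun x hx => hB.comm hx)
        (-1) (by decide) fun g hx hg => sgnHom_of_not_mem _ hM fun hxU => hno ⟨g⁻¹ * t * g, hxU,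
          g⁻¹, inv_mem (inv_mem_iff.1 (mem_normalizer_of_conj fun x hx => ?_)), by group⟩
      rw [inv_inv]
      exact hST (hg x hx)
    have hOall : ∀ {x}, x ∈ T → x ≠ 1 → O x := by
      intro x hx hx1
      by_cases hxU : x ∈ U
      · exact hU1 hu0 (hOne hu0O) hu0O x hxU hx1
      · obtain ⟨w, hw, rfl⟩ := h.tmul_mem hx hxU
        rcases eq_or_ne w 1 with rfl | hw1
        · rw [mul_one]; exact hOt
        · exact hall hu0 hu0O w hw hw1
    -- no element interchanges two conjugates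
    have hnoswap : ∀ {m b : G}, m ∈ Nm → m * t * m⁻¹ = b → m * b * m⁻¹ = t → b = t := by
      intro m b hm h1 h2
      have hmT : ∀ x ∈ T, m * x * m⁻¹ ∈ T := fun x hx => (mem_normalizer_iff.1 hm x).1 hx
      obtain ⟨k, a, hk, ha⟩ := exists_odd_pow m
      have hkN : m ^ k ∈ Nm := pow_mem hm k
      have hswap : ∀ i : ℕ, m ^ (2 * i) * t * (m ^ (2 * i))⁻¹ = t := by
        intro i
        induction i with
        | zero => simp
        | succ i ih =>
          calc m ^ (2 * (i + 1)) * t * (m ^ (2 * (i + 1)))⁻¹ =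
              m * (m * (m ^ (2 * i) * t * (m ^ (2 * i))⁻¹) * m⁻¹) * m⁻¹ := by
                rw [show 2 * (i + 1) = (2 * i + 1) + 1 by ring, pow_succ', pow_succ']; group
            _ = t := by rw [ih, h1, h2]
      obtain ⟨i, rfl⟩ := hk
      have hkb : m ^ (2 * i + 1) * t * (m ^ (2 * i + 1))⁻¹ = b := by
        rw [pow_succ']
        calc m * m ^ (2 * i) * t * (m * m ^ (2 * i))⁻¹ =
            m * (m ^ (2 * i) * t * (m ^ (2 * i))⁻¹) * m⁻¹ := by group
          _ = b := by rw [hswap, h1]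
      have hQ := isPGroup_sup_zpowers hB.hT (g := m ^ (2 * i + 1))
        (fun x hx => (mem_normalizer_iff.1 hkN x).1 hx) ha
      obtain ⟨S', hS'⟩ := hQ.exists_le_sylow
      have hcard : Nat.card (S' : Subgroup G) = Nat.card T := by
        rw [← hSeq, S'.card_eq_multiplicity, S.card_eq_multiplicity]
      have hTS' : T ≤ (S' : Subgroup G) := le_sup_right.trans hS'
      have he := eq_of_le_of_card_ge hTS' hcard.le
      have hmem : m ^ (2 * i + 1) ∈ T := he.symm ▸ hS' (mem_sup_left (mem_zpowers _))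
      rw [← hkb, hB.comm hmem]; group
    -- the hyperplanes
    choose γ hγN hγ using fun (x : G) (hx : x ∈ T ∧ x ≠ 1) => hOall hx.1 hx.2
    let H : ∀ x : G, x ∈ T ∧ x ≠ 1 → Subgroup G := fun x hx =>
      U.map (MulAut.conj (γ x hx)).toMonoidHom
    have hmemH : ∀ {x b : G} (hx : x ∈ T ∧ x ≠ 1), b ∈ H x hx ↔ (γ x hx)⁻¹ * b * γ x hx ∈ U := by
      intro x b hx
      constructor
      · rintro ⟨u, hu, rfl⟩
        simpa [mul_assoc] using hu
      · intro hb
        exact ⟨_, hb, by simp [mul_assoc]⟩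
    have hHT : ∀ {x} (hx : x ∈ T ∧ x ≠ 1), H x hx ≤ T := by
      rintro x hx _ ⟨u, hu, rfl⟩
      simp only [MulEquiv.toMonoidHom_eq_coe, MonoidHom.coe_coe, MulAut.conj_apply]
      exact (mem_normalizer_iff.1 (hγN x hx) u).1 (h.hUT hu)
    have hHidx : ∀ {x} (hx : x ∈ T ∧ x ≠ 1), ((H x hx).subgroupOf T).index = 2 := by
      intro x hx
      have h1 := Subgroup.index_mul_card ((H x hx).subgroupOf T)
      rw [Nat.card_congr (Subgroup.subgroupOfEquivOfLe (hHT hx)).toEquiv,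
        Subgroup.card_map_of_injective (MulEquiv.injective _), h.cardT] at h1
      exact Nat.eq_of_mul_eq_mul_right Nat.card_pos h1
    have hself : ∀ {x} (hx : x ∈ T ∧ x ≠ 1), x ∉ H x hx := by
      intro x hx h'
      rw [hmemH, show (γ x hx)⁻¹ * x * γ x hx = (γ x hx)⁻¹ *
        (γ x hx * t * (γ x hx)⁻¹) * γ x hx by rw [hγ x hx]] at h'
      exact h.htU (by simpa [mul_assoc] using h')
    -- exactly one of `b ∈ H a`, `a ∈ H b`
    have hxor : ∀ {a b : G} (ha : a ∈ T ∧ a ≠ 1) (hb : b ∈ T ∧ b ≠ 1), a ≠ b →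
        (b ∈ H a ha ↔ a ∉ H b hb) := by
      intro a b ha hb hab
      set g := γ a ha
      set k := γ b hb
      have hgN : g ∈ Nm := hγN a ha
      have hkN : k ∈ Nm := hγN b hb
      have hga : g * t * g⁻¹ = a := hγ a ha
      have hkb : k * t * k⁻¹ = b := hγ b hb
      have hb'T : g⁻¹ * b * g ∈ T := by
        simpa using (mem_normalizer_iff.1 (inv_mem hgN) b).1 hb.1
      have ha'T : k⁻¹ * a * k ∈ T := by
        simpa using (mem_normalizer_iff.1 (inv_mem hkN) a).1 ha.1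
      have e1 : g⁻¹ * k * t * (g⁻¹ * k)⁻¹ = g⁻¹ * b * g := by rw [← hkb]; group
      have e2 : g⁻¹ * k * (k⁻¹ * a * k) * (g⁻¹ * k)⁻¹ = t := by rw [← hga]; group
      -- `g⁻¹ k` maps `(t, k⁻¹ a k)` to `(g⁻¹ b g, t)`
      have hkey : ∀ {w : G}, w ∈ Dg → w * (g⁻¹ * b * g) * w⁻¹ ≠ k⁻¹ * a * k := by
        intro w hw he
        have hwt : w * t * w⁻¹ = t := mul_inv_eq_of_eq_mul (h.hDt w hw)
        have hm : w * (g⁻¹ * k) ∈ Nm := mul_mem (hDNm hw) (mul_mem (inv_mem hgN) hkN)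
        have h1 := hnoswap hm (b := k⁻¹ * a * k)
          (by rw [← he, ← e1]; group) (by
            calc w * (g⁻¹ * k) * (k⁻¹ * a * k) * (w * (g⁻¹ * k))⁻¹
                = w * (g⁻¹ * k * (k⁻¹ * a * k) * (g⁻¹ * k)⁻¹) * w⁻¹ := by group
              _ = t := by rw [e2, hwt])
        refine hab ?_
        calc a = k * (k⁻¹ * a * k) * k⁻¹ := by group
          _ = b := by rw [h1, hkb]
      rw [hmemH, hmemH]
      constructor
      · intro hbU haU
        obtain ⟨w, hw, hwe⟩ := h.hDtrans _ hbU (fun h1 => hb.2 (by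
          calc b = g * (g⁻¹ * b * g) * g⁻¹ := by group
            _ = 1 := by rw [h1]; group)) _ haU (fun h1 => ha.2 (by
          calc a = k * (k⁻¹ * a * k) * k⁻¹ := by group
            _ = 1 := by rw [h1]; group))
        exact hkey hw hwe
      · intro haU
        by_contra hbU
        obtain ⟨u, hu, hue⟩ := h.tmul_mem ha'T haU
        obtain ⟨v, hv, hve⟩ := h.tmul_mem hb'T hbU
        have hu1 : u ≠ 1 := fun h1 => hab (by
          calc a = k * (k⁻¹ * a * k) * k⁻¹ := by group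
            _ = b := by rw [hue, h1, mul_one, hkb])
        have hv1 : v ≠ 1 := fun h1 => hab (by
          calc a = g * (t * v) * g⁻¹ := by rw [h1, mul_one, hga]
            _ = b := by rw [← hve]; group)
        obtain ⟨w, hw, hwe⟩ := h.hDtrans v hv hv1 u hu hu1
        refine hkey hw ?_
        rw [hve, hue, hconjD hw, hwe]
    -- three mutually related elements
    have := Fintype.ofFinite G
    obtain ⟨c, hc, hc1, -⟩ : ∃ c ∈ U, c ≠ 1 ∧ c ≠ u0 := h.exists_factor hu0 (hOne hu0O)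
    have hcT := h.hUT hc
    have hct : c ≠ t := fun h1 => h.htU (h1 ▸ hc)
    have htc1 : t * c ≠ 1 := fun h1 => hct (by
      calc c = t * t * c := by rw [hB.tt, one_mul]
        _ = t := by rw [mul_assoc, h1, mul_one])
    set W : Finset G := {1, t, c, t * c} with hW
    have hWcard : W.card ≤ 4 :=
      (Finset.card_insert_le _ _).trans (Nat.succ_le_succ ((Finset.card_insert_le _ _).trans
        (Nat.succ_le_succ (Finset.card_le_two))))
    have hTcard : 16 ≤ (Finset.univ.filter (fun x => x ∈ T)).card := by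
      rw [← Fintype.card_subtype, ← Nat.card_eq_fintype_card]
      have := h.cardT
      change Nat.card T ≥ 16
      omega
    obtain ⟨a, haT, haW⟩ := Finset.exists_mem_notMem_of_card_lt_card
      (show W.card < (Finset.univ.filter (fun x => x ∈ T)).card by omega)
    replace haT : a ∈ T := (Finset.mem_filter.1 haT).2
    obtain ⟨a', ha'T, ha'W⟩ := Finset.exists_mem_notMem_of_card_lt_card
      (show (W ∪ W.image (a * ·)).card < (Finset.univ.filter (fun x => x ∈ T)).card by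
        have := Finset.card_union_le W (W.image (a * ·))
        have := Finset.card_image_le (s := W) (f := (a * ·))
        omega)
    replace ha'T : a' ∈ T := (Finset.mem_filter.1 ha'T).2
    rw [Finset.mem_union, not_or] at ha'W
    have haa : a * a' ∉ W := by
      intro h'
      refine ha'W.2 (Finset.mem_image.2 ⟨a * a', h', ?_⟩)
      rw [← mul_assoc, h.hexp a haT, one_mul]
    have hout : ∀ {x}, x ∈ T → x ∉ W → x ≠ 1 ∧ x ≠ t ∧ x ≠ c ∧ x ≠ t * c := by
      intro x _ hx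
      simpa [hW] using hx
    have htT' : t ∈ T ∧ t ≠ 1 := ⟨hB.htT, hB.t_ne_one⟩
    have hcT' : c ∈ T ∧ c ≠ 1 := ⟨hcT, hc1⟩
    have htcT' : t * c ∈ T ∧ t * c ≠ 1 := ⟨T.mul_mem hB.htT hcT, htc1⟩
    have hrel : ∀ {x}, x ∈ T → x ∉ W →
        (x ∈ H (t * c) htcT' ↔ ¬ (x ∈ H t htT' ↔ x ∈ H c hcT')) := by
      intro x hxT hxW
      obtain ⟨h1, h2, h3, h4⟩ := hout hxT hxW
      have e1 := hxor ⟨hxT, h1⟩ htT' h2
      have e2 := hxor ⟨hxT, h1⟩ hcT' h3
      have e3 := hxor ⟨hxT, h1⟩ htcT' h4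
      exact xor_three e1 e2 e3 (index_two_additive (hHidx ⟨hxT, h1⟩) hB.htT hcT)
    have p1 := hrel haT haW
    have p2 := hrel ha'T ha'W.1
    have p3 := hrel (T.mul_mem haT ha'T) haa
    have f1 := index_two_additive (hHidx htT') haT ha'T
    have f2 := index_two_additive (hHidx hcT') haT ha'T
    have f3 := index_two_additive (hHidx htcT') haT ha'T
    exact xor_parity f1 f2 f3 p1 p2 p3
  -- `t` is conjugate to all of `t U`
  exfalso
  obtain ⟨y, hyS, hyT, hy⟩ := exists_normalizing S.2 hTS (fun h' => hST h'.ge)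
  obtain ⟨n, hn⟩ := S.2 ⟨y, hyS⟩
  have hQ := isPGroup_sup_zpowers hB.hT hy (n := n) (by simpa using congrArg Subtype.val hn)
  set Q : Subgroup G := zpowers y ⊔ T with hQdef
  have hQN : Q ≤ Nm := sup_le (zpowers_le.2 (mem_normalizer_of_conj hy)) Subgroup.le_normalizer
  have hQbig : Nat.card T < Nat.card Q := by
    by_contra h'
    push_neg at h'
    exact hyT (eq_of_le_of_card_ge (le_sup_right : T ≤ Q) h' ▸ mem_sup_left (mem_zpowers y))
  -- an orbit of odd size has a point whose stabilizer contains a bigger `2`-group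
  have hfixed : ∀ (Ω : Set G), (∀ q ∈ Q, ∀ x ∈ Ω, q * x * q⁻¹ ∈ Ω) → Odd (Nat.card Ω) →
      ∃ x ∈ Ω, ∀ q ∈ Q, q * x = x * q := by
    intro Ω hΩ hodd
    let _ : MulAction Q Ω :=
      { smul := fun q x => ⟨(q : G) * x * (q : G)⁻¹, hΩ q q.2 x x.2⟩
        one_smul := fun x => Subtype.ext (by
          show ((1 : Q) : G) * x * ((1 : Q) : G)⁻¹ = x
          simp)
        mul_smul := fun a b x => Subtype.ext (by
          show ((a * b : Q) : G) * x * ((a * b : Q) : G)⁻¹ = (a : G) * ((b : G) * x * (b : G)⁻¹) *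
            (a : G)⁻¹
          simp [mul_assoc]) }
    have hm := hQ.card_modEq_card_fixedPoints Ω
    have : Nat.card (MulAction.fixedPoints Q Ω) ≠ 0 := fun h0 => by
      rw [h0] at hm
      exact Nat.not_even_iff_odd.2 hodd (even_iff_two_dvd.2 (Nat.modEq_zero_iff_dvd.1 hm))
    obtain ⟨⟨x, hx⟩⟩ := (Nat.card_ne_zero.1 this).1
    refine ⟨x, x.2, fun q hq => ?_⟩
    exact mul_inv_eq_iff_eq_mul.1 (congrArg Subtype.val (hx ⟨q, hq⟩))
  have hnotU : ∀ {u}, u ∈ U → ¬ O u := by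
    intro u hu hO
    have hOall : ∀ {x}, x ∈ T → x ≠ 1 → O x := by
      intro x hx hx1
      by_cases hxU : x ∈ U
      · exact hU1 hu (hOne hO) hO x hxU hx1
      · obtain ⟨w, hw, rfl⟩ := h.tmul_mem hx hxU
        rcases eq_or_ne w 1 with rfl | hw1
        · rw [mul_one]; exact hOt
        · exact hall hu hO w hw hw1
    obtain ⟨x, ⟨hxT, hx1⟩, hxc⟩ := hfixed {x | x ∈ T ∧ x ≠ 1} (fun q hq x hx =>
      ⟨(mem_normalizer_iff.1 (hQN hq) x).1 hx.1, fun h1 => hx.2 (conj_eq_one_iff.1 h1)⟩) (by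
        have e : Nat.card {x : G | x ∈ T ∧ x ≠ 1} + 1 = Nat.card T := by
          rw [Nat.card_coe_set_eq, show {x : G | x ∈ T ∧ x ≠ 1} = (T : Set G) \ {1} by
            ext x; simp, ← SetLike.coe_sort_coe T, Nat.card_coe_set_eq]
          exact Set.ncard_diff_singleton_add_one T.one_mem (Set.toFinite _)
        rw [h.cardT] at e
        exact ⟨Nat.card U - 1, by have := h.hU4; omega⟩)
    obtain ⟨g, -, hge⟩ := hOall hxT hx1
    have := hB.card_le (isConj_iff.2 ⟨g, hge⟩) hQ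
      (fun q hq => mem_centralizer_singleton_iff.2 (hxc q hq))
    omega
  have hy' : O (y * t * y⁻¹) := ⟨y, mem_normalizer_of_conj hy, rfl⟩
  obtain ⟨v, hv, hve⟩ := h.tmul_mem (hOT hy') (fun h' => hnotU h' hy')
  have hv1 : v ≠ 1 := fun h1 => by
    rw [h1, mul_one] at hve
    exact hyT (hB.sylow_eq S.2 hTS hyS (mul_inv_eq_iff_eq_mul.1 hve))
  have hOU : ∀ {w}, w ∈ U → O (t * w) := by
    intro w hw
    rcases eq_or_ne w 1 with rfl | hw1
    · rw [mul_one]; exact hOt
    · exact hV1 hv hv1 (hve ▸ hy') w hw hw1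
  -- `N(T)` normalizes `U`
  have hNmU : ∀ {g u}, g ∈ Nm → u ∈ U → g * u * g⁻¹ ∈ U := by
    intro g u hg hu
    have hmap : ∀ {x}, O x → ∃ w ∈ U, g * x * g⁻¹ = t * w := by
      rintro x ⟨k, hk, rfl⟩
      have hO : O (g * (k * t * k⁻¹) * g⁻¹) := ⟨g * k, mul_mem hg hk, by group⟩
      exact h.tmul_mem (hOT hO) fun h' => hnotU h' hO
    obtain ⟨a, ha, hae⟩ := hmap hOt
    obtain ⟨b, hb, hbe⟩ := hmap (hOU hu)
    have e : g * u * g⁻¹ = g * t * g⁻¹ * (g * (t * u) * g⁻¹) := by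
      calc g * u * g⁻¹ = g * (t * t * u) * g⁻¹ := by rw [hB.tt, one_mul]
        _ = _ := by group
    rw [e, hae, hbe, show t * a * (t * b) = t * (a * t) * b by group, ← h.tU ha, ← mul_assoc,
      hB.tt, one_mul]
    exact U.mul_mem ha hb
  have hXU : ∀ u ∈ U, ¬ IsConj t u := by
    intro u hu hX
    have hu1 : u ≠ 1 := fun h1 => hB.t_ne_one ((isConj_one_right).1 (h1 ▸ hX).symm)
    obtain ⟨x, ⟨hxU, hx1⟩, hxc⟩ := hfixed {x | x ∈ U ∧ x ≠ 1} (fun q hq x hx =>
      ⟨hNmU (hQN hq) hx.1, fun h1 => hx.2 (conj_eq_one_iff.1 h1)⟩) (by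
        have e : Nat.card {x : G | x ∈ U ∧ x ≠ 1} + 1 = Nat.card U := by
          rw [Nat.card_coe_set_eq, show {x : G | x ∈ U ∧ x ≠ 1} = (U : Set G) \ {1} by
            ext x; simp, ← SetLike.coe_sort_coe U, Nat.card_coe_set_eq]
          exact Set.ncard_diff_singleton_add_one U.one_mem (Set.toFinite _)
        obtain ⟨m, hm⟩ := (hB.hT.to_le h.hUT).exists_card_eq
        have := h.hU4
        rcases m with _ | m
        · rw [pow_zero] at hm; omega
        · rw [hm, pow_succ] at e this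
          exact ⟨2 ^ m - 1, by omega⟩)
    obtain ⟨d, hd, hde⟩ := h.hDtrans u hu hu1 x hxU hx1
    have := hB.card_le (hX.trans (isConj_iff.2 ⟨d, hde⟩)) hQ
      (fun q hq => mem_centralizer_singleton_iff.2 (hxc q hq))
    omega
  have good : Good t T U Dg U 0 := by
    refine ⟨fun a ha b hb => h.commT (h.hUT ha) (h.hUT hb), le_rfl, fun r hr => ?_,
      fun r hr => ?_, hXU, fun r hr _ => hr, fun r hr => by simpa using hr,
      fun u hu => ⟨u, hu, by simp⟩, fun r _ hr1 => ⟨1, U.one_mem, by simpa using hr1.symm⟩,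
      fun d hd => ⟨d, h.hDt d hd, fun r hr => hDU hd hr, fun _ _ => rfl⟩⟩
    · rw [h.tU hr, mul_assoc, hB.tt, mul_one, inv_of_sq (h.hexp r (h.hUT hr))]
    · obtain ⟨g, -, hg⟩ := hOU hr
      exact isConj_iff.2 ⟨g, hg⟩
  exact good_false hG h good

end CfsgLib.TimesPSL
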