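import Cfsg.Agent.Lib.TimesPSL.Base
import Cfsg.Agent.Lib.TimesPSL.Sgn
import Mathlib.GroupTheory.Nilpotent

/-!
# An involution centralizer with elementary abelian Sylow 2-subgroup: generalities
-/

namespace CfsgLib.TimesPSL

open Subgroup

variable {G : Type*} [Group G]

/-- `T = ⟨t⟩ × U` is elementary abelian, `Dg` acts transitively and commutatively on `U#`. -/
structure ESetup (t : G) (T U Dg : Subgroup G) : Prop where
  base : Base t T
  hUT : U ≤ T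
  htU : t ∉ U
  hsplit : ∀ x ∈ T, x ∈ U ∨ t * x ∈ U
  hexp : ∀ x ∈ T, x * x = 1
  hU4 : 4 ≤ Nat.card U
  hNU : ∀ g : G, g * t = t * g → (∀ x ∈ T, g * x * g⁻¹ ∈ T) → ∀ u ∈ U, g * u * g⁻¹ ∈ U
  hDt : ∀ d ∈ Dg, d * t = t * d
  hDT : ∀ d ∈ Dg, ∀ x ∈ T, d * x * d⁻¹ ∈ T
  hDcomm : ∀ a ∈ Dg, ∀ b ∈ Dg, ∀ u ∈ U, a * b * u * (a * b)⁻¹ = b * a * u * (b * a)⁻¹
  hDtrans : ∀ u ∈ U, u ≠ 1 → ∀ v ∈ U, v ≠ 1 → ∃ d ∈ Dg, d * u * d⁻¹ = v
  hDnorm : ∀ g : G, g * t = t * g → (∀ x ∈ T, g * x * g⁻¹ ∈ T) → ∀ d ∈ Dg, ∃ d' ∈ Dg,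
    ∀ u ∈ U, g * d * g⁻¹ * u * (g * d * g⁻¹)⁻¹ = d' * u * d'⁻¹

theorem inv_of_sq {x : G} (h : x * x = 1) : x⁻¹ = x := inv_eq_of_mul_eq_one_right h

theorem conj_inv_mem_of_finite [Finite G] {T : Subgroup G} {g : G}
    (h : ∀ x ∈ T, g * x * g⁻¹ ∈ T) : ∀ x ∈ T, g⁻¹ * x * g ∈ T := by
  intro x hx
  let e : T → T := fun y => ⟨g * y * g⁻¹, h y y.2⟩
  have einj : Function.Injective e := fun a b hab => Subtype.ext (by
    have h' : g * (a : G) * g⁻¹ = g * b * g⁻¹ := congrArg Subtype.val hab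
    exact mul_left_cancel (mul_right_cancel h'))
  obtain ⟨⟨y, hy⟩, hy'⟩ := Finite.injective_iff_surjective.1 einj ⟨x, hx⟩
  have h' : g * y * g⁻¹ = x := congrArg Subtype.val hy'
  rw [show g⁻¹ * x * g = y by rw [← h']; group]
  exact hy

theorem mem_normalizer_of_conj [Finite G] {T : Subgroup G} {g : G}
    (h : ∀ x ∈ T, g * x * g⁻¹ ∈ T) : g ∈ normalizer (T : Set G) :=
  mem_normalizer_iff.2 fun x => ⟨h x, fun hx => by
    have := conj_inv_mem_of_finite h _ hx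
    rwa [show g⁻¹ * (g * x * g⁻¹) * g = x by group] at this⟩

/-- A `2`-group properly inside another grows in its normalizer. -/
theorem exists_normalizing {S P : Subgroup G} [Finite G] (hS : IsPGroup 2 S) (hPS : P ≤ S)
    (h : P ≠ S) : ∃ g ∈ S, g ∉ P ∧ ∀ x ∈ P, g * x * g⁻¹ ∈ P := by
  have : Fact (Nat.Prime 2) := ⟨Nat.prime_two⟩
  have := hS.isNilpotent
  have hlt : P.subgroupOf S < ⊤ := lt_top_iff_ne_top.2 fun h' =>
    h (le_antisymm hPS (Subgroup.subgroupOf_eq_top.1 h'))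
  obtain ⟨g, hg, hgP⟩ := SetLike.exists_of_lt (Group.normalizerCondition_of_isNilpotent _ hlt)
  refine ⟨g, g.2, fun h' => hgP h', fun x hx => ?_⟩
  exact (mem_normalizer_iff.1 hg ⟨x, hPS hx⟩).1 hx

/-- The subgroup generated by a `2`-group and a normalizing `2`-element. -/
theorem isPGroup_sup_zpowers [Finite G] {T : Subgroup G} (hT : IsPGroup 2 T) {g : G}
    (hg : ∀ x ∈ T, g * x * g⁻¹ ∈ T) {n : ℕ} (hn : g ^ 2 ^ n = 1) :
    IsPGroup 2 (zpowers g ⊔ T : Subgroup G) :=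
  IsPGroup.to_sup_of_normal_right' (IsPGroup.of_card_dvd_pow (n := n) (by
    rw [Nat.card_zpowers]; exact orderOf_dvd_of_pow_eq_one hn)) hT
    (zpowers_le.2 (mem_normalizer_of_conj hg))

/-- An odd power of an element is a `2`-element. -/
theorem exists_odd_pow [Finite G] (g : G) : ∃ m a : ℕ, Odd m ∧ (g ^ m) ^ 2 ^ a = 1 := by
  obtain ⟨a, m, hm, he⟩ := Nat.exists_eq_two_pow_mul_odd (orderOf_pos g).ne'
  exact ⟨m, a, hm, by rw [← pow_mul, mul_comm, ← he, pow_orderOf_eq_one]⟩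

namespace ESetup

variable {t : G} {T U Dg : Subgroup G}

theorem commT (h : ESetup t T U Dg) {x y : G} (hx : x ∈ T) (hy : y ∈ T) : x * y = y * x := by
  have h1 := inv_of_sq (h.hexp _ (T.mul_mem hx hy))
  rw [mul_inv_rev, inv_of_sq (h.hexp x hx), inv_of_sq (h.hexp y hy)] at h1
  exact h1.symm

theorem tU (h : ESetup t T U Dg) {u : G} (hu : u ∈ U) : t * u = u * t :=
  h.commT h.base.htT (h.hUT hu)

theorem tmul_mem (h : ESetup t T U Dg) {x : G} (hx : x ∈ T) (hxU : x ∉ U) :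
    ∃ u ∈ U, x = t * u :=
  ⟨t * x, (h.hsplit x hx).resolve_left hxU, by rw [← mul_assoc, h.base.tt, one_mul]⟩

theorem cardT (h : ESetup t T U Dg) [Finite G] : Nat.card T = 2 * Nat.card U := by
  have hi : (U.subgroupOf T).index = 2 := by
    rw [Subgroup.index_eq_two_iff]
    refine ⟨⟨t, h.base.htT⟩, fun x => ?_⟩
    simp only [mem_subgroupOf, Subgroup.coe_mul]
    rw [← h.commT h.base.htT x.2]
    rcases h.hsplit x x.2 with hU | hU
    · exact Or.inr ⟨hU, fun h' => h.htU ((mul_mem_cancel_right hU).1 h')⟩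
    · exact Or.inl ⟨hU, fun h' => h.htU ((mul_mem_cancel_right h').1 hU)⟩
  have := Subgroup.index_mul_card (U.subgroupOf T)
  rw [hi, Nat.card_congr (Subgroup.subgroupOfEquivOfLe h.hUT).toEquiv] at this
  exact this.symm

theorem conjT (h : ESetup t T U Dg) {g : G} (hg : g * t = t * g)
    (hgU : ∀ u ∈ U, g * u * g⁻¹ ∈ U) : ∀ x ∈ T, g * x * g⁻¹ ∈ T := by
  intro x hx
  by_cases hxU : x ∈ U
  · exact h.hUT (hgU x hxU)
  · obtain ⟨u, hu, rfl⟩ := h.tmul_mem hx hxU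
    rw [show g * (t * u) * g⁻¹ = g * t * g⁻¹ * (g * u * g⁻¹) by group, mul_inv_eq_of_eq_mul hg]
    exact T.mul_mem h.base.htT (h.hUT (hgU u hu))

/-- A `2`-element of the centralizer of `t` normalizing `T` lies in `T`. -/
theorem two_mem (h : ESetup t T U Dg) [Finite G] {g : G} (hg : g * t = t * g)
    (hgT : ∀ x ∈ T, g * x * g⁻¹ ∈ T) {n : ℕ} (hn : g ^ 2 ^ n = 1) : g ∈ T := by
  have hQ := isPGroup_sup_zpowers h.base.hT hgT hn
  rw [h.base.eq_of_le hQ le_sup_right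
    (sup_le (zpowers_le.2 (mem_centralizer_singleton_iff.2 hg)) h.base.hle)]
  exact mem_sup_left (mem_zpowers g)

/-- The automizer of `T` in the centralizer of `t` has odd order. -/
theorem triv_of_pow (h : ESetup t T U Dg) [Finite G] {g : G} (hg : g * t = t * g)
    (hgT : ∀ x ∈ T, g * x * g⁻¹ ∈ T) {k : ℕ}
    (hk : ∀ u ∈ U, g ^ 2 ^ k * u = u * g ^ 2 ^ k) : ∀ u ∈ U, g * u = u * g := by
  obtain ⟨m, a, hm, ha⟩ := exists_odd_pow g
  have hgN : g ∈ normalizer (T : Set G) := mem_normalizer_of_conj hgT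
  have hgC : g ∈ centralizer ({t} : Set G) := mem_centralizer_singleton_iff.2 hg
  have hmT : g ^ m ∈ T := h.two_mem (mem_centralizer_singleton_iff.1 (pow_mem hgC m))
    (fun x hx => (mem_normalizer_iff.1 (pow_mem hgN m) x).1 hx) ha
  intro u hu
  have h1 : Commute (g ^ m) u := h.commT hmT (h.hUT hu)
  have h2 : Commute (g ^ 2 ^ k) u := hk u hu
  have hcop : Nat.Coprime (2 ^ k) m := Nat.Coprime.pow_left _ (Nat.coprime_two_left.2 hm)
  have hb := Nat.gcd_eq_gcd_ab (2 ^ k) m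
  rw [hcop.gcd_eq_one] at hb
  have : Commute (g ^ ((1 : ℕ) : ℤ)) u := by
    rw [hb, zpow_add, zpow_mul, zpow_mul, zpow_natCast, zpow_natCast]
    exact (h2.zpow_left _).mul_left (h1.zpow_left _)
  simpa using this.eq

/-- A `2`-element centralizing a conjugate of `t` has order at most `2`. -/
theorem sq_of_cent (h : ESetup t T U Dg) [Finite G] {x y : G} (hx : IsConj t x)
    (hy : y * x = x * y) {n : ℕ} (hn : y ^ 2 ^ n = 1) : y * y = 1 := by
  obtain ⟨g, rfl⟩ := isConj_iff.1 hx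
  have hy' : g⁻¹ * y * g * t = t * (g⁻¹ * y * g) := by
    calc g⁻¹ * y * g * t = g⁻¹ * (y * (g * t * g⁻¹)) * g := by group
      _ = g⁻¹ * (g * t * g⁻¹ * y) * g := by rw [hy]
      _ = t * (g⁻¹ * y * g) := by group
  obtain ⟨c, -, hc⟩ := h.base.conj_into (Q := zpowers (g⁻¹ * y * g))
    (IsPGroup.of_card_dvd_pow (n := n) (by
      rw [Nat.card_zpowers]
      refine orderOf_dvd_of_pow_eq_one ?_
      have := conj_pow (a := g⁻¹) (b := y) (i := 2 ^ n)
      rw [inv_inv] at this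
      rw [this, hn]; group))
    (zpowers_le.2 (mem_centralizer_singleton_iff.2 hy'))
  have h1 := h.hexp _ (hc _ (mem_zpowers _))
  calc y * y = g * c⁻¹ * (c * (g⁻¹ * y * g) * c⁻¹ * (c * (g⁻¹ * y * g) * c⁻¹)) * c * g⁻¹ := by
        group
    _ = 1 := by rw [h1]; group

/-- Two distinct non-trivial elements of `U` besides a given one. -/
theorem exists_factor (h : ESetup t T U Dg) [Finite G] {u : G} (hu : u ∈ U) (hu1 : u ≠ 1) :
    ∃ v ∈ U, v ≠ 1 ∧ v ≠ u := by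
  classical
  have := Fintype.ofFinite U
  have hc : ({1, ⟨u, hu⟩} : Finset U).card < (Finset.univ : Finset U).card := by
    rw [Finset.card_univ, ← Nat.card_eq_fintype_card]
    refine lt_of_le_of_lt (Finset.card_insert_le _ _) ?_
    rw [Finset.card_singleton]
    have := h.hU4
    omega
  obtain ⟨v, -, hv⟩ := Finset.exists_mem_notMem_of_card_lt_card hc
  simp only [Finset.mem_insert, Finset.mem_singleton, not_or] at hv
  exact ⟨v, v.2, fun h1 => hv.1 (Subtype.ext h1), fun h1 => hv.2 (Subtype.ext h1)⟩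

end ESetup

end CfsgLib.TimesPSL
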