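import Cfsg.Agent.Lib.TimesPSL.Sgn
import Mathlib.GroupTheory.PGroup
import Mathlib.GroupTheory.QuotientGroup.Basic

/-!
# A Sylow 2-subgroup of the automorphism group of an elementary group of order eight
-/

namespace CfsgLib.TimesPSL

open Subgroup

variable {U : Type*} [CommGroup U] [Finite U]

theorem flag_eight (hU : ∀ u : U, u * u = 1) (hcard : Nat.card U = 8) (B : Subgroup (MulAut U))
    (hB2 : IsPGroup 2 B) (hB8 : 8 ≤ Nat.card B) :
    Nat.card B = 8 ∧ ∃ (χa χb : B →* ℤˣ) (c0 : B) (v : U),
      c0 ≠ 1 ∧ χa c0 = 1 ∧ χb c0 = 1 ∧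
      (∀ b, χa b = 1 → χb b = 1 → b = 1 ∨ b = c0) ∧
      (∀ i k : ℤˣ, ∃ b, χa b = i ∧ χb b = k) ∧
      (∀ b, c0 * b = b * c0) ∧
      (∀ b, χa b = -1 → χb b = -1 → b * b = c0) ∧
      (∀ b, ¬ (χa b = -1 ∧ χb b = -1) → b * b = 1) ∧
      (∀ b, χa b = -1 → ∀ u : U, (c0 : MulAut U) u = u → (b : MulAut U) u = u → u = 1 ∨ u = v) := by
  classical
  have : Fact (Nat.Prime 2) := ⟨Nat.prime_two⟩
  have := Fintype.ofFinite U
  let ev : MulAction B U :=
    { smul := fun b u => (b : MulAut U) u
      one_smul := fun _ => rfl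
      mul_smul := fun _ _ _ => rfl }
  -- a fixed element
  obtain ⟨v, hv1, hv⟩ : ∃ v : U, v ≠ 1 ∧ ∀ b : B, (b : MulAut U) v = v := by
    have hm := hB2.card_modEq_card_fixedPoints U
    rw [hcard] at hm
    have h1 : (1 : U) ∈ MulAction.fixedPoints B U := fun b => map_one (b : MulAut U)
    have hne : Nat.card (MulAction.fixedPoints B U) ≠ 1 := fun h => by rw [h] at hm; exact absurd hm (by decide)
    by_contra hno
    push_neg at hno
    refine hne (Nat.card_eq_one_iff_unique.2 ⟨⟨fun a b => Subtype.ext ?_⟩, ⟨⟨1, h1⟩⟩⟩)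
    have : ∀ x : MulAction.fixedPoints B U, (x : U) = 1 := fun x => by
      by_contra hx
      obtain ⟨c, hc⟩ := hno x hx
      exact hc (x.2 c)
    rw [this a, this b]
  have hvi : ∀ {x : U}, x ∈ zpowers v → x = 1 ∨ x = v := by
    intro x hx
    obtain ⟨i, rfl⟩ := mem_zpowers_iff.1 hx
    rcases Int.even_or_odd i with ⟨l, rfl⟩ | ⟨l, rfl⟩
    · left; rw [← two_mul, zpow_mul, zpow_two, hU, one_zpow]
    · right; rw [zpow_add, zpow_mul, zpow_two, hU, one_zpow, one_mul, zpow_one]
  have hstab : ∀ b : B, zpowers v ≤ (zpowers v).comap (b : MulAut U).toMonoidHom := fun b => by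
    rw [zpowers_le, mem_comap]
    exact (hv b).symm ▸ mem_zpowers v
  let act : MulAction B (U ⧸ zpowers v) :=
    { smul := fun b q => QuotientGroup.map _ _ (b : MulAut U).toMonoidHom (hstab b) q
      one_smul := fun q => by induction q using QuotientGroup.induction_on; rfl
      mul_smul := fun a b q => by induction q using QuotientGroup.induction_on; rfl }
  obtain ⟨w, hw, hwmap⟩ : ∃ w : U, w ∉ zpowers v ∧
      ∀ b : B, (b : MulAut U) w = w ∨ (b : MulAut U) w = w * v := by
    have hm := hB2.card_modEq_card_fixedPoints (U ⧸ zpowers v)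
    have hq : Nat.card (U ⧸ zpowers v) = 4 := by
      have h1 := Subgroup.index_mul_card (zpowers v)
      rw [Nat.card_zpowers, orderOf_eq_prime (by rw [pow_two]; exact hU v) hv1, hcard,
        Subgroup.index_eq_card] at h1
      omega
    rw [hq] at hm
    have h1 : (1 : U ⧸ zpowers v) ∈ MulAction.fixedPoints B (U ⧸ zpowers v) := fun b =>
      map_one (QuotientGroup.map _ _ (b : MulAut U).toMonoidHom (hstab b))
    have hne : Nat.card (MulAction.fixedPoints B (U ⧸ zpowers v)) ≠ 1 := fun h => by
      rw [h] at hm; exact absurd hm (by decide)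
    by_contra hno
    push_neg at hno
    refine hne (Nat.card_eq_one_iff_unique.2 ⟨⟨fun a b => Subtype.ext ?_⟩, ⟨⟨1, h1⟩⟩⟩)
    have : ∀ x : MulAction.fixedPoints B (U ⧸ zpowers v), (x : U ⧸ zpowers v) = 1 := by
      rintro ⟨x, hx⟩
      induction x using QuotientGroup.induction_on with
      | _ u =>
        by_contra hne'
        have hu : u ∉ zpowers v := fun h => hne' ((QuotientGroup.eq_one_iff u).2 h)
        obtain ⟨c, hc1, hc2⟩ := hno u hu
        have h2 : (QuotientGroup.mk ((c : MulAut U) u) : U ⧸ zpowers v) = QuotientGroup.mk u := hx c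
        rcases hvi (QuotientGroup.eq.1 h2) with h3 | h3
        · exact hc1 (inv_mul_eq_one.1 h3)
        · refine hc2 ?_
          have h4 : u = (c : MulAut U) u * v := by rw [← h3, mul_inv_cancel_left]
          conv_rhs => rw [h4]
          rw [mul_assoc, hU, mul_one]
    rw [this a, this b]
  let W : Finset U := {1, v, w, w * v}
  have hWc : W.card ≤ 4 :=
    (Finset.card_insert_le _ _).trans (Nat.succ_le_succ ((Finset.card_insert_le _ _).trans
      (Nat.succ_le_succ (Finset.card_le_two))))
  obtain ⟨e, -, he⟩ := Finset.exists_mem_notMem_of_card_lt_card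
    (show W.card < (Finset.univ : Finset U).card by
      rw [Finset.card_univ, ← Nat.card_eq_fintype_card, hcard]; omega)
  let K : Subgroup U := zpowers w ⊔ zpowers v
  have hKW : ∀ {x}, x ∈ K ↔ x ∈ W := by
    intro x
    constructor
    · intro hx
      obtain ⟨a, ha, b, hb, rfl⟩ := mem_sup.1 hx
      obtain ⟨i, rfl⟩ := mem_zpowers_iff.1 ha
      rcases hvi hb with rfl | rfl <;> rcases Int.even_or_odd i with ⟨l, rfl⟩ | ⟨l, rfl⟩ <;>
        simp [W, two_mul, zpow_add, ← mul_zpow, hU]
    · intro hx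
      simp only [W, Finset.mem_insert, Finset.mem_singleton] at hx
      rcases hx with rfl | rfl | rfl | rfl
      · exact one_mem _
      · exact mem_sup_right (mem_zpowers _)
      · exact mem_sup_left (mem_zpowers _)
      · exact mul_mem (mem_sup_left (mem_zpowers _)) (mem_sup_right (mem_zpowers _))
  have hKcard : Nat.card K ≤ 4 := by
    have e1 : {x // x ∈ K} ≃ {x // x ∈ W} := Equiv.subtypeEquivRight fun _ => hKW
    rw [Nat.card_congr e1, Nat.card_eq_fintype_card, Fintype.card_coe]
    exact hWc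
  have hwK : w ∈ K := mem_sup_left (mem_zpowers w)
  have hvK : v ∈ K := mem_sup_right (mem_zpowers v)
  have heK : e ∉ K := fun h => he (hKW.1 h)
  have hw1 : w ≠ 1 := fun h => hw (h ▸ one_mem _)
  have hwv : w ≠ v := fun h => hw (h ▸ mem_zpowers v)
  have hKidx : K.index = 2 := by
    have h1 := Subgroup.index_mul_card K
    rw [hcard] at h1
    have h3 : K.index ≠ 1 := fun h => heK (Subgroup.index_eq_one.1 h ▸ mem_top e)
    have h5 : 3 ≤ Nat.card K := by
      have : ({1, v, w} : Finset U).card = 3 := by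
        simp [Finset.card_insert_of_notMem, Ne.symm hv1, Ne.symm hw1, Ne.symm hwv]
      rw [← this]
      have hsub : ({1, v, w} : Finset U) ⊆ Finset.univ.filter (fun x => x ∈ K) := by
        intro x hx
        simp only [Finset.mem_insert, Finset.mem_singleton] at hx
        rcases hx with rfl | rfl | rfl <;> simp [hwK, hvK, one_mem]
      refine (Finset.card_le_card hsub).trans (le_of_eq ?_)
      rw [← Fintype.card_subtype, ← Nat.card_eq_fintype_card]
    interval_cases h4 : Nat.card K <;> omega
  -- the parameters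
  have hbw : ∀ b : B, ∃ x, (x = 1 ∨ x = v) ∧ (b : MulAut U) w = w * x := fun b => by
    rcases hwmap b with h | h
    · exact ⟨1, Or.inl rfl, by rw [mul_one]; exact h⟩
    · exact ⟨v, Or.inr rfl, h⟩
  choose xb hxb hbw using hbw
  have hbK : ∀ (b : B) {k}, k ∈ K → (b : MulAut U) k ∈ K := by
    intro b k hk
    obtain ⟨a, ha, c, hc, rfl⟩ := mem_sup.1 hk
    rw [map_mul]
    refine mul_mem ?_ ?_
    · obtain ⟨i, rfl⟩ := mem_zpowers_iff.1 ha
      rw [map_zpow, hbw]
      refine zpow_mem (mul_mem hwK ?_) i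
      rcases hxb b with h | h <;> rw [h]
      · exact one_mem _
      · exact hvK
    · rcases hvi hc with rfl | rfl
      · rw [map_one]; exact one_mem _
      · rw [hv]; exact hvK
  let kb : B → U := fun b => e * (b : MulAut U) e
  have hkb : ∀ b, kb b ∈ K := by
    intro b
    refine (Subgroup.mul_mem_iff_of_index_two hKidx).2 (iff_of_false heK fun h => heK ?_)
    have := hbK b⁻¹ h
    rwa [show ((b⁻¹ : B) : MulAut U) ((b : MulAut U) e) = e from
      MulEquiv.symm_apply_apply _ _] at this
  have hbe : ∀ b : B, (b : MulAut U) e = e * kb b := fun b => by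
    simp only [kb]; rw [← mul_assoc, hU, one_mul]
  have hgen : ∀ u : U, u ∈ K ∨ e * u ∈ K := fun u => by
    by_cases h : u ∈ K
    · exact Or.inl h
    · exact Or.inr ((Subgroup.mul_mem_iff_of_index_two hKidx).2 (iff_of_false heK h))
  have hext : ∀ a b : B, xb a = xb b → kb a = kb b → a = b := by
    intro a b hx hk
    have hKeq : ∀ k ∈ K, (a : MulAut U) k = (b : MulAut U) k := fun k hk' => by
      obtain ⟨p, hp, c, hc, rfl⟩ := mem_sup.1 hk'
      obtain ⟨i, rfl⟩ := mem_zpowers_iff.1 hp
      obtain ⟨l, rfl⟩ := mem_zpowers_iff.1 hc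
      rw [map_mul, map_mul, map_zpow, map_zpow, map_zpow, map_zpow, hbw, hbw, hx, hv, hv]
    refine Subtype.ext (MulEquiv.ext fun u => ?_)
    rcases hgen u with h | h
    · exact hKeq u h
    · have h2 := hKeq _ h
      rw [map_mul, map_mul, hbe, hbe, hk] at h2
      exact mul_left_cancel h2
  let par : B → zpowers v × K := fun b =>
    (⟨xb b, by rcases hxb b with h | h <;> rw [h] <;> simp⟩, ⟨kb b, hkb b⟩)
  have hpar : Function.Injective par := fun a b h =>
    hext a b (congrArg (fun p => (p.1 : U)) h) (congrArg (fun p => (p.2 : U)) h)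
  have hKc : Nat.card K = 4 := by
    have h1 := Subgroup.index_mul_card K
    rw [hcard, hKidx] at h1
    omega
  have htgt : Nat.card (zpowers v × K) = 8 := by
    rw [Nat.card_prod, Nat.card_zpowers, orderOf_eq_prime (by rw [pow_two]; exact hU v) hv1, hKc]
  have hle : Nat.card B ≤ 8 := htgt ▸ Nat.card_le_card_of_injective par hpar
  refine ⟨le_antisymm hle hB8, ?_⟩
  have hbij : Function.Bijective par :=
    (Nat.bijective_iff_injective_and_card par).2 ⟨hpar, by rw [htgt]; omega⟩
  have hsol : ∀ x k, (x = 1 ∨ x = v) → k ∈ K → ∃ b, xb b = x ∧ kb b = k := by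
    intro x k hx hk
    obtain ⟨b, hb⟩ := hbij.2 (⟨x, by rcases hx with h | h <;> rw [h] <;> simp⟩, ⟨k, hk⟩)
    exact ⟨b, congrArg (fun p => (p.1 : U)) hb, congrArg (fun p => (p.2 : U)) hb⟩
  have hxmul : ∀ a b, xb (a * b) = xb a * xb b := fun a b => by
    have h1 := hbw (a * b)
    have h2 : ((a * b : B) : MulAut U) w = (a : MulAut U) ((b : MulAut U) w) := rfl
    rw [h2, hbw b, map_mul, hbw a, mul_assoc] at h1
    have h3 := mul_left_cancel h1
    rcases hxb b with h | h
    · rw [h, map_one] at h3; rw [h]; exact h3.symm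
    · rw [h, hv] at h3; rw [h]; exact h3.symm
  have hkmul : ∀ a b, kb (a * b) = kb a * (a : MulAut U) (kb b) := fun a b => by
    have h1 := hbe (a * b)
    have h2 : ((a * b : B) : MulAut U) e = (a : MulAut U) ((b : MulAut U) e) := rfl
    rw [h2, hbe b, map_mul, hbe a, mul_assoc] at h1
    exact (mul_left_cancel h1).symm
  have hKact : ∀ (a : B) {k}, k ∈ K → k * (a : MulAut U) k ∈ zpowers v := by
    intro a k hk
    obtain ⟨p, hp, c, hc, rfl⟩ := mem_sup.1 hk
    obtain ⟨i, rfl⟩ := mem_zpowers_iff.1 hp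
    obtain ⟨l, rfl⟩ := mem_zpowers_iff.1 hc
    rw [map_mul, map_zpow, map_zpow, hbw, hv, mul_zpow, mul_mul_mul_comm, ← mul_assoc (w ^ i) (w ^ i),
      ← mul_zpow w w, hU, one_zpow, one_mul]
    refine mul_mem (zpow_mem ?_ i) (mul_mem (zpow_mem (mem_zpowers v) l) (zpow_mem (mem_zpowers v) l))
    rcases hxb a with h | h <;> rw [h] <;> simp
  let χa : B →* ℤˣ :=
    { toFun := fun b => if xb b = 1 then 1 else -1
      map_one' := if_pos (by
        have := hxmul 1 1
        rw [mul_one] at this
        exact mul_eq_left.1 this.symm)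
      map_mul' := fun a b => by
        rw [hxmul]
        rcases hxb a with ha | ha <;> rcases hxb b with hb | hb <;>
          simp [ha, hb, hv1, hU] }
  let χb : B →* ℤˣ :=
    { toFun := fun b => if kb b ∈ zpowers v then 1 else -1
      map_one' := if_pos (by
        have := hkmul 1 1
        rw [mul_one] at this
        have h2 : ((1 : B) : MulAut U) (kb 1) = kb 1 := rfl
        rw [h2] at this
        rw [mul_eq_left.1 this.symm]; exact one_mem _)
      map_mul' := fun a b => by
        have h1 : kb (a * b) ∈ zpowers v ↔ kb a * kb b ∈ zpowers v := by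
          rw [hkmul]
          conv_rhs => rw [← mul_mem_cancel_right (hKact a (hkb b))]
          rw [show kb a * kb b * (kb b * (a : MulAut U) (kb b)) =
            kb a * (kb b * kb b) * (a : MulAut U) (kb b) by ac_rfl, hU, mul_one]
        have h2 : kb a ∉ zpowers v → kb b ∉ zpowers v → kb a * kb b ∈ zpowers v := by
          intro ha hb
          have hcases : ∀ {k}, k ∈ K → k ∉ zpowers v → k = w ∨ k = w * v := by
            intro k hk hkv
            have := hKW.1 hk
            simp only [W, Finset.mem_insert, Finset.mem_singleton] at this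
            rcases this with rfl | rfl | h | h
            · exact absurd (one_mem _) hkv
            · exact absurd (mem_zpowers _) hkv
            · exact Or.inl h
            · exact Or.inr h
          rcases hcases (hkb a) ha with h | h <;> rcases hcases (hkb b) hb with h' | h' <;>
            rw [h, h'] <;> simp [mul_comm w v, mul_assoc, mul_left_comm w, hU]
        by_cases ha : kb a ∈ zpowers v <;> by_cases hb : kb b ∈ zpowers v
        · simp [h1, ha, hb, mul_mem ha hb]
        · simp [h1, ha, hb, mul_mem_cancel_left ha]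
        · simp [h1, ha, hb, mul_mem_cancel_right hb]
        · simp [h1, ha, hb, h2 ha hb] }
  have hχa : ∀ b, χa b = 1 ↔ xb b = 1 := fun b => by
    by_cases h : xb b = 1 <;> simp [χa, h]
  have hχb : ∀ b, χb b = 1 ↔ kb b ∈ zpowers v := fun b => by
    by_cases h : kb b ∈ zpowers v <;> simp [χb, h]
  obtain ⟨c0, hc0x, hc0k⟩ := hsol 1 v (Or.inl rfl) hvK
  have hc0K : ∀ k ∈ K, (c0 : MulAut U) k = k := by
    intro k hk
    obtain ⟨p, hp, c, hc, rfl⟩ := mem_sup.1 hk
    obtain ⟨i, rfl⟩ := mem_zpowers_iff.1 hp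
    obtain ⟨l, rfl⟩ := mem_zpowers_iff.1 hc
    rw [map_mul, map_zpow, map_zpow, hbw, hc0x, mul_one, hv]
  have hx1 : xb 1 = 1 := (hχa 1).1 (map_one χa)
  have hk1 : kb 1 = 1 := by
    have := hkmul 1 1
    rw [mul_one] at this
    exact mul_eq_left.1 (this.symm : kb 1 * kb 1 = kb 1)
  have hsq : ∀ b, b * b = 1 ∧ (xb b = 1 ∨ kb b ∈ zpowers v) ∨
      b * b = c0 ∧ xb b = v ∧ kb b ∉ zpowers v := by
    intro b
    have hx2 : xb (b * b) = 1 := by rw [hxmul, hU]
    have hk2 := hkmul b b
    by_cases hkv : kb b ∈ zpowers v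
    · refine Or.inl ⟨hext _ _ (hx2.trans hx1.symm) ?_, Or.inr hkv⟩
      rcases hvi hkv with h | h <;> rw [hk2, h, hk1]
      · rw [map_one, mul_one]
      · rw [hv, hU]
    · rcases hxb b with h | h
      · refine Or.inl ⟨hext _ _ (hx2.trans hx1.symm) ?_, Or.inl h⟩
        have : (b : MulAut U) (kb b) = kb b := by
          obtain ⟨p, hp, c, hc, hpc⟩ := mem_sup.1 (hkb b)
          obtain ⟨i, rfl⟩ := mem_zpowers_iff.1 hp
          obtain ⟨l, rfl⟩ := mem_zpowers_iff.1 hc
          rw [← hpc, map_mul, map_zpow, map_zpow, hbw, h, mul_one, hv]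
        rw [hk2, this, hU, hk1]
      · refine Or.inr ⟨hext _ _ (hx2.trans hc0x.symm) ?_, h, hkv⟩
        have hcase : kb b = w ∨ kb b = w * v := by
          have := hKW.1 (hkb b)
          simp only [W, Finset.mem_insert, Finset.mem_singleton] at this
          rcases this with h' | h' | h' | h'
          · exact absurd (h' ▸ one_mem _) hkv
          · exact absurd (h' ▸ mem_zpowers v) hkv
          · exact Or.inl h'
          · exact Or.inr h'
        rw [hk2, hc0k]
        rcases hcase with h' | h' <;> rw [h']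
        · rw [hbw, h, ← mul_assoc, hU, one_mul]
        · rw [map_mul, hbw, h, hv, show w * v * (w * v * v) = (w * w) * (v * v) * v by ac_rfl, hU,
            hU, one_mul, one_mul]
  refine ⟨χa, χb, c0, v, ?_, (hχa _).2 hc0x, (hχb _).2 (hc0k ▸ mem_zpowers v), ?_, ?_, ?_, ?_, ?_, ?_⟩
  · intro h
    rw [h, hk1] at hc0k
    exact hv1 hc0k.symm
  · intro b ha hb
    rcases hvi ((hχb b).1 hb) with h | h
    · exact Or.inl (hext _ _ (((hχa b).1 ha).trans hx1.symm) (h.trans hk1.symm))
    · exact Or.inr (hext _ _ (((hχa b).1 ha).trans hc0x.symm) (h.trans hc0k.symm))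
  · intro i k
    obtain ⟨b, hb1, hb2⟩ := hsol (if i = 1 then 1 else v) (if k = 1 then 1 else w)
      (by split_ifs <;> simp) (by split_ifs <;> simp [one_mem, hwK])
    refine ⟨b, ?_, ?_⟩
    · rcases Int.units_eq_one_or i with rfl | rfl <;> simp [χa, hb1, hv1]
    · rcases Int.units_eq_one_or k with rfl | rfl <;> simp [χb, hb2, hw, one_mem]
  · intro b
    refine hext _ _ (by rw [hxmul, hxmul, mul_comm]) ?_
    rw [hkmul, hkmul, hc0K _ (hkb b), hc0k, hv, mul_comm]
  · intro b ha hb
    rcases hsq b with ⟨-, h⟩ | ⟨h, -, -⟩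
    · rcases h with h | h
      · rw [(hχa b).2 h] at ha; exact absurd ha (by decide)
      · rw [(hχb b).2 h] at hb; exact absurd hb (by decide)
    · exact h
  · intro b hne
    rcases hsq b with ⟨h, -⟩ | ⟨-, h1, h2⟩
    · exact h
    · refine absurd ⟨?_, ?_⟩ hne
      · simp [χa, h1, hv1]
      · simp [χb, h2]
  · intro b ha u hu hbu
    have hxbv : xb b = v := (hxb b).resolve_left fun h => by
      rw [(hχa b).2 h] at ha; exact absurd ha (by decide)
    have huK : u ∈ K := (hgen u).resolve_right fun h => by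
      have h2 := hc0K _ h
      rw [map_mul, hbe, hc0k, hu] at h2
      exact hv1 (mul_eq_left.1 (mul_right_cancel h2))
    have := hKW.1 huK
    simp only [W, Finset.mem_insert, Finset.mem_singleton] at this
    rcases this with h | h | h | h
    · exact Or.inl h
    · exact Or.inr h
    · rw [h, hbw, hxbv] at hbu
      exact absurd (mul_eq_left.1 hbu) hv1
    · rw [h, map_mul, hbw, hxbv, hv] at hbu
      exact absurd (mul_eq_left.1 hbu) hv1

end CfsgLib.TimesPSL
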