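import Cfsg.Agent.Lib.TimesPSL.AutMap
import Cfsg.Agent.Lib.TimesPSL.AvgChar
import Cfsg.Agent.Lib.TimesPSL.Flag
import Cfsg.Agent.Lib.TimesPSL.Affine

/-!
# No translation: the affine exception
-/

namespace CfsgLib.TimesPSL

open Subgroup

variable {G : Type*} [Group G]

/-- In degree four a point stabilizer of order at least three leaves no room. -/
theorem affine_degree_four {U : Type*} [CommGroup U] [Finite U] (hU4 : Nat.card U = 4)
    (A : Subgroup (MulAut U)) (c : A → U) (hc : ∀ a b, c (a * b) = c a * (a : MulAut U) (c b))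
    (hsurj : Function.Surjective c) (D : Subgroup A) (hD0 : ∀ d ∈ D, c d = 1)
    (hDtrans : ∀ u v : U, u ≠ 1 → v ≠ 1 → ∃ d ∈ D, ((d : A) : MulAut U) u = v) : False := by
  classical
  have := Fintype.ofFinite U
  choose s hs using hsurj
  let F : U × D → A := fun p => s p.1 * p.2
  have hF : Function.Injective F := by
    rintro ⟨u, d⟩ ⟨v, d'⟩ he
    have h1 := congrArg c he
    simp only [F, hc, hD0 _ d.2, hD0 _ d'.2, map_one, mul_one, hs] at h1
    subst h1
    exact Prod.ext rfl (Subtype.ext (mul_left_cancel he))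
  obtain ⟨u0, hu0⟩ : ∃ u : U, u ≠ 1 := by
    by_contra h
    push_neg at h
    have : Nat.card U ≤ 1 := Finite.card_le_one_iff_subsingleton.2 ⟨fun a b => by rw [h a, h b]⟩
    omega
  have hD3 : 3 ≤ Nat.card D := by
    have hsur : Function.Surjective (fun d : D => (⟨((d : A) : MulAut U) u0, fun h => hu0
        (((d : A) : MulAut U).injective (h.trans (map_one _).symm))⟩ : {u : U // u ≠ 1})) := by
      rintro ⟨v, hv⟩
      obtain ⟨d, hd, hde⟩ := hDtrans u0 v hu0 hv
      exact ⟨⟨d, hd⟩, Subtype.ext hde⟩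
    refine le_trans ?_ (Nat.card_le_card_of_surjective _ hsur)
    rw [Nat.card_eq_fintype_card, Fintype.card_subtype_compl, Fintype.card_subtype_eq,
      ← Nat.card_eq_fintype_card, hU4]
  have hA : Nat.card A ≤ 6 := by
    let r : MulAut U → Equiv.Perm {u : U // u ≠ 1} := fun φ =>
      φ.toEquiv.subtypeEquiv (fun u => by simp)
    have hr : Function.Injective r := by
      intro φ ψ he
      refine MulEquiv.ext fun u => ?_
      rcases eq_or_ne u 1 with rfl | hu
      · rw [map_one, map_one]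
      · exact congrArg Subtype.val (Equiv.congr_fun he ⟨u, hu⟩)
    refine le_trans (Subgroup.card_le_card_group A) (le_trans (Nat.card_le_card_of_injective r hr) ?_)
    rw [Nat.card_perm, Nat.card_eq_fintype_card, Fintype.card_subtype_compl, Fintype.card_subtype_eq,
      ← Nat.card_eq_fintype_card, hU4]
    decide
  have := Nat.card_le_card_of_injective F hF
  rw [Nat.card_prod, hU4] at this
  omega

theorem no_exception [Finite G] [IsSimpleGroup G] (hG : ¬ IsMulCommutative G) {t : G}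
    {T U Dg R : Subgroup G} {j : ℕ} (h : ESetup t T U Dg) (g : Good t T U Dg R j)
    (hfix : ∀ x ∈ g.N h, (∀ u ∈ U, x * u * x⁻¹ = u) → Good.cc j t x = 1)
    (hsurj : ∀ u ∈ U, ∃ x ∈ g.N h, Good.cc j t x = u) : False := by
  classical
  have : Fact (Nat.Prime 2) := ⟨Nat.prime_two⟩
  have hB := h.base
  let _ : CommGroup U :=
    { (inferInstance : Group U) with
      mul_comm := fun a b => Subtype.ext (h.commT (h.hUT a.2) (h.hUT b.2)) }
  set N := g.N h with hNdef
  set P := g.P h with hPdef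
  have hNU : ∀ x ∈ N, ∀ u ∈ U, x * u * x⁻¹ ∈ U := fun x hx u hu => g.N_conjU h hx hu
  let ρ : N →* MulAut U := conjHom N U hNU
  let A : Subgroup (MulAut U) := ρ.range
  -- the class is a function of the action
  have hwell : ∀ x y : N, ρ x = ρ y → Good.cc j t (x : G) = Good.cc j t y := by
    intro x y he
    have h1 : ρ (x⁻¹ * y) = 1 := by rw [map_mul, map_inv, he, inv_mul_cancel]
    have h2 : Good.cc j t ((x⁻¹ * y : N) : G) = 1 := hfix _ (x⁻¹ * y).2 fun u hu =>
      congrArg Subtype.val (MulEquiv.congr_fun h1 ⟨u, hu⟩)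
    calc Good.cc j t (x : G) = Good.cc j t (x : G) * ((x : G) * 1 * (x : G)⁻¹) := by group
      _ = Good.cc j t ((x : G) * ((x⁻¹ * y : N) : G)) := by
          rw [g.cc_mul h x.2 (x⁻¹ * y).2, h2]
      _ = Good.cc j t (y : G) := by simp
  choose pre hpre using fun a : A => a.2
  let c : A → U := fun a => ⟨Good.cc j t (pre a : G), g.cc_mem h (pre a).2⟩
  have hc_eq : ∀ (a : A) (x : N), ρ x = a → c a = ⟨Good.cc j t (x : G), g.cc_mem h x.2⟩ :=
    fun a x hx => Subtype.ext (hwell _ _ ((hpre a).trans hx.symm))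
  have hc : ∀ a b, c (a * b) = c a * (a : MulAut U) (c b) := by
    intro a b
    rw [hc_eq (a * b) (pre a * pre b) (by rw [map_mul, hpre, hpre]; rfl), ← hpre a]
    exact Subtype.ext (g.cc_mul h (pre a).2 (pre b).2)
  have hcsurj : Function.Surjective c := by
    rintro ⟨u, hu⟩
    obtain ⟨x, hx, he⟩ := hsurj u hu
    exact ⟨⟨ρ ⟨x, hx⟩, ⟨x, hx⟩, rfl⟩, (hc_eq _ ⟨x, hx⟩ rfl).trans (Subtype.ext he)⟩
  have hDU : ∀ x ∈ Dg, ∀ u ∈ U, x * u * x⁻¹ ∈ U := fun x hx u hu =>
    h.hNU x (h.hDt x hx) (h.hDT x hx) u hu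
  let σ : Dg →* MulAut U := conjHom Dg U hDU
  let D : Subgroup A := σ.range.subgroupOf A
  have hσA : ∀ d : Dg, ∃ x : N, (x : G) * t = t * x ∧ ρ x = σ d := by
    intro d
    obtain ⟨d', h1, h2, h3⟩ := g.hD d d.2
    exact ⟨⟨d', g.comm_mem_N h h1 h2⟩, h1, MulEquiv.ext fun u => Subtype.ext (h3 u u.2)⟩
  have hD0 : ∀ d ∈ D, c d = 1 := by
    intro d hd
    obtain ⟨d₀, hd₀⟩ := hd
    obtain ⟨x, hxt, hxe⟩ := hσA d₀
    rw [hc_eq d x (hxe.trans hd₀)]
    exact Subtype.ext (Good.cc_of_comm h hxt)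
  have hlift : ∀ a : A, c a = 1 → ∃ x : N, (x : G) * t = t * x ∧ ρ x = a ∧
      ∀ y ∈ T, (x : G) * y * (x : G)⁻¹ ∈ T := by
    intro a ha
    obtain ⟨r, hr, hrt, hrN⟩ := g.cc_one h (pre a).2 (congrArg Subtype.val ha)
    refine ⟨⟨r⁻¹ * (pre a : G), hrN⟩, hrt, (MulEquiv.ext fun u => Subtype.ext ?_).trans (hpre a),
      g.comm_conjT h hrt hrN⟩
    have h1 := g.R_centU (R.inv_mem hr) (hNU _ (pre a).2 u u.2)
    rw [inv_inv] at h1
    show r⁻¹ * (pre a : G) * u * (r⁻¹ * (pre a : G))⁻¹ = (pre a : G) * u * (pre a : G)⁻¹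
    calc r⁻¹ * (pre a : G) * u * (r⁻¹ * (pre a : G))⁻¹
        = r⁻¹ * ((pre a : G) * u * (pre a : G)⁻¹) * r := by group
      _ = _ := h1
  have hodd : ∀ a : A, c a = 1 → Odd (orderOf a) := by
    intro a ha
    rw [← Nat.not_even_iff_odd]
    rintro ⟨m, hm⟩
    obtain ⟨x, hxt, hxe, hxT⟩ := hlift a ha
    have hm0 : m ≠ 0 := fun h0 => (orderOf_pos a).ne' (by omega)
    have hb : a ^ m ≠ 1 := fun h1 => by
      have := Nat.le_of_dvd (Nat.pos_of_ne_zero hm0) (orderOf_dvd_of_pow_eq_one h1)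
      omega
    refine hb (Subtype.ext ?_)
    have hρ : ρ (x ^ m) = ((a ^ m : A) : MulAut U) := by
      rw [map_pow, hxe]; rfl
    have hxm : ((x ^ m : N) : G) * t = t * ((x ^ m : N) : G) :=
      (Commute.pow_left (show Commute (x : G) t from hxt) m).eq
    have hxmT : ∀ y ∈ T, ((x ^ m : N) : G) * y * ((x ^ m : N) : G)⁻¹ ∈ T := fun y hy =>
      (mem_normalizer_iff.1 (pow_mem (mem_normalizer_of_conj hxT) m) y).1 hy
    have h2 : ρ ((x ^ m) ^ 2) = 1 := by
      rw [map_pow, hρ, ← SubmonoidClass.coe_pow, ← pow_mul, show m * 2 = orderOf a by omega,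
        pow_orderOf_eq_one]
      rfl
    have h3 := h.triv_of_pow hxm hxmT (k := 1) (fun u hu => by
      rw [pow_one]
      exact mul_inv_eq_iff_eq_mul.1 (congrArg Subtype.val (MulEquiv.congr_fun h2 ⟨u, hu⟩)))
    rw [← hρ]
    exact MulEquiv.ext fun u => Subtype.ext (mul_inv_eq_of_eq_mul (h3 u u.2))
  have hDcomm : ∀ a ∈ D, ∀ b ∈ D, a * b = b * a := by
    rintro a ⟨a₀, ha₀⟩ b ⟨b₀, hb₀⟩
    refine Subtype.ext ?_
    change ((A.subtype a) * (A.subtype b)) = (A.subtype b) * (A.subtype a)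
    rw [← ha₀, ← hb₀, ← map_mul, ← map_mul]
    exact (conjHom_eq_iff _ _ _ _ _).2 fun u hu => h.hDcomm a₀ a₀.2 b₀ b₀.2 u hu
  have hDnorm : ∀ a : A, c a = 1 → ∀ d ∈ D, a * d * a⁻¹ ∈ D := by
    rintro a ha d ⟨d₀, hd₀⟩
    obtain ⟨x, hxt, hxe, hxT⟩ := hlift a ha
    obtain ⟨d', hd', hd'e⟩ := h.hDnorm x hxt hxT d₀ d₀.2
    refine ⟨⟨d', hd'⟩, MulEquiv.ext fun u => Subtype.ext ?_⟩
    have e : (A.subtype (a * d * a⁻¹)) = ρ x * σ d₀ * (ρ x)⁻¹ := by
      rw [map_mul, map_mul, map_inv, hd₀, hxe]; rfl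
    rw [e]
    show d' * (u : G) * d'⁻¹ = _
    rw [← hd'e u u.2]
    simp [ρ, σ, conjHom, MulAut.mul_apply, MulAut.inv_def, mul_assoc]
  have hDtrans : ∀ u v : U, u ≠ 1 → v ≠ 1 → ∃ d ∈ D, ((d : A) : MulAut U) u = v := by
    intro u v hu hv
    obtain ⟨d, hd, hde⟩ := h.hDtrans u u.2 (fun h1 => hu (Subtype.ext h1)) v v.2
      (fun h1 => hv (Subtype.ext h1))
    obtain ⟨x, -, hxe⟩ := hσA ⟨d, hd⟩
    exact ⟨⟨σ ⟨d, hd⟩, x, hxe⟩, ⟨⟨d, hd⟩, rfl⟩, Subtype.ext hde⟩
  obtain ⟨n, hn⟩ := (hB.hT.to_le h.hUT).exists_card_eq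
  have hU2 : ∀ u : U, u * u = 1 := fun u => Subtype.ext (h.hexp _ (h.hUT u.2))
  rcases lt_or_ge n 4 with hn4 | hn4
  swap
  · let act : MulDistribMulAction A U :=
      { smul := fun a u => (a : MulAut U) u
        one_smul := fun _ => rfl
        mul_smul := fun _ _ _ => rfl
        smul_mul := fun a => map_mul (a : MulAut U)
        smul_one := fun a => map_one (a : MulAut U) }
    exact no_affine_singer (fun u => by rw [pow_two]; exact hU2 u) hn4 hn
      (fun a ha => Subtype.ext (MulEquiv.ext ha)) c hc hcsurj hodd D hD0 hDcomm hDnorm hDtrans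
  have hn23 : n = 2 ∨ n = 3 := by
    have h4 := h.hU4
    rw [hn] at h4
    interval_cases n <;> simp_all
  rcases hn23 with rfl | rfl
  · exact affine_degree_four hn A c hc hcsurj D hD0 hDtrans
  -- degree eight
  have hU8 : Nat.card U = 8 := hn
  have hA8 : 8 ∣ Nat.card A := by
    let St : Subgroup A :=
      { carrier := {a | c a = 1}
        one_mem' := by
          have := hc 1 1
          rw [mul_one] at this
          exact mul_eq_left.1 (this.symm : c 1 * c 1 = c 1)
        mul_mem' := fun {a b} ha hb => by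
          show c (a * b) = 1
          rw [hc, show c a = 1 from ha, show c b = 1 from hb, map_one, mul_one]
        inv_mem' := fun {a} ha => by
          have h1 := hc a⁻¹ a
          rw [inv_mul_cancel, show c a = 1 from ha, map_one, mul_one] at h1
          show c a⁻¹ = 1
          rw [← h1]
          have := hc 1 1
          rw [mul_one] at this
          exact mul_eq_left.1 (this.symm : c 1 * c 1 = c 1) }
    refine ⟨Nat.card St, ?_⟩
    choose s hs using hcsurj
    rw [← hU8, ← Nat.card_prod]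
    refine (Nat.card_congr (Equiv.ofBijective (fun p : U × St => s p.1 * p.2) ⟨?_, ?_⟩)).symm
    · rintro ⟨u, a⟩ ⟨v, b⟩ he
      have h1 := congrArg c he
      simp only [hc, show c (a : A) = 1 from a.2, show c (b : A) = 1 from b.2, map_one, mul_one,
        hs] at h1
      subst h1
      exact Prod.ext rfl (Subtype.ext (mul_left_cancel he))
    · intro a
      refine ⟨(c a, ⟨(s (c a))⁻¹ * a, ?_⟩), by simp⟩
      have h1 := hc (s (c a)) ((s (c a))⁻¹ * a)
      rw [mul_inv_cancel_left, hs] at h1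
      have h2 := mul_eq_left.1 h1.symm
      exact ((s (c a) : MulAut U)).injective (h2.trans (map_one _).symm)
  obtain ⟨S0⟩ : Nonempty (Sylow 2 A) := inferInstance
  have hS0 : 8 ≤ Nat.card (S0 : Subgroup A) := by
    obtain ⟨Q, hQ⟩ := Sylow.exists_subgroup_card_pow_prime 2 (G := A) (n := 3) hA8
    obtain ⟨Q', hQ'⟩ := (IsPGroup.of_card hQ).exists_le_sylow
    have h1 := Subgroup.card_le_of_le hQ'
    rw [hQ, Q'.card_eq_multiplicity, ← S0.card_eq_multiplicity] at h1
    exact h1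
  set B : Subgroup (MulAut U) := (S0 : Subgroup A).map A.subtype
  have hB2 : IsPGroup 2 B := S0.2.map _
  obtain ⟨hBcard, χa, χb, c0, v, hc01, hc0a, hc0b, hker, hall, hcen, hsq0, hsq1, hW⟩ :=
    flag_eight hU2 hU8 B hB2 (by
      rw [Subgroup.card_map_of_injective A.subtype_injective]; exact hS0)
  -- only the identity of `B` fixes a class
  have hfree : ∀ a : A, (a : MulAut U) ∈ B → ∀ w : U, c a * (a : MulAut U) w = w → a = 1 := by
    intro a haB w hw
    obtain ⟨b, hb⟩ := hcsurj w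
    have hone : c 1 = 1 := by
      have := hc 1 1
      rw [mul_one] at this
      exact mul_eq_left.1 (this.symm : c 1 * c 1 = c 1)
    have h1 : c (a * b) = c b := by rw [hc, hb, hw]
    have h2 : c (b⁻¹ * a * b) = 1 := by
      rw [mul_assoc, hc, h1, ← hc, inv_mul_cancel, hone]
    have hodd' := hodd _ h2
    obtain ⟨k, hk⟩ := hB2 ⟨_, haB⟩
    have hk' : a ^ 2 ^ k = 1 := Subtype.ext (by simpa using congrArg Subtype.val hk)
    have hord : orderOf (b⁻¹ * a * b) ∣ 2 ^ k := by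
      refine orderOf_dvd_of_pow_eq_one ?_
      have := conj_pow (a := b⁻¹) (b := a) (i := 2 ^ k)
      rw [inv_inv] at this
      rw [this, hk']; group
    obtain ⟨i, -, hi⟩ := (Nat.dvd_prime_pow Nat.prime_two).1 hord
    rcases i with _ | i
    · rw [pow_zero, orderOf_eq_one_iff] at hi
      calc a = b * (b⁻¹ * a * b) * b⁻¹ := by group
        _ = 1 := by rw [hi]; group
    · rw [hi, Nat.odd_pow_iff (by omega)] at hodd'
      exact absurd hodd' (by decide)
  -- the Sylow subgroup `Y`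
  let NB : Subgroup G := (B.comap ρ).map N.subtype
  have hNBN : NB ≤ N := Subgroup.map_subtype_le _
  have hmemNB : ∀ {x : G} (hx : x ∈ N), x ∈ NB ↔ ρ ⟨x, hx⟩ ∈ B := by
    intro x hx
    constructor
    · rintro ⟨y, hy, rfl⟩
      exact hy
    · intro hy
      exact ⟨⟨x, hx⟩, hy, rfl⟩
  have hPN : P ≤ N := fun p hp => g.mem_N h fun q hq => P.mul_mem (P.mul_mem hp hq) (P.inv_mem hp)
  have hPfix : ∀ (p : G) (hp : p ∈ P), ρ ⟨p, hPN hp⟩ = 1 := by
    intro p hp
    refine MulEquiv.ext fun u => Subtype.ext ?_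
    show p * u * p⁻¹ = u
    rcases hp with hp | hp
    · exact g.R_centU hp u.2
    · have h1 : Commute (t * p) u := g.hcomm _ hp u (g.hUR u.2)
      have h2 : Commute t (u : G) := h.tU u.2
      have h3 := h2.mul_left h1
      rw [← mul_assoc, hB.tt, one_mul] at h3
      exact mul_inv_eq_of_eq_mul h3.eq
  have hPNB : P ≤ NB := fun p hp => (hmemNB (hPN hp)).2 (by rw [hPfix p hp]; exact one_mem _)
  obtain ⟨Q, hQ⟩ := ((g.P_two h).comap_subtype (K := NB) :
    IsPGroup 2 (P.subgroupOf NB)).exists_le_sylow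
  set Y : Subgroup G := (Q : Subgroup NB).map NB.subtype
  have hPY : P ≤ Y := fun p hp => ⟨⟨p, hPNB hp⟩, hQ hp, rfl⟩
  have hY2 : IsPGroup 2 Y := Q.2.map _
  have hYN : Y ≤ N := (Subgroup.map_subtype_le _).trans hNBN
  have hTY : T ≤ Y := (g.T_le_P h).trans hPY
  have hRY : R ≤ Y := (g.R_le_P h).trans hPY
  have hYB : ∀ {x : G} (hx : x ∈ Y), ρ ⟨x, hYN hx⟩ ∈ B := fun hx =>
    (hmemNB (hYN hx)).1 ((Subgroup.map_subtype_le _) hx)
  let π : Y →* B :=
    { toFun := fun y => ⟨ρ ⟨y, hYN y.2⟩, hYB y.2⟩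
      map_one' := Subtype.ext (map_one ρ)
      map_mul' := fun a b => Subtype.ext (map_mul ρ ⟨a, hYN a.2⟩ ⟨b, hYN b.2⟩) }
  have hπact : ∀ (y : Y) (u : U), (((π y : B) : MulAut U) u : G) = (y : G) * u * (y : G)⁻¹ :=
    fun _ _ => rfl
  have hπ : Function.Surjective π := by
    let φ : NB →* B :=
      { toFun := fun y => ⟨ρ ⟨y, hNBN y.2⟩, (hmemNB (hNBN y.2)).1 y.2⟩
        map_one' := Subtype.ext (map_one ρ)
        map_mul' := fun a b => Subtype.ext (map_mul ρ ⟨a, hNBN a.2⟩ ⟨b, hNBN b.2⟩) }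
    have hφ : Function.Surjective φ := by
      rintro ⟨b, hb⟩
      obtain ⟨a, ha, rfl⟩ := hb
      obtain ⟨x, hx⟩ := a.2
      refine ⟨⟨(x : G), (hmemNB x.2).2 ⟨a, ha, hx.symm⟩⟩, Subtype.ext ?_⟩
      exact hx
    have htop : (Q : Subgroup NB).map φ = ⊤ := by
      rw [← Subgroup.index_eq_one]
      have h1 : ((Q : Subgroup NB).map φ).index ∣ 2 ^ 3 := by
        have : (2 : ℕ) ^ 3 = Nat.card B := by rw [hBcard]; rfl
        rw [this]; exact Subgroup.index_dvd_card _
      have h2 : ((Q : Subgroup NB).map φ).index ∣ (Q : Subgroup NB).index :=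
        Subgroup.index_map_dvd _ hφ
      obtain ⟨m, -, hm⟩ := (Nat.dvd_prime_pow Nat.prime_two).1 h1
      rcases m with _ | m
      · rw [hm, pow_zero]
      · exact absurd ((Dvd.intro _ (pow_succ' 2 m).symm).trans (hm ▸ h2)) Q.not_dvd_index
    intro b
    obtain ⟨q, hq, rfl⟩ : b ∈ (Q : Subgroup NB).map φ := htop ▸ mem_top _
    exact ⟨⟨q, q, hq, rfl⟩, Subtype.ext rfl⟩
  -- kernel
  have hπker : ∀ y : Y, π y = 1 ↔ (y : G) ∈ P := by
    intro y
    constructor
    · intro h1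
      have h1' : ρ ⟨y, hYN y.2⟩ = 1 := congrArg Subtype.val h1
      obtain ⟨a, ha, hay, -⟩ := g.cc_one h (hYN y.2) (hfix _ (hYN y.2) fun u hu =>
        congrArg Subtype.val (MulEquiv.congr_fun h1' ⟨u, hu⟩))
      have h2 := hB.sylow_eq hY2 hTY (mul_mem (inv_mem (hRY ha)) y.2) hay
      rw [show (y : G) = a * (a⁻¹ * y) by group]
      exact P.mul_mem (Or.inl ha) (g.T_le_P h h2)
    · intro hp
      exact Subtype.ext (hPfix _ hp)
  -- no element outside `P` commutes with an element of `t R`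
  have hnocomm : ∀ (y : Y) (r : G), r ∈ R → (y : G) * (t * r) = t * r * y → (y : G) ∈ P := by
    intro y r hr he
    refine (hπker y).1 ?_
    let a : A := ⟨ρ ⟨y, hYN y.2⟩, ⟨y, hYN y.2⟩, rfl⟩
    have h1 := hfree a (hYB y.2) ⟨r ^ 2 ^ j, g.hpow r hr⟩ (by
      rw [hc_eq a ⟨y, hYN y.2⟩ rfl]
      refine Subtype.ext ?_
      show Good.cc j t (y : G) * ((y : G) * r ^ 2 ^ j * (y : G)⁻¹) = r ^ 2 ^ j
      have hcm : Commute (t * ((y : G) * t * (y : G)⁻¹)) ((y : G) * r * (y : G)⁻¹) :=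
        g.hcomm _ (g.N_t h (hYN y.2)) _ (g.N_conjR h (hYN y.2) hr)
      rw [← conj_pow, Good.cc, ← hcm.mul_pow]
      congr 1
      calc t * ((y : G) * t * (y : G)⁻¹) * ((y : G) * r * (y : G)⁻¹)
          = t * ((y : G) * (t * r)) * (y : G)⁻¹ := by group
        _ = t * t * r := by rw [he]; group
        _ = r := by rw [hB.tt, one_mul])
    have h1' : ρ ⟨y, hYN y.2⟩ = 1 := (congrArg Subtype.val h1 :)
    exact Subtype.ext h1'
  have hcardP : Nat.card P = 2 * Nat.card R := by
    have hi : (R.subgroupOf P).index = 2 := by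
      rw [Subgroup.index_eq_two_iff]
      refine ⟨⟨t, g.t_mem_P h⟩, fun x => ?_⟩
      simp only [mem_subgroupOf, Subgroup.coe_mul]
      by_cases hxR : (x : G) ∈ R
      · exact Or.inr ⟨hxR, fun h' => g.htR ((mul_mem_cancel_left hxR).1 h')⟩
      · obtain ⟨r, hr, he⟩ := g.out_P h x.2 hxR
        refine Or.inl ⟨?_, hxR⟩
        rw [he, g.hinv r hr]; exact R.inv_mem hr
    have := Subgroup.index_mul_card (R.subgroupOf P)
    rw [hi, Nat.card_congr (Subgroup.subgroupOfEquivOfLe (g.R_le_P h)).toEquiv] at this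
    exact this.symm
  have hkerP : π.ker = P.subgroupOf Y := by
    ext y; rw [MonoidHom.mem_ker, hπker, mem_subgroupOf]
  have hcardY : Nat.card Y = 16 * Nat.card R := by
    have h1 := Subgroup.index_mul_card π.ker
    rw [Subgroup.index_ker, MonoidHom.range_eq_top.2 hπ, Subgroup.card_top, hBcard, hkerP,
      Nat.card_congr (Subgroup.subgroupOfEquivOfLe hPY).toEquiv, hcardP] at h1
    omega
  have hcardT : Nat.card T = 16 := by rw [h.cardT, hU8]
  have hconjsq : ∀ {x : G}, IsConj t x → x * x = 1 := by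
    intro x hx
    obtain ⟨a, rfl⟩ := isConj_iff.1 hx
    rw [show a * t * a⁻¹ * (a * t * a⁻¹) = a * (t * t) * a⁻¹ by group, hB.tt]; group
  have hYR : ∀ (y : Y) {r : G}, r ∈ R → (y : G) * r * (y : G)⁻¹ ∈ R := fun y _ hr =>
    g.N_conjR h (hYN y.2) hr
  -- two involutions in one coset of `P` lie in one coset of `R`
  have hsingle : ∀ (x : Y) (p : G), p ∈ P → (x : G) ∉ P → (x : G) * x = 1 →
      (x : G) * p * ((x : G) * p) = 1 → p ∈ R := by
    intro x p hp hxP hx2 hxp
    by_contra hne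
    obtain ⟨r, hr, rfl⟩ := g.out_P h hp hne
    have htr : t * r * (t * r) = 1 := hconjsq (g.hX r hr)
    refine hxP (hnocomm x r hr ?_)
    calc (x : G) * (t * r) = (x : G) * (t * r) * ((x : G) * (t * r) * ((x : G) * (t * r)))⁻¹ := by
          rw [hxp]; group
      _ = (t * r)⁻¹ * (x : G)⁻¹ := by group
      _ = t * r * x := by rw [inv_of_sq htr, inv_of_sq hx2]
  -- classes in a subgroup
  have hclass : ∀ (Z : Subgroup G), Z ≤ Y → ∀ (x : G), x ∈ Z → IsConj t x →
      Nat.card Z ≤ 16 * Nat.card {z : G // ∃ y ∈ Z, y * x * y⁻¹ = z} := by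
    intro Z hZ x hx hX
    let C : Subgroup G := Z ⊓ centralizer ({x} : Set G)
    have hC := hB.card_le hX (hY2.to_le (inf_le_left.trans hZ) : IsPGroup 2 C) inf_le_right
    rw [hcardT] at hC
    let q : Z → {z : G // ∃ y ∈ Z, y * x * y⁻¹ = z} := fun y => ⟨_, y, y.2, rfl⟩
    have hq : ∀ z, Nat.card {y // q y = z} ≤ Nat.card C := by
      rintro ⟨z, y₀, hy₀, rfl⟩
      refine Nat.card_le_card_of_injective (fun y => (⟨y₀⁻¹ * (y.1 : G),
        Z.mul_mem (Z.inv_mem hy₀) y.1.2, mem_centralizer_singleton_iff.2 ?_⟩ : C)) ?_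
      · have h1 : (y.1 : G) * x * (y.1 : G)⁻¹ = y₀ * x * y₀⁻¹ := congrArg Subtype.val y.2
        calc y₀⁻¹ * (y.1 : G) * x = y₀⁻¹ * ((y.1 : G) * x * (y.1 : G)⁻¹) * (y.1 : G) := by group
          _ = x * (y₀⁻¹ * (y.1 : G)) := by rw [h1]; group
      · intro a b hab
        exact Subtype.ext (Subtype.ext (mul_left_cancel (congrArg Subtype.val hab)))
    have := Fintype.ofFinite {z : G // ∃ y ∈ Z, y * x * y⁻¹ = z}
    rw [← Nat.card_congr (Equiv.sigmaFiberEquiv q), Nat.card_sigma,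
      Nat.card_eq_fintype_card (α := {z : G // ∃ y ∈ Z, y * x * y⁻¹ = z}), mul_comm,
      ← Finset.card_univ, ← smul_eq_mul, ← Finset.sum_const]
    exact Finset.sum_le_sum fun z _ => (hq z).trans hC
  -- the elements of `R` inverted by an involution
  let Iv : G → Set G := fun x => {a | a ∈ R ∧ x * a * (x * a) = 1}
  have hsmallI : ∀ (x : Y), (x : G) ∉ P → (x : G) * x = 1 →
      2 * Nat.card (Iv x) ≤ Nat.card R ∧ (1 ≤ j → 4 * Nat.card (Iv x) ≤ Nat.card R) ∧
      (j = 0 → Iv x ⊆ {u | u ∈ U ∧ (x : G) * u * (x : G)⁻¹ = u}) := by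
    intro x hxP hx2
    let I : Subgroup G :=
      { carrier := {a | a ∈ R ∧ (x : G) * a * x = a⁻¹}
        one_mem' := ⟨R.one_mem, by rw [mul_one, hx2, inv_one]⟩
        mul_mem' := fun {a b} ha hb => ⟨R.mul_mem ha.1 hb.1, by
          rw [g.hcomm a ha.1 b hb.1]
          calc (x : G) * (b * a) * x = (x : G) * b * (1 * a * x) := by group
            _ = ((x : G) * b * x) * ((x : G) * a * x) := by rw [← hx2]; group
            _ = b⁻¹ * a⁻¹ := by rw [ha.2, hb.2]
            _ = (b * a)⁻¹ := by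
              rw [mul_inv_rev, g.hcomm _ (R.inv_mem ha.1) _ (R.inv_mem hb.1)]⟩
        inv_mem' := fun {a} ha => ⟨R.inv_mem ha.1, by
          have h1 := congrArg (·⁻¹) ha.2
          simp only [mul_inv_rev, inv_of_sq hx2, inv_inv] at h1
          rw [inv_inv, mul_assoc]; exact h1⟩ }
    have hIv : Iv x = (I : Set G) := by
      ext a
      refine and_congr_right fun _ => ⟨fun h1 => ?_, fun h1 => ?_⟩
      · exact eq_inv_of_mul_eq_one_left (by rw [← h1]; group)
      · calc (x : G) * a * ((x : G) * a) = (x : G) * a * x * a := by group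
          _ = 1 := by rw [h1, inv_mul_cancel]
    have hIR : I ≤ R := fun a ha => ha.1
    have hπne : π x ≠ 1 := fun h1 => hxP ((hπker x).1 h1)
    have hidx : (I.subgroupOf R).index * Nat.card I = Nat.card R := by
      have := Subgroup.index_mul_card (I.subgroupOf R)
      rwa [Nat.card_congr (Subgroup.subgroupOfEquivOfLe hIR).toEquiv] at this
    have hxU : ∀ {u}, u ∈ U → (u : G) ∈ I → (x : G) * u * (x : G)⁻¹ = u := fun hu hu' => by
      rw [inv_of_sq hx2, hu'.2, inv_of_sq (h.hexp _ (h.hUT hu))]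
    have hne1 : (I.subgroupOf R).index ≠ 1 := fun h1 => hπne (by
      refine Subtype.ext (MulEquiv.ext fun u => Subtype.ext ?_)
      exact hxU u.2 (Subgroup.relIndex_eq_one.1 h1 (g.hUR u.2)))
    have hne0 : (I.subgroupOf R).index ≠ 0 := Subgroup.index_ne_zero_of_finite
    have hIc : Nat.card (Iv x) = Nat.card I := by rw [hIv]; rfl
    rw [hIc]
    refine ⟨?_, fun hj => ?_, fun hj a ha => ?_⟩
    · rw [← hidx]; exact Nat.mul_le_mul_right _ (by omega)
    · -- `R²` is not inverted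
      obtain ⟨m, hm⟩ : ∃ m, (I.subgroupOf R).index = 2 ^ m := by
        have hR2 : IsPGroup 2 R := (g.P_two h).to_le (g.R_le_P h)
        obtain ⟨k, hk⟩ := hR2.exists_card_eq
        obtain ⟨m, -, hm⟩ := (Nat.dvd_prime_pow Nat.prime_two).1
          (hk ▸ Subgroup.index_dvd_card (I.subgroupOf R))
        exact ⟨m, hm⟩
      rw [← hidx]
      refine Nat.mul_le_mul_right _ ?_
      rcases m with _ | _ | m
      · omega
      · exfalso
        refine hπne (Subtype.ext (MulEquiv.ext fun u => Subtype.ext ?_))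
        obtain ⟨r, hr, hru⟩ := g.hsurj u u.2
        obtain ⟨j', rfl⟩ := Nat.exists_eq_succ_of_ne_zero (Nat.one_le_iff_ne_zero.1 hj)
        refine hxU u.2 ?_
        have := Subgroup.mul_self_mem_of_index_two (H := I.subgroupOf R) (by rw [hm]; rfl)
          (⟨r ^ 2 ^ j', R.pow_mem hr _⟩ : R)
        rw [mem_subgroupOf, Subgroup.coe_mul] at this
        rw [← hru, pow_succ, pow_mul, pow_two]
        exact this
      · rw [hm, pow_succ, pow_succ]
        have : 0 < 2 ^ m := by positivity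
        omega
    · obtain ⟨ha1, ha2⟩ := ha
      have haU : a ∈ U := by
        have := g.hpow a ha1
        rwa [hj, pow_zero, pow_one] at this
      exact ⟨haU, hxU haU (hIv ▸ (⟨ha1, ha2⟩ : a ∈ Iv x) : a ∈ (I : Set G))⟩
  have hRcard : Nat.card U ≤ Nat.card R := Subgroup.card_le_of_le g.hUR
  have hR0 : j = 0 → Nat.card R = 8 := by
    intro hj
    have : R ≤ U := fun r hr => by
      have := g.hpow r hr
      rwa [hj, pow_zero, pow_one] at this
    rw [le_antisymm this g.hUR, hU8]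
  have hfixle : ∀ (b : B), χa b = -1 → ∀ (W : Subgroup G), W ≤ U →
      (∀ u : U, (u : G) ∈ W → (b : MulAut U) u = u ∧ (c0 : MulAut U) u = u) →
      Nat.card W ≤ 2 := by
    intro b hb W hWU hW'
    refine le_trans (Nat.card_le_card_of_injective (fun w : W => decide ((w : G) = 1)) ?_)
      (by simp)
    intro w w' he
    have hval : ∀ w : W, (w : G) = 1 ∨ (w : G) = v := fun w => by
      rcases hW b hb ⟨w, hWU w.2⟩ (hW' ⟨w, hWU w.2⟩ w.2).2 (hW' ⟨w, hWU w.2⟩ w.2).1 with h1 | h1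
      · exact Or.inl (congrArg Subtype.val h1)
      · exact Or.inr (congrArg Subtype.val h1)
    refine Subtype.ext ?_
    simp only [decide_eq_decide] at he
    rcases hval w with h1 | h1 <;> rcases hval w' with h2 | h2
    · rw [h1, h2]
    · rw [h1, he.1 h1]
    · rw [he.2 h2, h2]
    · rw [h1, h2]
  -- the subgroup `Y1`
  let B1 : Subgroup B := χb.ker
  let Y1 : Subgroup G := (B1.comap π).map Y.subtype
  have hY1Y : Y1 ≤ Y := Subgroup.map_subtype_le _
  have hY1mem : ∀ (y : Y), (y : G) ∈ Y1 ↔ χb (π y) = 1 := by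
    intro y
    constructor
    · rintro ⟨y', hy', he⟩
      rw [← show y' = y from Subtype.ext he]; exact hy'
    · exact fun hy => ⟨y, hy, rfl⟩
  have hY1card : Nat.card Y1 = 8 * Nat.card R := by
    have hi : (B1.comap π).index = 2 := by
      rw [Subgroup.index_comap_of_surjective _ hπ, Subgroup.index_ker,
        show χb.range = ⊤ from MonoidHom.range_eq_top.2 (fun i => by
          obtain ⟨b, -, hb⟩ := hall 1 i; exact ⟨b, hb⟩), Subgroup.card_top]
      rw [Nat.card_eq_fintype_card]; rfl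
    have h1 := Subgroup.index_mul_card (B1.comap π)
    rw [hi, hcardY] at h1
    rw [Subgroup.card_map_of_injective Y.subtype_injective]
    omega
  have hB1comm : ∀ a b : B, χb a = 1 → χb b = 1 → a * b = b * a := by
    intro a b ha hb
    have h1 : ∀ x : B, χb x = 1 → x⁻¹ = x := fun x hx => inv_eq_of_mul_eq_one_right
      (hsq1 x (fun h' => absurd (h'.2.symm.trans hx) (by decide)))
    have h2 := h1 _ (show χb (a * b) = 1 by rw [map_mul, ha, hb, one_mul])
    rw [mul_inv_rev, h1 a ha, h1 b hb] at h2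
    exact h2.symm
  -- conjugates in the same coset
  have hclassI : ∀ (Z : Subgroup G) (hZY : Z ≤ Y) (x : Y) (B' : Finset B), (x : G) ∉ P →
      IsConj t (x : G) → (∀ y : Y, (y : G) ∈ Z → π (y * x * y⁻¹) ∈ B') →
      ∃ xs : B → Y, (∀ b ∈ B', ∀ z : G, (∃ y ∈ Z, y * (x : G) * y⁻¹ = z) →
        (∀ hz : z ∈ Y, π ⟨z, hz⟩ = b → ∃ a ∈ Iv (xs b), z = (xs b : G) * a)) ∧
        (∀ b ∈ B', (xs b : G) ∉ P ∧ (xs b : G) * xs b = 1) := by
    intro Z hZY x B' hxP hX hB'
    have hkey : ∀ b : B, ∃ xb : Y, (∀ z : G, (∃ y ∈ Z, y * (x : G) * y⁻¹ = z) →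
        (∀ hz : z ∈ Y, π ⟨z, hz⟩ = b → ∃ a ∈ Iv xb, z = (xb : G) * a)) ∧
        ((xb : G) ∉ P ∧ (xb : G) * xb = 1) := by
      intro b
      by_cases hex : ∃ z : G, (∃ y ∈ Z, y * (x : G) * y⁻¹ = z) ∧ ∃ hz : z ∈ Y, π ⟨z, hz⟩ = b
      · obtain ⟨z, ⟨y, hy, hye⟩, hz, hzb⟩ := hex
        have hz2 : z * z = 1 := hconjsq (hye ▸ (isConj_conj_iff y).2 hX)
        have hzP : z ∉ P := by
          intro h'
          refine hxP ((hπker x).1 ?_)
          have h1 : π (⟨y, hZY hy⟩ * x * ⟨y, hZY hy⟩⁻¹) = 1 :=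
            (hπker _).2 (show y * (x : G) * y⁻¹ ∈ P by rw [hye]; exact h')
          rw [map_mul, map_mul, map_inv, mul_inv_eq_one, mul_eq_left] at h1
          exact h1
        refine ⟨⟨z, hz⟩, ?_, hzP, hz2⟩
        rintro z' ⟨y', hy', hy'e⟩ hz' hz'b
        have hz'2 : z' * z' = 1 := hconjsq (hy'e ▸ (isConj_conj_iff y').2 hX)
        have hp : z⁻¹ * z' ∈ P := by
          have h1 : π (⟨z, hz⟩⁻¹ * ⟨z', hz'⟩) = 1 := by
            rw [map_mul, map_inv, hzb, hz'b, inv_mul_cancel]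
          exact (hπker _).1 h1
        have hR := hsingle ⟨z, hz⟩ _ hp hzP hz2 (by simpa using hz'2)
        exact ⟨z⁻¹ * z', ⟨hR, by simpa using hz'2⟩, by simp⟩
      · exact ⟨x, fun z hz hzY hzb => absurd ⟨z, hz, hzY, hzb⟩ hex, hxP, hconjsq hX⟩
    choose xs h1 h2 using hkey
    exact ⟨xs, fun b _ => h1 b, fun b _ => h2 b⟩
  have hbound : ∀ (Z : Subgroup G) (_ : Z ≤ Y) (x : Y) (B' : Finset B), (x : G) ∉ P →
      IsConj t (x : G) → (x : G) ∈ Z → (∀ y : Y, (y : G) ∈ Z → π (y * x * y⁻¹) ∈ B') →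
      ∀ M : ℕ, (∀ y : Y, (y : G) ∉ P → (y : G) * y = 1 → Nat.card (Iv y) ≤ M) →
      Nat.card Z ≤ 16 * (B'.card * M) := by
    intro Z hZY x B' hxP hX hxZ hB' M hM
    obtain ⟨xs, h1, h2⟩ := hclassI Z hZY x B' hxP hX hB'
    refine (hclass Z hZY x hxZ hX).trans (Nat.mul_le_mul_left 16 ?_)
    have hz : ∀ z : {z : G // ∃ y ∈ Z, y * (x : G) * y⁻¹ = z}, ∃ b : B', ∃ a : Iv (xs b.1),
        z.1 = (xs b.1 : G) * a := by
      rintro ⟨z, y, hy, rfl⟩
      have hzY : y * (x : G) * y⁻¹ ∈ Y := mul_mem (mul_mem (hZY hy) x.2) (inv_mem (hZY hy))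
      obtain ⟨a, ha, hae⟩ := h1 _ (hB' ⟨y, hZY hy⟩ hy) _ ⟨y, hy, rfl⟩ hzY rfl
      exact ⟨⟨_, hB' ⟨y, hZY hy⟩ hy⟩, ⟨a, ha⟩, hae⟩
    choose bz az hbz using hz
    refine (Nat.card_le_card_of_injective (fun z => (⟨bz z, az z⟩ : Σ b : B', Iv (xs b.1)))
      ?_).trans ?_
    · intro z z' he
      refine Subtype.ext ?_
      rw [hbz z, hbz z']
      exact congrArg (fun p : Σ b : B', Iv (xs b.1) => (xs p.1.1 : G) * (p.2 : G)) he
    · rw [Nat.card_sigma]
      refine (Finset.sum_le_sum fun b _ => hM _ (h2 b.1 b.2).1 (h2 b.1 b.2).2).trans ?_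
      rw [Finset.sum_const, Finset.card_univ, Fintype.card_coe, smul_eq_mul]
  -- centralizers of order sixteen
  have hcentI : ∀ (Z : Subgroup G), Z ≤ Y → ∀ (x : Y), (x : G) ∉ P → IsConj t (x : G) → j = 0 →
      ∀ b : B, χa b = -1 → (∀ y : Y, (y : G) ∈ Z → (y : G) * x = x * y →
        (π y = 1 ∨ π y = c0 ∨ π y = b ∨ π y = c0 * b)) →
      16 ≤ Nat.card (Z ⊓ centralizer ({(x : G)} : Set G) : Subgroup G) →
      ∀ (_ : ∃ y : Y, (y : G) ∈ Z ∧ (y : G) * x = x * y ∧ π y = b)
        (_ : ∃ y : Y, (y : G) ∈ Z ∧ (y : G) * x = x * y ∧ π y = c0), False := by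
    intro Z hZY x hxP hX hj b hb himg hC16 hyb hyc
    let C : Subgroup G := Z ⊓ centralizer ({(x : G)} : Set G)
    have hCcomm : ∀ a ∈ C, ∀ a' ∈ C, a * a' = a' * a := by
      obtain ⟨k, hk⟩ := isConj_iff.1 hX
      have hQt : C.map (MulAut.conj k⁻¹).toMonoidHom ≤ centralizer ({t} : Set G) := by
        rintro _ ⟨y, hy, rfl⟩
        simp only [MulEquiv.toMonoidHom_eq_coe, MonoidHom.coe_coe, MulAut.conj_apply, inv_inv]
        have := mem_centralizer_singleton_iff.1 hy.2
        rw [mem_centralizer_singleton_iff]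
        calc k⁻¹ * y * k * t = k⁻¹ * (y * (k * t * k⁻¹)) * k := by group
          _ = k⁻¹ * (k * t * k⁻¹ * y) * k := by rw [hk, this]
          _ = t * (k⁻¹ * y * k) := by group
      obtain ⟨e, -, he⟩ := hB.conj_into ((hY2.to_le (inf_le_left.trans hZY)).map _) hQt
      intro a ha a' ha'
      have h1 := he _ ⟨a, ha, rfl⟩
      have h2 := he _ ⟨a', ha', rfl⟩
      simp only [MulEquiv.toMonoidHom_eq_coe, MonoidHom.coe_coe, MulAut.conj_apply, inv_inv] at h1 h2
      have h3 := h.commT h1 h2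
      have e3 : ∀ a a' : G, e * (k⁻¹ * a * k) * e⁻¹ * (e * (k⁻¹ * a' * k) * e⁻¹) =
          e * k⁻¹ * (a * a') * (k * e⁻¹) := fun a a' => by group
      rw [e3, e3] at h3
      exact mul_left_cancel (mul_right_cancel h3)
    obtain ⟨yb, hybZ, hybc, hybπ⟩ := hyb
    obtain ⟨yc, hycZ, hycc, hycπ⟩ := hyc
    have hybC : (yb : G) ∈ C := ⟨hybZ, mem_centralizer_singleton_iff.2 hybc⟩
    have hycC : (yc : G) ∈ C := ⟨hycZ, mem_centralizer_singleton_iff.2 hycc⟩
    have hCP : C ⊓ P ≤ U := by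
      intro p hp
      have hpR : p ∈ R := by
        by_contra hne
        obtain ⟨r, hr, rfl⟩ := g.out_P h hp.2 hne
        exact hxP (hnocomm x r hr (mem_centralizer_singleton_iff.1 hp.1.2).symm)
      have := g.hpow p hpR
      rwa [hj, pow_zero, pow_one] at this
    have hW2 : Nat.card (C ⊓ P : Subgroup G) ≤ 2 := hfixle b hb _ hCP fun u hu => by
      rw [← hybπ, ← hycπ]
      exact ⟨Subtype.ext ((hπact yb u).trans (mul_inv_eq_of_eq_mul (hCcomm _ hybC _ hu.1))),
        Subtype.ext ((hπact yc u).trans (mul_inv_eq_of_eq_mul (hCcomm _ hycC _ hu.1)))⟩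
    -- the image has at most four elements
    let ψ : C →* B := π.comp (Subgroup.inclusion (inf_le_left.trans hZY))
    have hr : Nat.card ψ.range ≤ 4 := by
      let F : Finset B := {1, c0, b, c0 * b}
      have hF : F.card ≤ 4 :=
        (Finset.card_insert_le _ _).trans (Nat.succ_le_succ ((Finset.card_insert_le _ _).trans
          (Nat.succ_le_succ (Finset.card_le_two))))
      refine le_trans ?_ hF
      rw [← Fintype.card_coe, ← Nat.card_eq_fintype_card]
      refine Nat.card_le_card_of_injective (fun p => (⟨p.1, ?_⟩ : F)) fun p p' he => Subtype.ext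
        (congrArg (fun z : F => (z : B)) he)
      obtain ⟨q, hq, hqe⟩ : ∃ q : C, True ∧ ψ q = p.1 := by
        obtain ⟨q, hq⟩ := p.2; exact ⟨q, trivial, hq⟩
      rw [← hqe]
      rcases himg ⟨q, hZY q.2.1⟩ q.2.1 (mem_centralizer_singleton_iff.1 q.2.2) with h1 | h1 | h1 | h1
        <;> simp [F, ψ, Subgroup.inclusion, h1]
    have hk : Nat.card ψ.ker ≤ 2 := by
      refine le_trans (Nat.card_le_card_of_injective (fun p => (⟨(p.1 : G), p.1.2,
        (hπker _).1 p.2⟩ : (C ⊓ P : Subgroup G))) fun p p' he => Subtype.ext (Subtype.ext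
          (congrArg (fun z : (C ⊓ P : Subgroup G) => (z : G)) he))) hW2
    have h1 := Subgroup.index_mul_card ψ.ker
    rw [Subgroup.index_ker] at h1
    have : Nat.card ψ.range * Nat.card ψ.ker ≤ 4 * 2 := Nat.mul_le_mul hr hk
    change 16 ≤ Nat.card C at hC16
    omega
  -- no conjugate of `t` in `Y1` outside `P`
  have hX1 : ∀ x ∈ Y1, IsConj t x → x ∈ P := by
    intro x hx hX
    by_contra hxP
    set xY : Y := ⟨x, hY1Y hx⟩
    have hb1 : χb (π xY) = 1 := (hY1mem xY).1 hx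
    have hB' : ∀ y : Y, (y : G) ∈ Y1 → π (y * xY * y⁻¹) ∈ ({π xY} : Finset B) := by
      intro y hy
      rw [Finset.mem_singleton, map_mul, map_mul, map_inv, hB1comm _ _ ((hY1mem y).1 hy) hb1,
        mul_inv_cancel_right]
    rcases Nat.eq_zero_or_pos j with hj | hj
    · -- `R = U`
      have hM : ∀ y : Y, (y : G) ∉ P → (y : G) * y = 1 → Nat.card (Iv y) ≤ 4 := fun y hy hy2 => by
        have := (hsmallI y hy hy2).1
        rw [hR0 hj] at this; omega
      have h1 := hbound Y1 hY1Y xY {π xY} hxP hX hx hB' 4 hM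
      rw [hY1card, hR0 hj, Finset.card_singleton] at h1
      -- the class has exactly four elements
      have hcl : Nat.card {z : G // ∃ y ∈ Y1, y * (xY : G) * y⁻¹ = z} ≤ 4 := by
        obtain ⟨xs, h2, h3⟩ := hclassI Y1 hY1Y xY {π xY} hxP hX hB'
        have hz : ∀ z : {z : G // ∃ y ∈ Y1, y * (xY : G) * y⁻¹ = z}, ∃ a : Iv (xs (π xY)),
            z.1 = (xs (π xY) : G) * a := by
          rintro ⟨z, y, hy, rfl⟩
          obtain ⟨a, ha, hae⟩ := h2 _ (Finset.mem_singleton_self _) _ ⟨y, hy, rfl⟩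
            (mul_mem (mul_mem (hY1Y hy) xY.2) (inv_mem (hY1Y hy)))
            (Finset.mem_singleton.1 (hB' ⟨y, hY1Y hy⟩ hy))
          exact ⟨⟨a, ha⟩, hae⟩
        choose az haz using hz
        refine (Nat.card_le_card_of_injective az fun z z' he => Subtype.ext ?_).trans
          (hM _ (h3 _ (Finset.mem_singleton_self _)).1 (h3 _ (Finset.mem_singleton_self _)).2)
        rw [haz z, haz z', he]
      have hC16 : 16 ≤ Nat.card (Y1 ⊓ centralizer ({(xY : G)} : Set G) : Subgroup G) := by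
        let q : Y1 → {z : G // ∃ y ∈ Y1, y * (xY : G) * y⁻¹ = z} := fun y => ⟨_, y, y.2, rfl⟩
        have hq : ∀ z, Nat.card {y // q y = z} ≤
            Nat.card (Y1 ⊓ centralizer ({(xY : G)} : Set G) : Subgroup G) := by
          rintro ⟨z, y₀, hy₀, rfl⟩
          refine Nat.card_le_card_of_injective (fun y => (⟨y₀⁻¹ * (y.1 : G),
            Y1.mul_mem (Y1.inv_mem hy₀) y.1.2, mem_centralizer_singleton_iff.2 ?_⟩ :
              (Y1 ⊓ centralizer ({(xY : G)} : Set G) : Subgroup G))) ?_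
          · have h1 : (y.1 : G) * xY * (y.1 : G)⁻¹ = y₀ * xY * y₀⁻¹ := congrArg Subtype.val y.2
            calc y₀⁻¹ * (y.1 : G) * (xY : G)
                = y₀⁻¹ * ((y.1 : G) * xY * (y.1 : G)⁻¹) * (y.1 : G) := by group
              _ = (xY : G) * (y₀⁻¹ * (y.1 : G)) := by rw [h1]; group
          · intro a b hab
            exact Subtype.ext (Subtype.ext (mul_left_cancel (congrArg Subtype.val hab)))
        have := Fintype.ofFinite {z : G // ∃ y ∈ Y1, y * (xY : G) * y⁻¹ = z}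
        have h4 : Nat.card Y1 ≤ Nat.card {z : G // ∃ y ∈ Y1, y * (xY : G) * y⁻¹ = z} *
            Nat.card (Y1 ⊓ centralizer ({(xY : G)} : Set G) : Subgroup G) := by
          rw [← Nat.card_congr (Equiv.sigmaFiberEquiv q), Nat.card_sigma,
            Nat.card_eq_fintype_card (α := {z : G // ∃ y ∈ Y1, y * (xY : G) * y⁻¹ = z}),
            ← Finset.card_univ, ← smul_eq_mul, ← Finset.sum_const]
          exact Finset.sum_le_sum fun z _ => hq z
        rw [hY1card, hR0 hj] at h4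
        have h5 := h4.trans (Nat.mul_le_mul_right _ hcl)
        omega
      -- image of the centralizer is all of `B1`
      obtain ⟨b1, hb1a, hb1b⟩ := hall (-1) 1
      have himg : ∀ b : B, χb b = 1 → b = 1 ∨ b = c0 ∨ b = b1 ∨ b = c0 * b1 := by
        intro b hb
        rcases Int.units_eq_one_or (χa b) with ha | ha
        · rcases hker b ha hb with h1 | h1
          · exact Or.inl h1
          · exact Or.inr (Or.inl h1)
        · rcases hker (b * b1) (by rw [map_mul, ha, hb1a]; rfl)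
            (by rw [map_mul, hb, hb1b]; rfl) with h1 | h1
          · refine Or.inr (Or.inr (Or.inl ?_))
            rw [eq_inv_of_mul_eq_one_left h1]
            exact inv_eq_of_mul_eq_one_right (hsq1 b1 (fun h' => absurd (h'.2.symm.trans hb1b) (by decide)))
          · refine Or.inr (Or.inr (Or.inr ?_))
            rw [← h1, mul_assoc, hsq1 b1 (fun h' => absurd (h'.2.symm.trans hb1b) (by decide)),
              mul_one]
      let C : Subgroup G := Y1 ⊓ centralizer ({(xY : G)} : Set G)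
      have hCP : C ⊓ P ≤ U ⊓ centralizer ({(xY : G)} : Set G) := by
        intro p hp
        have hpR : p ∈ R := by
          by_contra hne
          obtain ⟨r, hr, rfl⟩ := g.out_P h hp.2 hne
          exact hxP (hnocomm xY r hr (mem_centralizer_singleton_iff.1 hp.1.2).symm)
        refine ⟨?_, hp.1.2⟩
        have := g.hpow p hpR
        rwa [hj, pow_zero, pow_one] at this
      have hCP4 : Nat.card (C ⊓ P : Subgroup G) ≤ 4 := by
        refine le_trans (Nat.card_le_card_of_injective (fun p => (⟨(p : G), ?_⟩ : Iv xY)) ?_)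
          (hM xY hxP (hconjsq hX))
        · obtain ⟨hpU, hpc⟩ := hCP p.2
          refine ⟨g.hUR hpU, ?_⟩
          calc (xY : G) * p * ((xY : G) * p) = (xY : G) * ((p : G) * xY) * p := by group
            _ = (xY : G) * ((xY : G) * p) * p := by rw [mem_centralizer_singleton_iff.1 hpc]
            _ = (xY : G) * xY * ((p : G) * p) := by group
            _ = 1 := by rw [hconjsq hX, h.hexp _ (h.hUT hpU), one_mul]
        · intro p p' he
          exact Subtype.ext (congrArg (fun z : Iv xY => (z : G)) he)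
      let ψ : C →* B1 :=
        { toFun := fun p => ⟨π ⟨p, hY1Y p.2.1⟩, (hY1mem ⟨p, hY1Y p.2.1⟩).1 p.2.1⟩
          map_one' := Subtype.ext (map_one π)
          map_mul' := fun a b => Subtype.ext (map_mul π ⟨a, hY1Y a.2.1⟩ ⟨b, hY1Y b.2.1⟩) }
      have hk : Nat.card ψ.ker ≤ 4 := le_trans
        (Nat.card_le_card_of_injective (fun p => (⟨(p.1 : G), p.1.2,
          (hπker _).1 (congrArg Subtype.val p.2)⟩ : (C ⊓ P : Subgroup G))) fun p p' he =>
            Subtype.ext (Subtype.ext (congrArg (fun z : (C ⊓ P : Subgroup G) => (z : G)) he))) hCP4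
      have hB14 : Nat.card B1 = 4 := by
        have h2 := Subgroup.index_mul_card B1
        rw [Subgroup.index_ker, show χb.range = ⊤ from MonoidHom.range_eq_top.2 (fun i => by
          obtain ⟨b, -, hb⟩ := hall 1 i; exact ⟨b, hb⟩), Subgroup.card_top, hBcard,
          Nat.card_eq_fintype_card (α := ℤˣ), show Fintype.card ℤˣ = 2 from rfl] at h2
        omega
      have hψ : Function.Surjective ψ := by
        have h2 := Subgroup.index_mul_card ψ.ker
        rw [Subgroup.index_ker] at h2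
        change 16 ≤ Nat.card C at hC16
        refine MonoidHom.range_eq_top.1 (Subgroup.eq_top_of_le_card _ ?_)
        rw [hB14]
        nlinarith
      refine hcentI Y1 hY1Y xY hxP hX hj b1 hb1a (fun y hy _ => himg _ ((hY1mem y).1 hy)) hC16 ?_ ?_
      · obtain ⟨p, hp⟩ := hψ ⟨b1, hb1b⟩
        exact ⟨⟨p, hY1Y p.2.1⟩, p.2.1, mem_centralizer_singleton_iff.1 p.2.2,
          congrArg Subtype.val hp⟩
      · obtain ⟨p, hp⟩ := hψ ⟨c0, hc0b⟩
        exact ⟨⟨p, hY1Y p.2.1⟩, p.2.1, mem_centralizer_singleton_iff.1 p.2.2,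
          congrArg Subtype.val hp⟩
    · have hM : ∀ y : Y, (y : G) ∉ P → (y : G) * y = 1 → Nat.card (Iv y) ≤ Nat.card R / 4 :=
        fun y hy hy2 => by
          have := (hsmallI y hy hy2).2.1 hj
          omega
      have h1 := hbound Y1 hY1Y xY {π xY} hxP hX hx hB' _ hM
      rw [hY1card, Finset.card_singleton] at h1
      have : 0 < Nat.card R := Nat.card_pos
      omega
  -- parity: `Y` is a Sylow subgroup
  have hXY1 : Nat.card {x : G // x ∈ Y1 ∧ IsConj t x} = Nat.card R := by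
    have hPY1 : P ≤ Y1 := fun p hp =>
      (hY1mem ⟨p, hPY hp⟩).2 (by rw [(hπker ⟨p, hPY hp⟩).2 hp, map_one])
    refine (Nat.card_congr (Equiv.ofBijective (fun r : R => (⟨t * r,
      hPY1 (Or.inr (by rw [← mul_assoc, hB.tt, one_mul]; exact r.2)), g.hX r r.2⟩ :
      {x : G // x ∈ Y1 ∧ IsConj t x})) ⟨fun a b he => Subtype.ext
        (mul_left_cancel (congrArg Subtype.val he)), ?_⟩)).symm
    rintro ⟨x, hx, hX⟩
    obtain ⟨r, hr, rfl⟩ := g.out_P h (hX1 x hx hX) (fun h' => g.hXR x h' hX)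
    exact ⟨⟨r, hr⟩, rfl⟩
  obtain ⟨S, hYS⟩ := hY2.exists_le_sylow
  have hYeq : Y = (S : Subgroup G) := by
    by_contra hne
    have hfix' := card_fixed_mul Y1 t
    rw [hXY1, hB.card_centralizer, hcardT, hY1card] at hfix'
    obtain ⟨o, ho⟩ := hB.hodd
    rw [ho] at hfix'
    have hF : Nat.card {x : G ⧸ Y1 // t • x = x} = 2 * (2 * o + 1) := by
      refine Nat.eq_of_mul_eq_mul_right (Nat.mul_pos (by norm_num : 0 < 8)
        (Nat.card_pos (α := R))) ?_
      rw [hfix']; ring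
    have hmod := fixed_mod_four hG Y1 hB.tt
    rw [hF] at hmod
    have h4 : 4 ∣ Y1.index := by
      have h1 : Y1.relIndex Y = 2 := by
        have h2 := Subgroup.index_mul_card (Y1.subgroupOf Y)
        rw [Nat.card_congr (Subgroup.subgroupOfEquivOfLe hY1Y).toEquiv, hY1card, hcardY] at h2
        have : 0 < Nat.card R := Nat.card_pos
        change (Y1.subgroupOf Y).index = 2
        refine Nat.eq_of_mul_eq_mul_right (Nat.mul_pos (by norm_num : 0 < 8)
          (Nat.card_pos (α := R))) ?_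
        rw [h2]; ring
      obtain ⟨k, hk⟩ : 2 ∣ Y.relIndex (S : Subgroup G) := by
        obtain ⟨a, ha⟩ := S.2.exists_card_eq
        obtain ⟨m, -, hm⟩ := (Nat.dvd_prime_pow Nat.prime_two).1
          (ha ▸ Subgroup.index_dvd_card (Y.subgroupOf (S : Subgroup G)))
        rcases m with _ | m
        · exact absurd (le_antisymm hYS (Subgroup.relIndex_eq_one.1 hm)) hne
        · exact ⟨2 ^ m, hm.trans (pow_succ' 2 m)⟩
      refine ⟨k * (S : Subgroup G).index, ?_⟩
      rw [← Subgroup.relIndex_mul_index hY1Y, h1, ← Subgroup.relIndex_mul_index hYS, hk]; ring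
    obtain ⟨m, hm⟩ := h4
    rw [hm] at hmod
    push_cast at hmod
    omega
  -- squares in `Y`
  obtain ⟨wb, hwa, hwb⟩ := hall (-1) (-1)
  obtain ⟨w, rfl⟩ := hπ wb
  have hsqR : ∀ y : Y, π (y * y) = 1 → (y : G) * y ∈ R := by
    intro y hy
    by_contra hne
    obtain ⟨r, hr, he⟩ := g.out_P h ((hπker _).1 hy) hne
    have hyP := hnocomm y r hr (by rw [← he, Subgroup.coe_mul]; group)
    rcases hyP with hyR | hyR
    · exact hne (R.mul_mem hyR hyR)
    · refine hne ?_
      have h1 := g.hinv _ hyR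
      have e : (y : G) * y = t * (t * (y : G)) * t * (t * (y : G)) := by
        calc (y : G) * y = (t * t) * (y : G) * ((t * t) * (y : G)) := by
              rw [hB.tt, one_mul]
          _ = _ := by group
      rw [e, h1, inv_mul_cancel]
      exact R.one_mem
  have hw4 : π (w * w * (w * w)) = 1 := by
    rw [map_mul, map_mul, hsq0 _ hwa hwb]
    exact hsq1 c0 (fun h' => absurd (h'.1.symm.trans hc0a) (by decide))
  let Q0 : Subgroup G :=
    { carrier := {y | y ∈ Y ∧ (y ∈ R ∨ ((w : G) * w)⁻¹ * y ∈ R)}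
      one_mem' := ⟨one_mem _, Or.inl R.one_mem⟩
      mul_mem' := by
        rintro a b ⟨haY, ha⟩ ⟨hbY, hb⟩
        refine ⟨mul_mem haY hbY, ?_⟩
        have hw' : ∀ r ∈ R, ((w : G) * w)⁻¹ * r * ((w : G) * w) ∈ R := fun r hr => by
          have := hYR ((w * w)⁻¹) hr
          simpa using this
        have hw4' : (w : G) * w * ((w : G) * w) ∈ R := hsqR (w * w) (by rw [hw4])
        rcases ha with ha | ha <;> rcases hb with hb | hb
        · exact Or.inl (R.mul_mem ha hb)
        · refine Or.inr ?_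
          rw [show ((w : G) * w)⁻¹ * (a * b) =
            ((w : G) * w)⁻¹ * a * ((w : G) * w) * (((w : G) * w)⁻¹ * b) by group]
          exact R.mul_mem (hw' a ha) hb
        · exact Or.inr (by rw [← mul_assoc]; exact R.mul_mem ha hb)
        · refine Or.inl ?_
          rw [show a * b = ((w : G) * w) * ((w : G) * w) *
            (((w : G) * w)⁻¹ * (((w : G) * w)⁻¹ * a) * ((w : G) * w)) * (((w : G) * w)⁻¹ * b) by group]
          exact R.mul_mem (R.mul_mem hw4' (hw' _ ha)) hb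
      inv_mem' := by
        rintro a ⟨haY, ha⟩
        refine ⟨inv_mem haY, ?_⟩
        rcases ha with ha | ha
        · exact Or.inl (R.inv_mem ha)
        · refine Or.inr ?_
          have hw4' : (w : G) * w * ((w : G) * w) ∈ R := hsqR (w * w) (by rw [hw4])
          have := hYR ((w * w)⁻¹) (R.inv_mem ha)
          rw [show ((w : G) * w)⁻¹ * a⁻¹ = (((w * w)⁻¹ : Y) : G) *
            (((w : G) * w)⁻¹ * a)⁻¹ * (((w * w)⁻¹ : Y) : G)⁻¹ * ((w : G) * w * ((w : G) * w))⁻¹ by
              simp; group]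
          exact R.mul_mem this (R.inv_mem hw4') }
  have hQ0 : ∀ y ∈ Y, y * y ∈ Q0 := by
    intro y hy
    refine ⟨mul_mem hy hy, ?_⟩
    set yY : Y := ⟨y, hy⟩
    by_cases hab : χa (π yY) = -1 ∧ χb (π yY) = -1
    · have hd : χa ((π w)⁻¹ * π yY) = 1 ∧ χb ((π w)⁻¹ * π yY) = 1 := by
        constructor <;> rw [map_mul, map_inv]
        · rw [hab.1, hwa]; rfl
        · rw [hab.2, hwb]; rfl
      have hcase : ∃ w' : Y, π w' = π yY ∧ ((w : G) * w)⁻¹ * ((w' : G) * w') ∈ R := by
        rcases hker _ hd.1 hd.2 with h1 | h1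
        · exact ⟨w, inv_mul_eq_one.1 h1, by rw [inv_mul_cancel]; exact R.one_mem⟩
        · refine ⟨w⁻¹, ?_, ?_⟩
          · rw [map_inv, ← mul_inv_cancel_left (π w) (π yY), h1, ← hsq0 _ hwa hwb]
            refine inv_eq_of_mul_eq_one_right ?_
            rw [show π w * (π w * (π w * π w)) = (π w * π w) * (π w * π w) by group]
            rw [← map_mul, ← map_mul]; exact hw4
          · rw [show ((w : G) * w)⁻¹ * (((w⁻¹ : Y) : G) * ((w⁻¹ : Y) : G)) =
              ((w : G) * w * ((w : G) * w))⁻¹ by simp [mul_assoc]]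
            exact R.inv_mem (hsqR (w * w) (by rw [hw4]))
      obtain ⟨w', hw'π, hw'⟩ := hcase
      have hp : ((w'⁻¹ * yY : Y) : G) ∈ P :=
        (hπker _).1 (by rw [map_mul, map_inv, hw'π, inv_mul_cancel])
      set p : G := (w' : G)⁻¹ * y with hpdef
      have hp' : p ∈ P := hp
      have hpw : (w' : G)⁻¹ * p * w' ∈ P := by
        have := (mem_normalizer_iff.1 (hYN (inv_mem w'.2)).2 p).1 hp'
        simpa using this
      have hpp : (w' : G)⁻¹ * p * w' * p ∈ R := by
        rcases hp' with hpR | hpR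
        · refine R.mul_mem ?_ hpR
          have := hYR w'⁻¹ hpR
          simpa using this
        · have hnR : (w' : G)⁻¹ * p * w' ∉ R := fun h' => by
            have := hYR w' h'
            rw [show (w' : G) * ((w' : G)⁻¹ * p * w') * (w' : G)⁻¹ = p by group] at this
            exact g.htR ((mul_mem_cancel_right this).1 hpR)
          obtain ⟨r, hr, he⟩ := g.out_P h hpw hnR
          rw [he, show t * r * p = t * r * t * (t⁻¹ * p) by group, g.hinv r hr,
            inv_of_sq hB.tt]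
          exact R.mul_mem (R.inv_mem hr) hpR
      refine Or.inr ?_
      rw [show ((w : G) * w)⁻¹ * (y * y) =
        ((w : G) * w)⁻¹ * ((w' : G) * w') * ((w' : G)⁻¹ * p * w' * p) by rw [hpdef]; group]
      exact R.mul_mem hw' hpp
    · exact Or.inl (hsqR yY (by rw [map_mul]; exact hsq1 _ hab))
  have hRQ0 : ∀ r ∈ R, r ∈ Q0 := fun r hr => ⟨hRY hr, Or.inl hr⟩
  have hQ0π : ∀ (q : G) (hqY : q ∈ Y), q ∈ Q0 → χa (π ⟨q, hqY⟩) = 1 ∧ χb (π ⟨q, hqY⟩) = 1 := by
    intro q hqY hq
    rcases hq.2 with h1 | h1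
    · rw [(hπker _).2 (Or.inl h1), map_one, map_one]; exact ⟨rfl, rfl⟩
    · have h2 : π ((w * w)⁻¹ * ⟨q, hqY⟩) = 1 := (hπker _).2 (Or.inl (by simpa using h1))
      rw [map_mul, map_inv, inv_mul_eq_one, map_mul] at h2
      rw [← h2, hsq0 _ hwa hwb]
      exact ⟨hc0a, hc0b⟩
  have htQ0 : t ∉ Q0 := fun h' => by
    rcases h'.2 with h1 | h1
    · exact g.htR h1
    · have h2 : π ((w * w)⁻¹ * ⟨t, hPY (g.t_mem_P h)⟩) = 1 := (hπker _).2 (Or.inl (by simpa using h1))
      rw [map_mul, map_inv, (hπker ⟨t, hPY (g.t_mem_P h)⟩).2 (g.t_mem_P h), mul_one,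
        inv_eq_one, map_mul, hsq0 _ hwa hwb] at h2
      exact hc01 h2
  have htY : t ∈ Y := hPY (g.t_mem_P h)
  -- extremal conjugates outside `P`
  have hext : ∀ x : Y, (x : G) ∉ P → IsConj t (x : G) →
      j = 0 ∧ χa (π x) = 1 ∧ χb (π x) = -1 ∧ (∀ x' : Y, (x' : G) * x' = 1 →
        χa (π x') = 1 → χb (π x') = -1 → ∃ y : Y, (y : G) * x * (y : G)⁻¹ = x') := by
    intro x hxP hX
    set b := π x with hb
    have hbsq : b * b = 1 := by
      rw [hb, ← map_mul, show x * x = 1 from Subtype.ext (hconjsq hX), map_one]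
    have hcls : ∀ y : Y, π (y * x * y⁻¹) ∈ ({b, c0 * b} : Finset B) := by
      intro y
      have hd : χa (b⁻¹ * (π y * b * (π y)⁻¹)) = 1 ∧ χb (b⁻¹ * (π y * b * (π y)⁻¹)) = 1 := by
        constructor <;> simp only [map_mul, map_inv] <;>
          rw [mul_right_comm (_ : ℤˣ) _ (_ : ℤˣ)⁻¹, mul_inv_cancel, one_mul, inv_mul_cancel]
      rw [map_mul, map_mul, map_inv, ← hb, Finset.mem_insert, Finset.mem_singleton]
      rcases hker _ hd.1 hd.2 with h1 | h1
      · exact Or.inl (inv_mul_eq_one.1 h1).symm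
      · exact Or.inr (by rw [← mul_inv_cancel_left b (π y * b * (π y)⁻¹), h1, hcen])
    have hcard2 : ({b, c0 * b} : Finset B).card ≤ 2 := Finset.card_le_two
    rcases Nat.eq_zero_or_pos j with hj | hj
    swap
    · exfalso
      have hM : ∀ y : Y, (y : G) ∉ P → (y : G) * y = 1 → Nat.card (Iv y) ≤ Nat.card R / 4 :=
        fun y hy hy2 => by
          have := (hsmallI y hy hy2).2.1 hj
          omega
      have h1 := hbound Y le_rfl x {b, c0 * b} hxP hX x.2 (fun y _ => hcls y) _ hM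
      rw [hcardY] at h1
      have : 0 < Nat.card R := Nat.card_pos
      have h2 : 16 * (({b, c0 * b} : Finset B).card * (Nat.card R / 4)) ≤
          16 * (2 * (Nat.card R / 4)) := Nat.mul_le_mul_left _ (Nat.mul_le_mul_right _ hcard2)
      omega
    refine ⟨hj, ?_⟩
    have hM : ∀ y : Y, (y : G) ∉ P → (y : G) * y = 1 → Nat.card (Iv y) ≤ 4 := fun y hy hy2 => by
      have := (hsmallI y hy hy2).1
      rw [hR0 hj] at this; omega
    have hb1 : χb b = -1 := by
      rcases Int.units_eq_one_or (χb b) with h1 | h1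
      · exact absurd (hX1 _ ((hY1mem x).2 h1) hX) hxP
      · exact h1
    have ha1 : χa b = 1 := by
      rcases Int.units_eq_one_or (χa b) with h1 | h1
      · exact h1
      · exfalso
        have := hsq0 b h1 hb1
        rw [hbsq] at this
        exact hc01 this.symm
    refine ⟨ha1, hb1, ?_⟩
    -- the class is the set of all involutions over `b` and `c0 * b`
    let CL := {z : G // ∃ y ∈ Y, y * (x : G) * y⁻¹ = z}
    let IN := {z : Y // (z : G) * z = 1 ∧ χa (π z) = 1 ∧ χb (π z) = -1}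
    let f : CL → IN := fun z => ⟨⟨z.1, by
        obtain ⟨y, hy, he⟩ := z.2
        exact he ▸ mul_mem (mul_mem hy x.2) (inv_mem hy)⟩, by
      obtain ⟨y, hy, he⟩ := z.2
      have e : (⟨z.1, he ▸ mul_mem (mul_mem hy x.2) (inv_mem hy)⟩ : Y) = ⟨y, hy⟩ * x * ⟨y, hy⟩⁻¹ :=
        Subtype.ext he.symm
      refine ⟨hconjsq (he ▸ (isConj_conj_iff y).2 hX), ?_, ?_⟩ <;>
        rw [e, map_mul, map_mul, map_inv, map_mul, map_mul, map_inv, mul_right_comm,
          mul_inv_cancel, one_mul]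
      · exact ha1
      · exact hb1⟩
    have hfinj : Function.Injective f := fun z z' he =>
      Subtype.ext (congrArg (fun w : IN => ((w : Y) : G)) he)
    have hcl8 : 8 ≤ Nat.card CL := by
      have := hclass Y le_rfl x x.2 hX
      rw [hcardY, hR0 hj] at this
      change 16 * 8 ≤ 16 * Nat.card CL at this
      omega
    have hin8 : Nat.card IN ≤ 8 := by
      have hkey : ∀ b' : B, b' ≠ 1 → Nat.card {z : Y // (z : G) * z = 1 ∧ π z = b'} ≤ 4 := by
        intro b' hb'
        by_cases hne : Nonempty {z : Y // (z : G) * z = 1 ∧ π z = b'}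
        · obtain ⟨z0, hz0, hz0b⟩ := hne
          have hz0P : (z0 : G) ∉ P := fun h' => hb' (hz0b ▸ (hπker z0).2 h')
          refine le_trans (Nat.card_le_card_of_injective (fun z => (⟨(z0 : G)⁻¹ * (z.1 : G), ?_⟩ :
            Iv z0)) ?_) (hM z0 hz0P hz0)
          · have hp : (z0 : G)⁻¹ * (z.1 : G) ∈ P :=
              (hπker (z0⁻¹ * z.1)).1 (by rw [map_mul, map_inv, hz0b, z.2.2, inv_mul_cancel])
            exact ⟨hsingle z0 _ hp hz0P hz0 (by simpa using z.2.1), by simpa using z.2.1⟩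
          · intro z z' he
            exact Subtype.ext (Subtype.ext (mul_left_cancel (congrArg (fun w : Iv z0 => (w : G)) he)))
        · rw [not_nonempty_iff] at hne
          simp
      have hb0 : b ≠ 1 := fun h1 => hxP ((hπker x).1 h1)
      have hcb0 : c0 * b ≠ 1 := fun h1 => by
        have := congrArg χb h1
        rw [map_mul, hc0b, hb1, map_one] at this
        exact absurd this (by decide)
      have hinto : ∀ z : IN, π z.1 = b ∨ π z.1 = c0 * b := by
        intro z
        rcases hker (b⁻¹ * π z.1) (by rw [map_mul, map_inv, ha1, z.2.2.1]; rfl)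
          (by rw [map_mul, map_inv, hb1, z.2.2.2]; rfl) with h1 | h1
        · exact Or.inl (inv_mul_eq_one.1 h1).symm
        · exact Or.inr (by rw [← mul_inv_cancel_left b (π z.1), h1, hcen])
      let g' : IN → {z : Y // (z : G) * z = 1 ∧ π z = b} ⊕
          {z : Y // (z : G) * z = 1 ∧ π z = c0 * b} := fun z =>
        if hz : π z.1 = b then Sum.inl ⟨z.1, z.2.1, hz⟩
        else Sum.inr ⟨z.1, z.2.1, (hinto z).resolve_left hz⟩
      have hg' : Function.Injective g' := fun z z' he => by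
        simp only [g'] at he
        split_ifs at he with h1 h2 <;> simp at he <;> exact Subtype.ext he
      refine (Nat.card_le_card_of_injective g' hg').trans ?_
      rw [Nat.card_sum]
      have := hkey b hb0
      have := hkey (c0 * b) hcb0
      omega
    have hbij : Function.Bijective f :=
      (Nat.bijective_iff_injective_and_card f).2 ⟨hfinj, le_antisymm
        (Nat.card_le_card_of_injective f hfinj) (hin8.trans hcl8)⟩
    intro x' h1 h2 h3
    obtain ⟨⟨z, y, hy, he⟩, hzz⟩ := hbij.2 ⟨x', h1, h2, h3⟩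
    exact ⟨⟨y, hy⟩, he.trans (congrArg (fun w : IN => ((w : Y) : G)) hzz)⟩
  -- a subgroup of index two
  obtain ⟨M, hM2, hRM, htM, hxM⟩ : ∃ M : Subgroup Y, M.index = 2 ∧ R.subgroupOf Y ≤ M ∧
      (⟨t, htY⟩ : Y) ∉ M ∧ ∀ x : Y, (x : G) ∉ P → IsConj t (x : G) → x ∉ M := by
    by_cases hex : ∃ x : Y, (x : G) ∉ P ∧ IsConj t (x : G)
    · obtain ⟨x0, hx0P, hx0X⟩ := hex
      obtain ⟨hj, hx0a, hx0b, hx0cl⟩ := hext x0 hx0P hx0X
      let L : Subgroup G := Q0 ⊔ zpowers ((x0 : G) * t)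
      have hQn : ∀ y ∈ Y, ∀ q ∈ Q0, y * q * y⁻¹ ∈ Q0 := by
        intro y hy q hq
        have e : y * q * y⁻¹ = (y * q) * (y * q) * (q⁻¹ * (y⁻¹ * y⁻¹)) := by group
        rw [e]
        exact mul_mem (hQ0 _ (mul_mem hy hq.1))
          (mul_mem (inv_mem hq) (hQ0 _ (inv_mem hy)))
      have hLt : t ∉ L := by
        intro h'
        change t ∈ Q0 ⊔ zpowers ((x0 : G) * t) at h'
        have hnorm : zpowers ((x0 : G) * t) ≤ normalizer (Q0 : Set G) :=
          zpowers_le.2 (mem_normalizer_of_conj (hQn _ (mul_mem x0.2 htY)))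
        rw [← SetLike.mem_coe, sup_comm, coe_mul_of_left_le_normalizer_right _ _ hnorm] at h'
        obtain ⟨z, hz, q, hq, hzq⟩ := h'
        obtain ⟨i, rfl⟩ := mem_zpowers_iff.1 hz
        have hq' : q ∈ Q0 := hq
        have hzq' : ((x0 : G) * t) ^ i * q = t := hzq
        have hx0t : (x0 : G) * t * ((x0 : G) * t) ∈ Q0 := hQ0 _ (mul_mem x0.2 htY)
        rcases Int.even_or_odd i with ⟨l, hl⟩ | ⟨l, hl⟩
        · refine htQ0 (hzq' ▸ mul_mem ?_ hq')
          rw [hl, zpow_add, ← (Commute.refl _).mul_zpow]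
          exact zpow_mem hx0t l
        · have h1 : ((x0 : G) * t)⁻¹ * t ∈ Q0 := by
            rw [show ((x0 : G) * t)⁻¹ * t = ((x0 : G) * t)⁻¹ * ((x0 : G) * t) ^ i * q by
              rw [mul_assoc, hzq']]
            refine mul_mem ?_ hq'
            rw [hl, zpow_add, zpow_one, ← mul_assoc, two_mul, zpow_add,
              ← (Commute.refl _).mul_zpow]
            have h2 : ∀ q ∈ Q0, ((x0 : G) * t)⁻¹ * q * ((x0 : G) * t) ∈ Q0 := fun q hq => by
              simpa using hQn _ (inv_mem (mul_mem x0.2 htY)) q hq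
            simpa only [mul_assoc] using h2 _ (zpow_mem hx0t l)
          rw [mul_inv_rev, mul_assoc, inv_of_sq hB.tt] at h1
          have h3 : t * ((x0 : G)⁻¹ * t) ∈ Q0 := h1
          obtain ⟨ha, -⟩ := hQ0π _ (mul_mem htY (mul_mem (inv_mem x0.2) htY)) h3
          obtain ⟨-, hb⟩ := hQ0π _ (mul_mem htY (mul_mem (inv_mem x0.2) htY)) h3
          have e : π ⟨t * ((x0 : G)⁻¹ * t), mul_mem htY (mul_mem (inv_mem x0.2) htY)⟩ = (π x0)⁻¹ := by
            rw [show (⟨t * ((x0 : G)⁻¹ * t), _⟩ : Y) = ⟨t, htY⟩ * (x0⁻¹ * ⟨t, htY⟩) from rfl,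
              map_mul, map_mul, (hπker ⟨t, htY⟩).2 (g.t_mem_P h), one_mul, mul_one, map_inv]
          rw [e, map_inv, hx0b] at hb
          exact absurd hb (by decide)
      have hLY : L ≤ Y := sup_le (fun q hq => hq.1) (zpowers_le.2 (mul_mem x0.2 htY))
      obtain ⟨M, hM2, hLM, htM⟩ := exists_index_two hLY
        (fun y hy => mem_sup_left (hQ0 y hy)) htY hLt
      have hx0M : x0 ∉ M := by
        intro h'
        have h1 : x0 * ⟨t, htY⟩ ∈ M := hLM (show (x0 : G) * t ∈ L from mem_sup_right (mem_zpowers _))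
        exact htM ((mul_mem_cancel_left h').1 h1)
      refine ⟨M, hM2, fun r hr => hLM (mem_sup_left (hRQ0 _ hr)), htM, fun x hxP hX hxM => ?_⟩
      obtain ⟨-, hxa, hxb, -⟩ := hext x hxP hX
      obtain ⟨y, hy⟩ := hx0cl x (hconjsq hX) hxa hxb
      have hn : M.Normal := normal_of_index_eq_two hM2
      have := hn.conj_mem x hxM y⁻¹
      rw [show y⁻¹ * x * y⁻¹⁻¹ = x0 from Subtype.ext (by
        rw [Subgroup.coe_mul, Subgroup.coe_mul, inv_inv, Subgroup.coe_inv, ← hy]; group)]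
        at this
      exact hx0M this
    · obtain ⟨M, hM2, hQM, htM⟩ := exists_index_two (fun q hq => hq.1 : Q0 ≤ Y) hQ0 htY htQ0
      exact ⟨M, hM2, fun r hr => hQM (hRQ0 _ hr), htM, fun x hxP hX => absurd ⟨x, hxP, hX⟩ hex⟩
  let f : (S : Subgroup G) →* ℤˣ := (sgnHom M hM2).comp (Subgroup.inclusion hYeq.ge)
  refine transfer_extremal hG S f hB.tt T hB.hT hB.htT (fun x hx => hB.comm hx) (-1) (by decide)
    fun x hx _ => ?_
  have hxY : x⁻¹ * t * x ∈ Y := hYeq ▸ hx
  have hX : IsConj t (x⁻¹ * t * x) := isConj_iff.2 ⟨x⁻¹, by rw [inv_inv]⟩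
  refine sgnHom_of_not_mem M hM2 fun hm => ?_
  have hm' : (⟨x⁻¹ * t * x, hxY⟩ : Y) ∈ M := hm
  by_cases hP : x⁻¹ * t * x ∈ P
  · obtain ⟨r, hr, he⟩ := g.out_P h hP (fun h' => g.hXR _ h' hX)
    have hrM : (⟨r, hRY hr⟩ : Y) ∈ M := hRM hr
    rw [show (⟨x⁻¹ * t * x, hxY⟩ : Y) = ⟨t, htY⟩ * ⟨r, hRY hr⟩ from Subtype.ext he] at hm'
    exact htM ((mul_mem_cancel_right hrM).1 hm')
  · exact hxM ⟨_, hxY⟩ hP hX hm'

end CfsgLib.TimesPSL
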