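import Cfsg.Agent.Lib.Fusion.SimplePSLTwo
import Cfsg.Agent.Lib.ClassK.PushPSL
import Cfsg.Agent.Lib.TimesPSL.Sgn

/-!
# The Sylow 2-subgroups of `PSL₂(q)` and their normalizers
-/

namespace CfsgLib.TimesPSL

open Subgroup Matrix
open scoped MatrixGroups

/-- Transitive and commutative action of the normalizer on an elementary abelian subgroup. -/
structure NormData {L : Type*} [Group L] (P : Subgroup L) : Prop where
  hexp : ∀ x ∈ P, x * x = 1
  h4 : 4 ≤ Nat.card P
  htrans : ∀ a ∈ P, a ≠ 1 → ∀ b ∈ P, b ≠ 1 → ∃ g ∈ normalizer (P : Set L), g * a * g⁻¹ = b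
  hcomm : ∀ g ∈ normalizer (P : Set L), ∀ k ∈ normalizer (P : Set L), ∀ x ∈ P,
    g * k * x * (g * k)⁻¹ = k * g * x * (k * g)⁻¹

theorem NormData.conj {L : Type*} [Group L] [Finite L] {P : Subgroup L} (h : NormData P) (g : L) :
    NormData (P.map (MulAut.conj g).toMonoidHom) := by
  have hn : ∀ {k : L}, k ∈ normalizer ((P.map (MulAut.conj g).toMonoidHom : Subgroup L) : Set L) →
      g⁻¹ * k * g ∈ normalizer (P : Set L) := by
    intro k hk
    refine mem_normalizer_iff.2 fun x => ?_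
    have := mem_normalizer_iff.1 hk (g * x * g⁻¹)
    simp only [SetLike.mem_coe, Subgroup.mem_map_equiv, MulAut.conj_symm_apply] at this ⊢
    simpa [mul_assoc] using this
  have hn' : ∀ {k : L}, k ∈ normalizer (P : Set L) →
      g * k * g⁻¹ ∈ normalizer ((P.map (MulAut.conj g).toMonoidHom : Subgroup L) : Set L) := by
    intro k hk
    refine mem_normalizer_iff.2 fun x => ?_
    have := mem_normalizer_iff.1 hk (g⁻¹ * x * g)
    simp only [SetLike.mem_coe, Subgroup.mem_map_equiv, MulAut.conj_symm_apply] at this ⊢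
    simpa [mul_assoc] using this
  refine ⟨?_, ?_, ?_, ?_⟩
  · rintro _ ⟨x, hx, rfl⟩
    rw [← map_mul, h.hexp x hx, map_one]
  · rw [Subgroup.card_map_of_injective (MulEquiv.injective _)]; exact h.h4
  · rintro _ ⟨a, ha, rfl⟩ ha1 _ ⟨b, hb, rfl⟩ hb1
    obtain ⟨k, hk, hke⟩ := h.htrans a ha (fun h1 => ha1 (by rw [h1, map_one])) b hb
      (fun h1 => hb1 (by rw [h1, map_one]))
    refine ⟨_, hn' hk, ?_⟩
    simp only [MulEquiv.toMonoidHom_eq_coe, MonoidHom.coe_coe, MulAut.conj_apply]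
    rw [← hke]; group
  · rintro a ha b hb _ ⟨x, hx, rfl⟩
    have h1 := h.hcomm _ (hn ha) _ (hn hb) x hx
    simp only [MulEquiv.toMonoidHom_eq_coe, MonoidHom.coe_coe, MulAut.conj_apply]
    calc a * b * (g * x * g⁻¹) * (a * b)⁻¹
        = g * ((g⁻¹ * a * g) * (g⁻¹ * b * g) * x * ((g⁻¹ * a * g) * (g⁻¹ * b * g))⁻¹) * g⁻¹ := by
          group
      _ = _ := by rw [h1]; group

variable {F : Type*} [Field F] [Fintype F]

local notation "PS" => Matrix.ProjectiveSpecialLinearGroup (Fin 2) F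
local notation "π" => QuotientGroup.mk' (Subgroup.center (Matrix.SpecialLinearGroup (Fin 2) F))

theorem psl_conj_of_odd (hodd : Odd (Fintype.card F)) (a b : PS) (ha : a * a = 1) (ha1 : a ≠ 1)
    (hb : b * b = 1) (hb1 : b ≠ 1) : IsConj a b :=
  CfsgLib.Fusion.psl_two_involutions_conj hodd a b
    (orderOf_eq_prime (by rw [pow_two]; exact ha) ha1) (orderOf_eq_prime (by rw [pow_two]; exact hb) hb1)

theorem normData_klein (hq : Fintype.card F % 8 = 3 ∨ Fintype.card F % 8 = 5) (P : Sylow 2 PS) :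
    NormData (P : Subgroup PS) := by
  classical
  have : Fact (Nat.Prime 2) := ⟨Nat.prime_two⟩
  have hodd : Odd (Fintype.card F) := Nat.odd_iff.2 (by omega)
  have hK := CfsgLib.Classical.sylow_two_psl_two_klein hq P
  have hexp : ∀ x ∈ (P : Subgroup PS), x * x = 1 := by
    intro x hx
    have := Monoid.pow_exponent_eq_one (⟨x, hx⟩ : (P : Subgroup PS))
    rw [hK.exponent_two, pow_two] at this
    exact congrArg Subtype.val this
  have hcomm : IsMulCommutative (P : Subgroup PS) := ⟨⟨fun a b => by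
    have h1 : ∀ x : (P : Subgroup PS), x⁻¹ = x := fun x =>
      inv_eq_of_mul_eq_one_right (Subtype.ext (hexp x x.2))
    rw [← h1 (a * b), _root_.mul_inv_rev, h1 a, h1 b]⟩⟩
  refine ⟨hexp, le_of_eq hK.card_four.symm, fun a ha ha1 b hb hb1 => ?_, ?_⟩
  · obtain ⟨g, hg⟩ := isConj_iff.1 (psl_conj_of_odd hodd a b (hexp a ha) ha1 (hexp b hb) hb1)
    obtain ⟨n, hn, hne⟩ := P.conj_eq_normalizer_conj_of_mem a g⁻¹ ha (by rw [inv_inv, hg]; exact hb)
    rw [inv_inv, hg] at hne
    exact ⟨n⁻¹, inv_mem hn, by rw [inv_inv]; exact hne.symm⟩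
  · -- the automizer has odd order dividing six
    let Nm : Subgroup PS := normalizer ((P : Subgroup PS) : Set PS)
    let ρ : Nm →* Equiv.Perm {x : (P : Subgroup PS) // x ≠ 1} :=
      { toFun := fun n => (MulAut.toPerm _ ((P : Subgroup PS).normalizerMonoidHom n)).subtypeEquiv
          (fun x => (map_eq_one_iff ((P : Subgroup PS).normalizerMonoidHom n) (MulEquiv.injective _)).not.symm)
        map_one' := Equiv.ext fun x => Subtype.ext (by simp)
        map_mul' := fun a b => Equiv.ext fun x => Subtype.ext (by simp; rfl) }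
    have hρ : ∀ (n : Nm) (x : PS) (hx : x ∈ (P : Subgroup PS)) (hx1 : (⟨x, hx⟩ : (P : Subgroup PS)) ≠ 1),
        (((ρ n) ⟨⟨x, hx⟩, hx1⟩).1 : PS) = (n : PS) * x * (n : PS)⁻¹ := fun _ _ _ _ => rfl
    have htriv : ∀ n : Nm, ρ n * ρ n = 1 → ρ n = 1 := by
      intro n hn
      have h2 : ρ n ^ 2 = 1 := by rw [pow_two]; exact hn
      obtain ⟨a, m, hm, he⟩ := Nat.exists_eq_two_pow_mul_odd (orderOf_pos n).ne'
      obtain ⟨k, rfl⟩ := hm
      have hk : ρ (n ^ (2 * k + 1)) = ρ n := by
        rw [map_pow, pow_succ, pow_mul, h2, one_pow, one_mul]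
      rw [← hk]
      have hpow : ((n ^ (2 * k + 1) : Nm) : PS) ^ 2 ^ a = 1 := by
        rw [← SubmonoidClass.coe_pow, ← pow_mul, mul_comm (2 * k + 1), ← he, pow_orderOf_eq_one]
        rfl
      have hQ : IsPGroup 2 (zpowers ((n ^ (2 * k + 1) : Nm) : PS) ⊔ (P : Subgroup PS) : Subgroup PS) :=
        IsPGroup.to_sup_of_normal_right' (IsPGroup.of_card_dvd_pow (n := a) (by
          rw [Nat.card_zpowers]; exact orderOf_dvd_of_pow_eq_one hpow)) P.2
          (zpowers_le.2 (n ^ (2 * k + 1)).2)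
      have hmem : ((n ^ (2 * k + 1) : Nm) : PS) ∈ (P : Subgroup PS) := by
        rw [← P.is_maximal' hQ le_sup_right]
        exact mem_sup_left (mem_zpowers _)
      refine Equiv.ext fun x => Subtype.ext (Subtype.ext ?_)
      obtain ⟨⟨x, hx⟩, hx1⟩ := x
      rw [hρ]
      have := congrArg Subtype.val (hcomm.is_comm.comm ⟨_, hmem⟩ ⟨x, hx⟩)
      exact mul_inv_eq_of_eq_mul this
    have hodd' : Odd (Nat.card ρ.range) := by
      rw [← Nat.not_even_iff_odd]
      intro he
      obtain ⟨⟨_, n, rfl⟩, hσ⟩ := exists_prime_orderOf_dvd_card' (G := ρ.range) 2 (even_iff_two_dvd.1 he)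
      have h1 : ρ n * ρ n = 1 := by
        have := pow_orderOf_eq_one (⟨ρ n, n, rfl⟩ : ρ.range)
        rw [hσ, pow_two] at this
        exact congrArg Subtype.val this
      have h2 : (⟨ρ n, n, rfl⟩ : ρ.range) = 1 := Subtype.ext (htriv n h1)
      rw [h2, orderOf_one] at hσ
      exact absurd hσ (by norm_num)
    have hdvd : Nat.card ρ.range ∣ 6 := by
      have h3 : Nat.card {x : (P : Subgroup PS) // x ≠ 1} = 3 := by
        rw [Nat.card_eq_fintype_card, Fintype.card_subtype_compl, Fintype.card_subtype_eq,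
          ← Nat.card_eq_fintype_card, hK.card_four]
      have := Subgroup.card_subgroup_dvd_card ρ.range
      rwa [Nat.card_perm, h3] at this
    have hcyc : IsCyclic ρ.range := by
      have hle := Nat.le_of_dvd (by norm_num) hdvd
      rcases (show Nat.card ρ.range = 1 ∨ Nat.card ρ.range = 3 by
        obtain ⟨i, hi⟩ := hodd'
        rcases hdvd with ⟨c, hc⟩
        rw [hi] at hc hle ⊢
        have : i ≤ 2 := by omega
        interval_cases i <;> omega) with h1 | h1
      · have := (Nat.card_eq_one_iff_unique.1 h1).1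
        exact isCyclic_of_subsingleton
      · have : Fact (Nat.Prime 3) := ⟨Nat.prime_three⟩
        exact isCyclic_of_prime_card h1
    intro g hg k hk x hx
    rcases eq_or_ne x 1 with rfl | hx1
    · group
    have hx1' : (⟨x, hx⟩ : (P : Subgroup PS)) ≠ 1 := fun h1 => hx1 (congrArg Subtype.val h1)
    have := (IsCyclic.commGroup (α := ρ.range)).mul_comm ⟨_, ⟨g, hg⟩, rfl⟩ ⟨_, ⟨k, hk⟩, rfl⟩
    have h1 : ρ (⟨g, hg⟩ * ⟨k, hk⟩) = ρ (⟨k, hk⟩ * ⟨g, hg⟩) := by
      rw [map_mul, map_mul]; exact congrArg Subtype.val this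
    have h2 := congrArg Subtype.val (congrArg Subtype.val (Equiv.congr_fun h1 ⟨⟨x, hx⟩, hx1'⟩))
    rw [hρ, hρ] at h2
    exact h2

theorem normData_even (heven : Even (Fintype.card F)) (h4 : 4 ≤ Fintype.card F) (P : Sylow 2 PS) :
    NormData (P : Subgroup PS) := by
  classical
  have : Fact (Nat.Prime 2) := ⟨Nat.prime_two⟩
  obtain ⟨p, hp⟩ := CharP.exists F
  obtain ⟨n, hpp, hn⟩ := FiniteField.card F p
  have hp2 : p = 2 := by
    have : 2 ∣ p ^ (n : ℕ) := hn ▸ even_iff_two_dvd.1 heven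
    exact ((Nat.prime_dvd_prime_iff_eq Nat.prime_two hpp).1 (Nat.prime_two.dvd_of_dvd_pow this)).symm
  subst hp2
  obtain ⟨P₀, hP₀, hc⟩ := CfsgLib.ClassK.Push.exists_sylow_psl (F := F) (p := 2) hn
  obtain ⟨g, hg⟩ := MulAction.exists_smul_eq PS P₀ P
  suffices h0 : NormData (P₀ : Subgroup PS) by
    have h1 := h0.conj g
    rwa [show (P₀ : Subgroup PS).map (MulAut.conj g).toMonoidHom = (P : Subgroup PS) by
      rw [← hg, Sylow.smul_def, Sylow.pointwise_smul_def]; rfl] at h1
  have h2 : (2 : F) = 0 := CharTwo.two_eq_zero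
  have hmem : ∀ {x : PS}, x ∈ (P₀ : Subgroup PS) ↔ ∃ b, π (CfsgLib.Classical.uElt b) = x := by
    intro x
    rw [hP₀]
    constructor
    · rintro ⟨_, ⟨b, rfl⟩, rfl⟩; exact ⟨b, rfl⟩
    · rintro ⟨b, rfl⟩; exact ⟨_, ⟨b, rfl⟩, rfl⟩
  have hcen : ∀ z ∈ Subgroup.center SL(2, F), z = 1 := by
    intro z hz
    obtain ⟨r, hr, hrz⟩ := Matrix.SpecialLinearGroup.mem_center_iff.1 hz
    have hr1 : r = 1 := by
      rw [Fintype.card_fin] at hr
      have : (r - 1) ^ 2 = 0 := by linear_combination hr - (r - 1) * h2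
      exact sub_eq_zero.1 (sq_eq_zero_iff.1 this)
    refine Subtype.ext ?_
    rw [← hrz, hr1]
    simp
  have hπinj : Function.Injective π := by
    intro a b hab
    rw [QuotientGroup.mk'_eq_mk'] at hab
    obtain ⟨z, hz, he⟩ := hab
    rw [← he, hcen z hz, mul_one]
  have hconj : ∀ (A : SL(2, F)) (b : F), (A : Matrix (Fin 2) (Fin 2) F) 1 0 = 0 →
      A * CfsgLib.Classical.uElt b * A⁻¹ =
        CfsgLib.Classical.uElt ((A : Matrix (Fin 2) (Fin 2) F) 0 0 ^ 2 * b) := by
    intro A b h10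
    rw [mul_inv_eq_iff_eq_mul]
    refine Subtype.ext ?_
    have hdet : (A : Matrix (Fin 2) (Fin 2) F) 0 0 * (A : Matrix (Fin 2) (Fin 2) F) 1 1 = 1 := by
      have := A.2
      rw [Matrix.det_fin_two, h10, mul_zero, sub_zero] at this
      exact this
    rw [Matrix.SpecialLinearGroup.coe_mul, Matrix.SpecialLinearGroup.coe_mul,
      CfsgLib.Classical.uElt_val, CfsgLib.Classical.uElt_val]
    ext i j
    fin_cases i <;> fin_cases j <;> simp [Matrix.mul_apply, Fin.sum_univ_two, h10]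
    linear_combination (-(b * (A : Matrix (Fin 2) (Fin 2) F) 0 0)) * hdet
  refine ⟨?_, ?_, ?_, ?_⟩
  · rintro _ hx
    obtain ⟨b, rfl⟩ := hmem.1 hx
    rw [← map_mul, ← CfsgLib.Classical.uElt_add, show b + b = 0 by linear_combination b * h2,
      show CfsgLib.Classical.uElt (0 : F) = 1 from Matrix.SpecialLinearGroup.transvection_coeff_zero _,
      map_one]
  · rw [hc, ← hn]; exact h4
  · intro a ha ha1 b hb hb1
    obtain ⟨x, rfl⟩ := hmem.1 ha
    obtain ⟨y, rfl⟩ := hmem.1 hb
    have h0' : CfsgLib.Classical.uElt (0 : F) = 1 := Matrix.SpecialLinearGroup.transvection_coeff_zero _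
    have hx : x ≠ 0 := fun h => ha1 (by rw [h, h0', map_one])
    have hy : y ≠ 0 := fun h => hb1 (by rw [h, h0', map_one])
    obtain ⟨r, hr⟩ : IsSquare (y / x) :=
      FiniteField.isSquare_of_char_two (by rw [ringChar.eq F 2]) _
    have hr0 : r ≠ 0 := fun h => by
      rw [h, zero_mul, div_eq_zero_iff] at hr
      tauto
    let A : SL(2, F) := ⟨!![r, 0; 0, r⁻¹], by simp [Matrix.det_fin_two_of, hr0]⟩
    refine ⟨π A, mem_normalizer_iff.2 fun z => ?_, ?_⟩
    · have hfwd : ∀ {z}, z ∈ (P₀ : Subgroup PS) → π A * z * (π A)⁻¹ ∈ (P₀ : Subgroup PS) := by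
        intro z hz
        obtain ⟨b, rfl⟩ := hmem.1 hz
        rw [← map_inv, ← map_mul, ← map_mul, hconj A b rfl]
        exact hmem.2 ⟨_, rfl⟩
      refine ⟨hfwd, fun hz => ?_⟩
      obtain ⟨b, hb⟩ := hmem.1 hz
      refine hmem.2 ⟨r⁻¹ ^ 2 * b, ?_⟩
      let B : SL(2, F) := ⟨!![r⁻¹, 0; 0, r], by simp [Matrix.det_fin_two_of, hr0]⟩
      have hBA : B = A⁻¹ := by
        refine eq_inv_of_mul_eq_one_left (Subtype.ext ?_)
        rw [Matrix.SpecialLinearGroup.coe_mul]
        ext i j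
        fin_cases i <;> fin_cases j <;> simp [A, B, Matrix.mul_apply, Fin.sum_univ_two, hr0]
      have h1 := hconj B b rfl
      have h2 : (B : Matrix (Fin 2) (Fin 2) F) 0 0 = r⁻¹ := rfl
      rw [h2] at h1
      rw [← h1, map_mul, map_mul, map_inv, hb, hBA, map_inv, inv_inv]
      group
    · rw [← map_inv, ← map_mul, ← map_mul, hconj A x rfl,
        show (A : Matrix (Fin 2) (Fin 2) F) 0 0 = r from rfl]
      congr 2
      rw [pow_two, ← hr, div_mul_cancel₀ y hx]
  · intro g hg k hk x hx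
    obtain ⟨b, rfl⟩ := hmem.1 hx
    obtain ⟨A, rfl⟩ := QuotientGroup.mk'_surjective _ g
    obtain ⟨B, rfl⟩ := QuotientGroup.mk'_surjective _ k
    have h10 : ∀ A : SL(2, F), π A ∈ normalizer ((P₀ : Subgroup PS) : Set PS) →
        (A : Matrix (Fin 2) (Fin 2) F) 1 0 = 0 := by
      intro A hA
      obtain ⟨c, hc'⟩ := hmem.1 ((mem_normalizer_iff.1 hA _).1 (hmem.2 ⟨1, rfl⟩))
      rw [← map_inv, ← map_mul, ← map_mul] at hc'
      have h1 := hπinj hc'
      have h2 : A * CfsgLib.Classical.uElt (1 : F) = CfsgLib.Classical.uElt c * A :=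
        mul_inv_eq_iff_eq_mul.1 h1.symm
      have h3 := congrArg (fun M : SL(2, F) => (M : Matrix (Fin 2) (Fin 2) F) 1 1) h2
      simp [Matrix.mul_apply, Fin.sum_univ_two, CfsgLib.Classical.uElt_val] at h3
      exact h3
    have hA := h10 A hg
    have hB := h10 B hk
    simp only [← map_mul, ← map_inv]
    congr 1
    calc A * B * CfsgLib.Classical.uElt b * (A * B)⁻¹
        = A * (B * CfsgLib.Classical.uElt b * B⁻¹) * A⁻¹ := by group
      _ = CfsgLib.Classical.uElt ((A : Matrix (Fin 2) (Fin 2) F) 0 0 ^ 2 *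
            ((B : Matrix (Fin 2) (Fin 2) F) 0 0 ^ 2 * b)) := by rw [hconj B b hB, hconj A _ hA]
      _ = B * (A * CfsgLib.Classical.uElt b * A⁻¹) * B⁻¹ := by
          rw [hconj A b hA, hconj B _ hB]; congr 1; ring
      _ = _ := by group

/-- For `q ≡ ±1 (mod 8)` the Sylow `2`-subgroups are dihedral of order at least `8`. -/
theorem sylow_dihedral (hq : Fintype.card F % 8 = 1 ∨ Fintype.card F % 8 = 7) (P : Sylow 2 PS) :
    ∃ k, 4 ∣ k ∧ k ≠ 0 ∧ Nonempty (DihedralGroup k ≃* (P : Subgroup PS)) := by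
  classical
  have : Fact (Nat.Prime 2) := ⟨Nat.prime_two⟩
  have hodd : Odd (Fintype.card F) := Nat.odd_iff.2 (by omega)
  obtain ⟨k, hk1, hk, hQ⟩ := CfsgLib.Classical.sylow_two_sl_two (F := F) hodd
  have hk2 : 2 ≤ k := by
    have e := CfsgLib.Classical.factorization_card_sl_two (F := F) hodd
    rw [hk] at e
    have key : ∀ n, n ≠ 0 → n % 8 = 0 → 3 ≤ n.factorization 2 := fun n hn0 hn =>
      (Nat.Prime.pow_dvd_iff_le_factorization Nat.prime_two hn0).1 (Nat.dvd_of_mod_eq_zero hn)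
    have hF1 := Fintype.one_lt_card (α := F)
    rcases hq with h | h
    · have := key (Fintype.card F - 1) (by omega) (by omega)
      have h2 := CfsgLib.Classical.factorization_two_of_mod_four (n := Fintype.card F + 1) (by omega)
      omega
    · have := key (Fintype.card F + 1) (by omega) (by omega)
      have h2 := CfsgLib.Classical.factorization_two_of_mod_four (n := Fintype.card F - 1) (by omega)
      omega
  refine ⟨2 ^ k, ?_, by positivity, ?_⟩
  · exact (pow_dvd_pow 2 hk2 : 2 ^ 2 ∣ 2 ^ k)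
  obtain ⟨S⟩ : Nonempty (Sylow 2 SL(2, F)) := inferInstance
  obtain ⟨e⟩ := hQ S
  have hπ : Function.Surjective π := QuotientGroup.mk'_surjective _
  haveI : NeZero (2 ^ k) := ⟨by positivity⟩
  let ψ : QuaternionGroup (2 ^ k) →* DihedralGroup (2 ^ k) :=
    { toFun := fun x => match x with
        | .a i => .r (ZMod.castHom (dvd_mul_left (2 ^ k) 2) (ZMod (2 ^ k)) i)
        | .xa i => .sr (ZMod.castHom (dvd_mul_left (2 ^ k) 2) (ZMod (2 ^ k)) i)
      map_one' := by
        show DihedralGroup.r _ = _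
        rw [map_zero, DihedralGroup.r_zero]
      map_mul' := by
        rintro (i | i) (j | j) <;>
          simp only [QuaternionGroup.a_mul_a, QuaternionGroup.a_mul_xa, QuaternionGroup.xa_mul_a,
            QuaternionGroup.xa_mul_xa, DihedralGroup.r_mul_r, DihedralGroup.r_mul_sr,
            DihedralGroup.sr_mul_r, DihedralGroup.sr_mul_sr, map_add, map_sub, map_natCast]
        simp }
  have hψ : Function.Surjective ψ := by
    rintro (i | i) <;> obtain ⟨j, rfl⟩ := ZMod.castHom_surjective (dvd_mul_left (2 ^ k) 2) i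
    · exact ⟨.a j, rfl⟩
    · exact ⟨.xa j, rfl⟩
  -- both maps kill the unique involution
  let φ : (S : Subgroup SL(2, F)) →* (S : Subgroup SL(2, F)).map π :=
    (π).subgroupMap _
  have hφ : Function.Surjective φ := MonoidHom.subgroupMap_surjective _ _
  have hker1 : ∀ q : QuaternionGroup (2 ^ k), ψ q = 1 → q * q = 1 := by
    rintro (i | i) hq
    · have h1 : (ZMod.castHom (dvd_mul_left (2 ^ k) 2) (ZMod (2 ^ k))) i = 0 := by
        rw [← DihedralGroup.r_zero] at hq
        exact DihedralGroup.r.inj hq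
      rw [ZMod.castHom_apply, ← ZMod.natCast_val, ZMod.natCast_eq_zero_iff] at h1
      obtain ⟨c, hc⟩ := h1
      rw [QuaternionGroup.a_mul_a, ← QuaternionGroup.a_zero]
      congr 1
      rw [← ZMod.natCast_zmod_val i, hc, ← Nat.cast_add, ZMod.natCast_eq_zero_iff]
      exact ⟨c, by ring⟩
    · rw [← DihedralGroup.r_zero] at hq
      exact DihedralGroup.noConfusion rfl (heq_of_eq hq)
  have hcenker : ∀ s : (S : Subgroup SL(2, F)), φ s = 1 ↔ s * s = 1 := by
    intro s
    have h2 : (2 : F) ≠ 0 := CfsgLib.Fusion.two_ne_zero_of_odd hodd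
    constructor
    · intro h1
      have h1' : (s : SL(2, F)) ∈ Subgroup.center SL(2, F) :=
        (QuotientGroup.eq_one_iff _).1 (congrArg Subtype.val h1)
      obtain ⟨r, hr, hrs⟩ := Matrix.SpecialLinearGroup.mem_center_iff.1 h1'
      refine Subtype.ext (Subtype.ext ?_)
      rw [Subgroup.coe_mul, Matrix.SpecialLinearGroup.coe_mul, ← hrs, ← map_mul, ← pow_two,
        show r ^ 2 = 1 by rwa [Fintype.card_fin] at hr, map_one]
      rfl
    · intro h1
      refine Subtype.ext ((QuotientGroup.eq_one_iff _).2 ?_)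
      refine Subgroup.mem_center_iff.2 fun g => Subtype.ext ?_
      rcases (CfsgLib.KnownB.SL2.mul_self_eq_one_iff_center h2).1 (congrArg Subtype.val h1) with
        e' | e' <;> simp [e']
  have hqker : ∀ q : QuaternionGroup (2 ^ k), q * q = 1 → ψ q = 1 := by
    rintro (i | i) hq
    · rw [QuaternionGroup.a_mul_a, ← QuaternionGroup.a_zero] at hq
      have h1 := QuaternionGroup.a.inj hq
      rw [← ZMod.natCast_zmod_val i, ← Nat.cast_add, ZMod.natCast_eq_zero_iff] at h1
      show DihedralGroup.r _ = 1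
      rw [← DihedralGroup.r_zero]
      congr 1
      rw [ZMod.castHom_apply, ← ZMod.natCast_val, ZMod.natCast_eq_zero_iff]
      obtain ⟨c, hc⟩ := h1
      exact ⟨c, by linarith⟩
    · exfalso
      have h1 : QuaternionGroup.xa i ^ 2 = (1 : QuaternionGroup (2 ^ k)) := by rw [pow_two]; exact hq
      have := Nat.le_of_dvd (by norm_num) (orderOf_dvd_of_pow_eq_one h1)
      rw [QuaternionGroup.orderOf_xa] at this
      omega
  have hk' : (ψ.comp e.toMonoidHom).ker = φ.ker := by
    ext s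
    rw [MonoidHom.mem_ker, MonoidHom.mem_ker, hcenker, MonoidHom.comp_apply]
    constructor
    · intro h1
      exact e.injective (by rw [map_mul, map_one]; exact hker1 _ h1)
    · intro h1
      exact hqker _ (by
        rw [← map_mul, h1, map_one])
  have e1 : DihedralGroup (2 ^ k) ≃* (S : Subgroup SL(2, F)).map π :=
    (QuotientGroup.quotientKerEquivOfSurjective (ψ.comp e.toMonoidHom)
      (hψ.comp e.surjective)).symm.trans ((QuotientGroup.quotientMulEquivOfEq hk').trans
        (QuotientGroup.quotientKerEquivOfSurjective φ hφ))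
  have e2 := Sylow.equiv (S.mapSurjective hπ) P
  exact ⟨(e1.trans (MulEquiv.subgroupCongr (Sylow.coe_mapSurjective hπ S).symm)).trans e2⟩

end CfsgLib.TimesPSL
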