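import Cfsg.Agent.Lib.TimesPSL.CaseDihedral
import Cfsg.Agent.Lib.TimesPSL.Elem
import Cfsg.Agent.Lib.TimesPSL.PSLSylow
import Cfsg.Agent.Lib.Fusion.QuotientLift
import Cfsg.Agent.Lib.Solvable.PCore
import Cfsg.Prelude.Def_CaseTheorems

/-!
# From the quotient of the centralizer by its odd core to the local setups
-/

namespace CfsgLib.TimesPSL

open Subgroup

variable {G : Type*} [Group G]

instance oddCore_normal (C : Type*) [Group C] : (Cfsg.oddCore C).Normal :=
  CfsgLib.Solvable.pPrimeCore_normal 2 C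

/-- The data extracted from the structure of the centralizer modulo its odd core. -/
structure Ctx {L : Type*} [Group L] (t : G) (tc : (Subgroup.centralizer ({t} : Set G))) (P : Sylow 2 (Subgroup.centralizer ({t} : Set G)))
    (j : L →* (Subgroup.centralizer ({t} : Set G)) ⧸ Cfsg.oddCore (Subgroup.centralizer ({t} : Set G))) (PL : Sylow 2 L) : Prop where
  htc : (tc : G) = t
  htP : tc ∈ (P : Subgroup (Subgroup.centralizer ({t} : Set G)))
  hinj : Function.Injective j
  hnorm : j.range.Normal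
  hinjP : ∀ x ∈ (P : Subgroup (Subgroup.centralizer ({t} : Set G))), ∀ y ∈ (P : Subgroup (Subgroup.centralizer ({t} : Set G))),
    QuotientGroup.mk' (Cfsg.oddCore (Subgroup.centralizer ({t} : Set G))) x = QuotientGroup.mk' (Cfsg.oddCore (Subgroup.centralizer ({t} : Set G))) y → x = y
  hsplit : ∀ x ∈ (P : Subgroup (Subgroup.centralizer ({t} : Set G))), QuotientGroup.mk' (Cfsg.oddCore (Subgroup.centralizer ({t} : Set G))) x ∈ j.range ∨
    QuotientGroup.mk' (Cfsg.oddCore (Subgroup.centralizer ({t} : Set G))) (tc * x) ∈ j.range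
  htj : QuotientGroup.mk' (Cfsg.oddCore (Subgroup.centralizer ({t} : Set G))) tc ∉ j.range
  hPL : ∀ l : L, l ∈ (PL : Subgroup L) ↔
    j l ∈ (P : Subgroup (Subgroup.centralizer ({t} : Set G))).map (QuotientGroup.mk' (Cfsg.oddCore (Subgroup.centralizer ({t} : Set G))))

theorem z2_cases : ∀ a : Multiplicative (ZMod 2), a = 1 ∨ a = Multiplicative.ofAdd 1 := by decide

theorem z2_mul : (Multiplicative.ofAdd 1 : Multiplicative (ZMod 2)) * Multiplicative.ofAdd 1 = 1 := by
  decide

theorem z2_ne : (1 : Multiplicative (ZMod 2)) ≠ Multiplicative.ofAdd 1 := by decide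

theorem exists_ctx [Finite G] {L : Type*} [Group L] [Finite L] [IsSimpleGroup L]
    (hLc : ¬ IsMulCommutative L) {t : G} (ht : orderOf t = 2)
    (hL : Nonempty (↥(Subgroup.closure {x : (↥(Subgroup.centralizer ({t} : Set G)) ⧸ Cfsg.oddCore ↥(Subgroup.centralizer ({t} : Set G))) |
      ∃ k : ℕ, orderOf x = 2 ^ k}) ≃* (Multiplicative (ZMod 2) × L))) :
    ∃ (tc : (Subgroup.centralizer ({t} : Set G))) (P : Sylow 2 (Subgroup.centralizer ({t} : Set G))) (j : L →* (Subgroup.centralizer ({t} : Set G)) ⧸ Cfsg.oddCore (Subgroup.centralizer ({t} : Set G)))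
      (PL : Sylow 2 L), Ctx t tc P j PL := by
  classical
  have : Fact (Nat.Prime 2) := ⟨Nat.prime_two⟩
  set O := Cfsg.oddCore (Subgroup.centralizer ({t} : Set G))
  set p := QuotientGroup.mk' O with hp
  obtain ⟨e⟩ := hL
  set K := Subgroup.closure {x : (Subgroup.centralizer ({t} : Set G)) ⧸ O | ∃ k : ℕ, orderOf x = 2 ^ k}
  have hKn : K.Normal := by
    refine ⟨fun x hx g => ?_⟩
    have : K ≤ K.comap (MulAut.conj g).toMonoidHom := (Subgroup.closure_le _).2 fun y ⟨k, hk⟩ =>
      Subgroup.subset_closure ⟨k, (MulEquiv.orderOf_eq (MulAut.conj g) y).trans hk⟩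
    exact this hx
  let j : L →* (Subgroup.centralizer ({t} : Set G)) ⧸ O :=
    K.subtype.comp (e.symm.toMonoidHom.comp (MonoidHom.inr (Multiplicative (ZMod 2)) L))
  have hj : Function.Injective j := by
    intro a b hab
    have := e.symm.injective (Subtype.ext hab : e.symm (1, a) = e.symm (1, b))
    exact congrArg Prod.snd this
  have hjmem : ∀ y : K, (e y).1 = 1 → (y : (Subgroup.centralizer ({t} : Set G)) ⧸ O) ∈ j.range := fun y hy =>
    ⟨(e y).2, by
      show ((e.symm (1, (e y).2) : K) : (Subgroup.centralizer ({t} : Set G)) ⧸ O) = y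
      rw [show ((1 : Multiplicative (ZMod 2)), (e y).2) = e y from Prod.ext hy.symm rfl,
        e.symm_apply_apply]⟩
  have hjn : j.range.Normal := by
    refine ⟨?_⟩
    rintro _ ⟨l, rfl⟩ g
    let f : L →* Multiplicative (ZMod 2) := (MonoidHom.fst _ L).comp
      (e.toMonoidHom.comp ((MulAut.conjNormal g : MulAut K).toMonoidHom.comp
        (e.symm.toMonoidHom.comp (MonoidHom.inr (Multiplicative (ZMod 2)) L))))
    have h1 := hjmem (MulAut.conjNormal g (e.symm (1, l))) (hom_trivial hLc f l)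
    rwa [MulAut.conjNormal_apply] at h1
  let tc : (Subgroup.centralizer ({t} : Set G)) := ⟨t, mem_centralizer_singleton_iff.2 rfl⟩
  have htc2 : tc ^ 2 = 1 := Subtype.ext (by show t ^ 2 = 1; rw [← ht]; exact pow_orderOf_eq_one t)
  have htc1 : tc ≠ 1 := fun h => by
    have := congrArg Subtype.val h
    rw [show t = (1 : G) from this, orderOf_one] at ht
    omega
  have htcen : ∀ x : (Subgroup.centralizer ({t} : Set G)), x * tc = tc * x := fun x =>
    Subtype.ext (mem_centralizer_singleton_iff.1 x.2)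
  obtain ⟨P⟩ : Nonempty (Sylow 2 (Subgroup.centralizer ({t} : Set G))) := inferInstance
  have htP : tc ∈ (P : Subgroup (Subgroup.centralizer ({t} : Set G))) := by
    have hQ : IsPGroup 2 (zpowers tc ⊔ (P : Subgroup (Subgroup.centralizer ({t} : Set G))) : Subgroup (Subgroup.centralizer ({t} : Set G))) :=
      IsPGroup.to_sup_of_normal_right' (IsPGroup.of_card_dvd_pow (n := 1) (by
        rw [Nat.card_zpowers]; exact orderOf_dvd_of_pow_eq_one htc2)) P.2
        (zpowers_le.2 (mem_normalizer_iff.2 fun x => by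
          rw [← htcen x, mul_inv_cancel_right]))
    rw [← P.is_maximal' hQ le_sup_right]
    exact mem_sup_left (mem_zpowers _)
  have hker : ∀ x ∈ (P : Subgroup (Subgroup.centralizer ({t} : Set G))), p x = 1 → x = 1 := by
    intro x hx h1
    have h2 : x ∈ O := (QuotientGroup.eq_one_iff x).1 h1
    obtain ⟨n, hn⟩ := IsPGroup.iff_orderOf.1 P.2 ⟨x, hx⟩
    rw [Subgroup.orderOf_mk] at hn
    have h3 : orderOf x ∣ Nat.card O := Subgroup.orderOf_dvd_natCard _ h2
    have h4 := Nat.eq_one_of_dvd_coprimes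
      ((CfsgLib.Solvable.pPrimeCore_coprime (G := (Subgroup.centralizer ({t} : Set G))) 2).pow_right n) h3 (hn ▸ dvd_refl _)
    exact orderOf_eq_one_iff.1 h4
  have hinjP : ∀ x ∈ (P : Subgroup (Subgroup.centralizer ({t} : Set G))), ∀ y ∈ (P : Subgroup (Subgroup.centralizer ({t} : Set G))), p x = p y → x = y := by
    intro x hx y hy h
    exact mul_inv_eq_one.1 (hker _ (mul_mem hx (inv_mem hy)) (by rw [map_mul, map_inv, h,
      mul_inv_cancel]))
  let Pb : Sylow 2 ((Subgroup.centralizer ({t} : Set G)) ⧸ O) := P.mapSurjective (QuotientGroup.mk'_surjective O)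
  have hPb : (Pb : Subgroup ((Subgroup.centralizer ({t} : Set G)) ⧸ O)) = (P : Subgroup (Subgroup.centralizer ({t} : Set G))).map p :=
    Sylow.coe_mapSurjective _ P
  have hPK : ∀ y ∈ (P : Subgroup (Subgroup.centralizer ({t} : Set G))).map p, y ∈ K := fun y hy => by
    obtain ⟨n, hn⟩ := IsPGroup.iff_orderOf.1 (P.2.map p) ⟨y, hy⟩
    rw [Subgroup.orderOf_mk] at hn
    exact Subgroup.subset_closure ⟨n, hn⟩
  have htK : p tc ∈ K := hPK _ (mem_map_of_mem p htP)
  have htbar : e ⟨p tc, htK⟩ = (Multiplicative.ofAdd 1, 1) := by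
    have hc : ∀ y : K, y * ⟨p tc, htK⟩ = ⟨p tc, htK⟩ * y := by
      rintro ⟨y, hy⟩
      obtain ⟨x, rfl⟩ := QuotientGroup.mk'_surjective O y
      exact Subtype.ext (by
        show p x * p tc = p tc * p x
        rw [← map_mul, ← map_mul, htcen])
    have hz : (e ⟨p tc, htK⟩).2 ∈ Subgroup.center L := Subgroup.mem_center_iff.2 fun g => by
      have := congrArg Prod.snd (congrArg e (hc (e.symm (1, g))))
      simpa using this
    have hbot : Subgroup.center L = ⊥ := by
      rcases IsSimpleGroup.eq_bot_or_eq_top_of_normal (Subgroup.center L) inferInstance with h | h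
      · exact h
      · exact absurd ⟨⟨fun a b => ((Subgroup.mem_center_iff.1 (h ▸ mem_top b)) a)⟩⟩ hLc
    rw [hbot, mem_bot] at hz
    refine Prod.ext ((z2_cases _).resolve_left fun h1 => ?_) hz
    have : (⟨p tc, htK⟩ : K) = 1 := e.injective (by rw [map_one]; exact Prod.ext h1 hz)
    exact htc1 (hker _ htP (congrArg Subtype.val this))
  have hsplit : ∀ x ∈ (P : Subgroup (Subgroup.centralizer ({t} : Set G))), p x ∈ j.range ∨ p (tc * x) ∈ j.range := by
    intro x hx
    have hxK := hPK _ (mem_map_of_mem p hx)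
    rcases z2_cases (e ⟨p x, hxK⟩).1 with h | h
    · exact Or.inl (hjmem _ h)
    · refine Or.inr ?_
      rw [map_mul]
      refine hjmem (⟨p tc, htK⟩ * ⟨p x, hxK⟩) ?_
      rw [map_mul, htbar, Prod.fst_mul, h]
      exact z2_mul
  have htj : p tc ∉ j.range := by
    rintro ⟨l, hl⟩
    have h1 : (e.symm (1, l) : K) = ⟨p tc, htK⟩ := Subtype.ext hl
    have := congrArg (fun y => (e y).1) h1
    simp only [e.apply_symm_apply, htbar] at this
    exact absurd (show (1 : Multiplicative (ZMod 2)) = Multiplicative.ofAdd 1 from this)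
      z2_ne
  let Q₀ : Subgroup L := ((P : Subgroup (Subgroup.centralizer ({t} : Set G))).map p).comap j
  have hQ₀ : IsPGroup 2 Q₀ := (P.2.map p).comap_of_injective j hj
  obtain ⟨PL, hPL⟩ := hQ₀.exists_le_sylow
  have hPLeq : ∀ l : L, l ∈ (PL : Subgroup L) ↔ j l ∈ (P : Subgroup (Subgroup.centralizer ({t} : Set G))).map p := by
    have hQ : IsPGroup 2 (zpowers (p tc) ⊔ (PL : Subgroup L).map j : Subgroup ((Subgroup.centralizer ({t} : Set G)) ⧸ O)) :=
      IsPGroup.to_sup_of_normal_right' (IsPGroup.of_card_dvd_pow (n := 1) (by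
        rw [Nat.card_zpowers]; exact orderOf_dvd_of_pow_eq_one (by
          rw [pow_one, ← map_pow, htc2, map_one]))) (PL.2.map j)
        (zpowers_le.2 (mem_normalizer_iff.2 fun y => by
          obtain ⟨x, rfl⟩ := QuotientGroup.mk'_surjective O y
          rw [← map_inv, ← map_mul, ← map_mul, ← htcen x, mul_inv_cancel_right]))
    have hle : (Pb : Subgroup ((Subgroup.centralizer ({t} : Set G)) ⧸ O)) ≤ zpowers (p tc) ⊔ (PL : Subgroup L).map j := by
      rw [hPb]
      rintro _ ⟨x, hx, rfl⟩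
      rcases hsplit x hx with ⟨l, hl⟩ | ⟨l, hl⟩
      · rw [← hl]
        exact mem_sup_right (mem_map_of_mem j (hPL (show j l ∈ _ from hl ▸ mem_map_of_mem p hx)))
      · have hm : j l ∈ (P : Subgroup (Subgroup.centralizer ({t} : Set G))).map p :=
          hl ▸ mem_map_of_mem p (mul_mem htP hx)
        rw [show p x = (p tc)⁻¹ * j l by rw [hl, map_mul, inv_mul_cancel_left]]
        exact mul_mem (inv_mem (mem_sup_left (mem_zpowers _))) (mem_sup_right (mem_map_of_mem j (hPL hm)))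
    intro l
    refine ⟨fun hl => ?_, fun hl => hPL hl⟩
    rw [← hPb, ← Pb.is_maximal' hQ hle]
    exact mem_sup_right (mem_map_of_mem j hl)
  exact ⟨tc, P, j, PL, rfl, htP, hj, hjn, hinjP, hsplit, htj, hPLeq⟩

/-- The image in `G` of a Sylow subgroup of the centralizer. -/
abbrev tSub {t : G} (P : Sylow 2 (Subgroup.centralizer ({t} : Set G))) : Subgroup G :=
  Subgroup.map (Subgroup.subtype (Subgroup.centralizer ({t} : Set G))) (P : Subgroup (Subgroup.centralizer ({t} : Set G)))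

/-- The part of that subgroup mapping into the range of `j`. -/
abbrev uSub {L : Type*} [Group L] {t : G} (P : Sylow 2 (Subgroup.centralizer ({t} : Set G)))
    (j : L →* (Subgroup.centralizer ({t} : Set G)) ⧸ Cfsg.oddCore (Subgroup.centralizer ({t} : Set G))) : Subgroup G :=
  Subgroup.map (Subgroup.subtype (Subgroup.centralizer ({t} : Set G)))
    ((P : Subgroup (Subgroup.centralizer ({t} : Set G))) ⊓ j.range.comap (QuotientGroup.mk' (Cfsg.oddCore (Subgroup.centralizer ({t} : Set G)))))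

section

variable [Finite G] {L : Type*} [Group L] [Finite L] {t : G} {tc : (Subgroup.centralizer ({t} : Set G))} {P : Sylow 2 (Subgroup.centralizer ({t} : Set G))}
  {j : L →* (Subgroup.centralizer ({t} : Set G)) ⧸ Cfsg.oddCore (Subgroup.centralizer ({t} : Set G))} {PL : Sylow 2 L}

theorem Ctx.base (h : Ctx t tc P j PL) (ht : orderOf t = 2) : Base t (tSub P) := by
  have : Fact (Nat.Prime 2) := ⟨Nat.prime_two⟩
  refine ⟨ht, ⟨tc, h.htP, h.htc⟩, Subgroup.map_subtype_le _, P.2.map _, ?_⟩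
  rw [Subgroup.relIndex, Subgroup.subgroupOf, Subgroup.comap_map_eq_self_of_injective (Subgroup.subtype_injective _)]
  exact Nat.odd_iff.2 (Nat.two_dvd_ne_zero.1 P.not_dvd_index)

theorem Ctx.tU (h : Ctx t tc P j PL) : t ∉ (uSub P j) := by
  rintro ⟨x, hx, hxt⟩
  rw [show x = tc from Subtype.ext (hxt.trans h.htc.symm)] at hx
  exact h.htj hx.2

theorem Ctx.split (h : Ctx t tc P j PL) {x : G} (hx : x ∈ (tSub P)) : x ∈ (uSub P j) ∨ t * x ∈ (uSub P j) := by
  obtain ⟨y, hy, rfl⟩ := hx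
  rcases h.hsplit y hy with h1 | h1
  · exact Or.inl ⟨y, ⟨hy, h1⟩, rfl⟩
  · exact Or.inr ⟨tc * y, ⟨mul_mem h.htP hy, h1⟩, by rw [map_mul]; congr 1; exact h.htc⟩

theorem Ctx.uiso (h : Ctx t tc P j PL) : Nonempty ((PL : Subgroup L) ≃* ((uSub P j) : Subgroup G)) := by
  set p := QuotientGroup.mk' (Cfsg.oddCore (Subgroup.centralizer ({t} : Set G)))
  set Uc : Subgroup (Subgroup.centralizer ({t} : Set G)) := (P : Subgroup (Subgroup.centralizer ({t} : Set G))) ⊓ j.range.comap p with hUc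
  have himg : Uc.map p = (PL : Subgroup L).map j := by
    ext y
    constructor
    · rintro ⟨x, ⟨hx, l, hl⟩, rfl⟩
      exact ⟨l, (h.hPL l).2 (hl ▸ mem_map_of_mem p hx), hl⟩
    · rintro ⟨l, hl, rfl⟩
      obtain ⟨x, hx, hxl⟩ := (h.hPL l).1 hl
      exact ⟨x, ⟨hx, l, hxl.symm⟩, hxl⟩
  have hbij : Function.Bijective (p.subgroupMap Uc) :=
    ⟨fun a b hab => Subtype.ext (h.hinjP a a.2.1 b b.2.1 (congrArg Subtype.val hab)),
      MonoidHom.subgroupMap_surjective p Uc⟩
  exact ⟨((((PL : Subgroup L).equivMapOfInjective j h.hinj).trans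
    (MulEquiv.subgroupCongr himg.symm)).trans (MulEquiv.ofBijective _ hbij).symm).trans
      (Uc.equivMapOfInjective _ (Subgroup.subtype_injective _))⟩

omit [Finite G] [Finite L] in
theorem Ctx.exists_pre (h : Ctx t tc P j PL) {u : G} (hu : u ∈ (uSub P j)) :
    ∃ x : (Subgroup.centralizer ({t} : Set G)), x ∈ (P : Subgroup (Subgroup.centralizer ({t} : Set G))) ∧ (x : G) = u ∧
      ∃ l ∈ (PL : Subgroup L), QuotientGroup.mk' (Cfsg.oddCore (Subgroup.centralizer ({t} : Set G))) x = j l := by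
  obtain ⟨x, ⟨hx, l, hl⟩, rfl⟩ := hu
  exact ⟨x, hx, rfl, l, (h.hPL l).2 (hl ▸ mem_map_of_mem _ hx), hl.symm⟩

theorem Ctx.dsetup (h : Ctx t tc P j PL) (ht : orderOf t = 2) {k : ℕ} (hk : 4 ∣ k) (hk0 : k ≠ 0)
    (hiso : Nonempty (DihedralGroup k ≃* (PL : Subgroup L)))
    (hconj : ∀ a b : L, a * a = 1 → a ≠ 1 → b * b = 1 → b ≠ 1 → IsConj a b) :
    DSetup t (tSub P) (uSub P j) k := by
  have B := h.base ht
  obtain ⟨e⟩ := h.uiso
  obtain ⟨d⟩ := hiso
  refine ⟨B, Subgroup.map_mono inf_le_left, h.tU, fun x hx => ?_, hk, hk0, ⟨d.trans e⟩, ?_⟩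
  · rw [B.comm hx]; exact h.split hx
  intro a ha b hb ha2 ha1 hb2 hb1
  have : Fact (Nat.Prime 2) := ⟨Nat.prime_two⟩
  obtain ⟨x, hx, rfl, la, hla, hxa⟩ := h.exists_pre ha
  obtain ⟨y, hy, rfl, lb, hlb, hyb⟩ := h.exists_pre hb
  set p := QuotientGroup.mk' (Cfsg.oddCore (Subgroup.centralizer ({t} : Set G)))
  have hinv : ∀ (x : (Subgroup.centralizer ({t} : Set G))) (l : L), x ∈ (P : Subgroup (Subgroup.centralizer ({t} : Set G))) → p x = j l →
      (x : G) * x = 1 → (x : G) ≠ 1 → l * l = 1 ∧ l ≠ 1 := by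
    intro x l hx hxl h2 h1
    refine ⟨h.hinj ?_, fun hl => h1 ?_⟩
    · rw [map_mul, map_one, ← hxl, ← map_mul, show x * x = 1 from Subtype.ext h2, map_one]
    · rw [hl, map_one] at hxl
      exact congrArg Subtype.val (h.hinjP x hx 1 (one_mem _) (hxl.trans (map_one p).symm))
  obtain ⟨ha2', ha1'⟩ := hinv x la hx hxa ha2 ha1
  obtain ⟨hb2', hb1'⟩ := hinv y lb hy hyb hb2 hb1
  obtain ⟨l, hl⟩ := isConj_iff.1 (hconj la lb ha2' ha1' hb2' hb1')
  have hγ : j l * p x * (j l)⁻¹ = p y := by rw [hxa, hyb, ← hl, map_mul, map_mul, map_inv]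
  obtain ⟨c, hc, hcx⟩ := CfsgLib.Fusion.exists_lift_conj_quotient P (Cfsg.oddCore (Subgroup.centralizer ({t} : Set G)))
    (Q := zpowers x) (zpowers_le.2 hx) (j l) (fun z hz => by
      obtain ⟨n, rfl⟩ := mem_zpowers_iff.1 hz
      rw [map_zpow, ← conj_zpow, hγ, ← map_zpow]
      exact mem_map_of_mem _ (zpow_mem hy n))
  refine ⟨c, mem_centralizer_singleton_iff.1 c.2, congrArg Subtype.val
    (h.hinjP _ (hcx x (mem_zpowers x)) y hy ?_)⟩
  rw [map_mul, map_mul, map_inv, hc]
  exact hγ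

theorem Ctx.esetup (h : Ctx t tc P j PL) (ht : orderOf t = 2)
    (hN : NormData (PL : Subgroup L)) :
    ESetup t (tSub P) (uSub P j) (Subgroup.map (Subgroup.subtype (Subgroup.centralizer ({t} : Set G)))
      (normalizer ((P : Subgroup (Subgroup.centralizer ({t} : Set G))) : Set (Subgroup.centralizer ({t} : Set G))) ⊓
        j.range.comap (QuotientGroup.mk' (Cfsg.oddCore (Subgroup.centralizer ({t} : Set G)))))) := by
  have : Fact (Nat.Prime 2) := ⟨Nat.prime_two⟩
  have B := h.base ht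
  have hn := h.hnorm
  set p := QuotientGroup.mk' (Cfsg.oddCore (Subgroup.centralizer ({t} : Set G)))
  have hnormP : ∀ g : (Subgroup.centralizer ({t} : Set G)), (∀ x ∈ (tSub P), (g : G) * x * (g : G)⁻¹ ∈ (tSub P)) →
      g ∈ normalizer ((P : Subgroup (Subgroup.centralizer ({t} : Set G))) : Set (Subgroup.centralizer ({t} : Set G))) := fun g hg =>
    mem_normalizer_of_conj fun x hx => by
      obtain ⟨y, hy, hxy⟩ := hg _ (mem_map_of_mem _ hx)
      rw [← show y = g * x * g⁻¹ from Subtype.ext hxy]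
      exact hy
  have hjn : ∀ (d : (Subgroup.centralizer ({t} : Set G))) (l : L), d ∈ normalizer ((P : Subgroup (Subgroup.centralizer ({t} : Set G))) : Set (Subgroup.centralizer ({t} : Set G))) →
      p d = j l → l ∈ normalizer ((PL : Subgroup L) : Set L) := by
    intro d l hd hdl
    refine mem_normalizer_of_conj fun m hm => ?_
    obtain ⟨x, hx, hxm⟩ := (h.hPL m).1 hm
    refine (h.hPL _).2 ⟨d * x * d⁻¹, (mem_normalizer_iff.1 hd x).1 hx, ?_⟩
    rw [map_mul, map_mul, map_mul, map_mul, map_inv, map_inv, hdl, hxm]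
  refine ⟨B, Subgroup.map_mono inf_le_left, h.tU, fun x hx => h.split hx, ?_, ?_, ?_, ?_, ?_, ?_,
    ?_, ?_⟩
  · rintro _ ⟨x, hx, rfl⟩
    rw [← map_mul, ← map_one (Subgroup.subtype (Subgroup.centralizer ({t} : Set G)))]
    congr 1
    refine h.hinjP _ (mul_mem hx hx) 1 (one_mem _) ?_
    have key : ∀ y ∈ (P : Subgroup (Subgroup.centralizer ({t} : Set G))), p y ∈ j.range → p y * p y = 1 := by
      rintro y hy ⟨l, hl⟩
      rw [← hl, ← map_mul, hN.hexp l ((h.hPL l).2 (hl ▸ mem_map_of_mem p hy)), map_one]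
    rw [map_mul, map_one]
    rcases h.hsplit x hx with h1 | h1
    · exact key x hx h1
    · have h2 := key (tc * x) (mul_mem h.htP hx) h1
      have hcomm : x * tc = tc * x := Subtype.ext (by
        show (x : G) * (tc : G) = (tc : G) * (x : G)
        rw [h.htc]; exact mem_centralizer_singleton_iff.1 x.2)
      have h3 : tc * tc = 1 := Subtype.ext (by
        show (tc : G) * (tc : G) = 1
        rw [h.htc]; exact B.tt)
      rw [← map_mul, show tc * x * (tc * x) = (tc * tc) * (x * x) by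
        rw [show tc * x * (tc * x) = tc * (x * tc) * x by group, hcomm]; group, h3, one_mul,
        map_mul] at h2
      exact h2
  · obtain ⟨e⟩ := h.uiso
    rw [← Nat.card_congr e.toEquiv]
    exact hN.h4
  · rintro g hgt hgT _ ⟨x, hx, rfl⟩
    refine ⟨⟨g, mem_centralizer_singleton_iff.2 hgt⟩ * x * ⟨g, mem_centralizer_singleton_iff.2 hgt⟩⁻¹,
      ⟨(mem_normalizer_iff.1 (hnormP ⟨g, _⟩ hgT) x).1 hx.1, ?_⟩, rfl⟩
    show p (_ * x * _) ∈ j.range
    rw [map_mul, map_mul, map_inv]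
    exact hn.conj_mem _ hx.2 _
  · rintro _ ⟨d, _, rfl⟩
    exact mem_centralizer_singleton_iff.1 d.2
  · rintro _ ⟨d, hd, rfl⟩ _ ⟨x, hx, rfl⟩
    exact ⟨d * x * d⁻¹, (mem_normalizer_iff.1 hd.1 x).1 hx, rfl⟩
  · rintro _ ⟨a, ⟨han, la, hla⟩, rfl⟩ _ ⟨b, ⟨hbn, lb, hlb⟩, rfl⟩ u hu
    obtain ⟨x, hx, rfl, m, hm, hxm⟩ := h.exists_pre hu
    refine congrArg Subtype.val (h.hinjP (a * b * x * (a * b)⁻¹)
      ((mem_normalizer_iff.1 (mul_mem han hbn) x).1 hx) (b * a * x * (b * a)⁻¹)
      ((mem_normalizer_iff.1 (mul_mem hbn han) x).1 hx) ?_)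
    have := congrArg j (hN.hcomm la (hjn a la han hla.symm) lb (hjn b lb hbn hlb.symm) m hm)
    simp only [map_mul, map_inv, hla, hlb, ← hxm] at this
    simp only [map_mul, map_inv]
    exact this
  · intro u hu hu1 v hv hv1
    obtain ⟨x, hx, rfl, la, hla, hxa⟩ := h.exists_pre hu
    obtain ⟨y, hy, rfl, lb, hlb, hyb⟩ := h.exists_pre hv
    have hne : ∀ (x : (Subgroup.centralizer ({t} : Set G))) (l : L), x ∈ (P : Subgroup (Subgroup.centralizer ({t} : Set G))) → p x = j l → (x : G) ≠ 1 →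
        l ≠ 1 := by
      intro x l hx hxl h1 hl
      rw [hl, map_one] at hxl
      exact h1 (congrArg Subtype.val (h.hinjP x hx 1 (one_mem _) (hxl.trans (map_one p).symm)))
    obtain ⟨l, hl, hle⟩ := hN.htrans la hla (hne x la hx hxa hu1) lb hlb (hne y lb hy hyb hv1)
    obtain ⟨d, hd, hdP⟩ := CfsgLib.Fusion.exists_lift_conj_quotient P (Cfsg.oddCore (Subgroup.centralizer ({t} : Set G)))
      (Q := (P : Subgroup (Subgroup.centralizer ({t} : Set G)))) le_rfl (j l) (fun z hz => by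
        rcases h.hsplit z hz with ⟨m, hm⟩ | ⟨m, hm⟩
        · rw [← hm, ← map_inv, ← map_mul, ← map_mul]
          exact (h.hPL _).1 ((mem_normalizer_iff.1 hl m).1 ((h.hPL m).2 (hm ▸ mem_map_of_mem p hz)))
        · obtain ⟨c, hc⟩ := QuotientGroup.mk'_surjective (Cfsg.oddCore (Subgroup.centralizer ({t} : Set G))) (j l)
          have hcomm : c * tc⁻¹ = tc⁻¹ * c := (Commute.inv_right (show Commute c tc from
            Subtype.ext (by
              show (c : G) * (tc : G) = (tc : G) * (c : G)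
              rw [h.htc]; exact mem_centralizer_singleton_iff.1 c.2))).eq
          have h1 : p z = p tc⁻¹ * j m := by rw [hm, ← map_mul, inv_mul_cancel_left]
          rw [h1, ← mul_assoc, ← hc, ← map_mul, hcomm, map_mul, hc, mul_assoc, mul_assoc]
          refine mul_mem (mem_map_of_mem p (inv_mem h.htP)) ?_
          rw [← mul_assoc, ← map_inv, ← map_mul, ← map_mul]
          exact (h.hPL _).1 ((mem_normalizer_iff.1 hl m).1
            ((h.hPL m).2 (hm ▸ mem_map_of_mem p (mul_mem h.htP hz)))))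
    refine ⟨d, mem_map_of_mem _ ⟨mem_normalizer_of_conj hdP, ⟨l, hd.symm⟩⟩, congrArg Subtype.val
      (h.hinjP _ (hdP x hx) y hy ?_)⟩
    rw [map_mul, map_mul, map_inv, hd, hxa, hyb, ← hle, map_mul, map_mul, map_inv]
  · rintro g hgt hgT _ ⟨d, ⟨hdn, hdl⟩, rfl⟩
    let gc : (Subgroup.centralizer ({t} : Set G)) := ⟨g, mem_centralizer_singleton_iff.2 hgt⟩
    refine ⟨g * d * g⁻¹, ⟨gc * d * gc⁻¹, ⟨Subgroup.mul_mem _ (Subgroup.mul_mem _ (hnormP gc hgT) hdn)
      (Subgroup.inv_mem _ (hnormP gc hgT)), ?_⟩, rfl⟩, fun u _ => rfl⟩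
    show p (gc * d * gc⁻¹) ∈ j.range
    rw [map_mul, map_mul, map_inv]
    exact hn.conj_mem _ hdl _

end

end CfsgLib.TimesPSL
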