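import Cfsg.Agent.Lib.TimesPSL.Elem

/-!
# Abelian subgroups inverted by `t`
-/

namespace CfsgLib.TimesPSL

open Subgroup

variable {G : Type*} [Group G]

/-- `R` is abelian, inverted by `t`, with `t R` in the class of `t`, and `r ↦ r ^ (2 ^ j)` maps
`R` onto `U` with kernel the squares. -/
structure Good (t : G) (T U Dg R : Subgroup G) (j : ℕ) : Prop where
  hcomm : ∀ a ∈ R, ∀ b ∈ R, a * b = b * a
  hUR : U ≤ R
  hinv : ∀ r ∈ R, t * r * t = r⁻¹
  hX : ∀ r ∈ R, IsConj t (t * r)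
  hXR : ∀ r ∈ R, ¬ IsConj t r
  hΩ : ∀ r ∈ R, r * r = 1 → r ∈ U
  hpow : ∀ r ∈ R, r ^ 2 ^ j ∈ U
  hsurj : ∀ u ∈ U, ∃ r ∈ R, r ^ 2 ^ j = u
  hker : ∀ r ∈ R, r ^ 2 ^ j = 1 → ∃ s ∈ R, s * s = r
  hD : ∀ d ∈ Dg, ∃ d' : G, d' * t = t * d' ∧ (∀ r ∈ R, d' * r * d'⁻¹ ∈ R) ∧
    ∀ u ∈ U, d' * u * d'⁻¹ = d * u * d⁻¹

/-- `R⟨t⟩`. -/
def Pg (t : G) (R : Subgroup G) (ht : t * t = 1) (hinv : ∀ r ∈ R, t * r * t = r⁻¹) :
    Subgroup G where
  carrier := {x | x ∈ R ∨ t * x ∈ R}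
  one_mem' := Or.inl R.one_mem
  mul_mem' := by
    intro x y hx hy
    have hconj : ∀ r ∈ R, t * r * t ∈ R := fun r hr => hinv r hr ▸ R.inv_mem hr
    rcases hx with hx | hx <;> rcases hy with hy | hy
    · exact Or.inl (R.mul_mem hx hy)
    · refine Or.inr ?_
      have e : t * (x * y) = t * x * t * (t * y) := by
        calc t * (x * y) = t * x * (1 * y) := by group
          _ = _ := by rw [← ht]; group
      rw [e]; exact R.mul_mem (hconj x hx) hy
    · exact Or.inr (by rw [← mul_assoc]; exact R.mul_mem hx hy)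
    · refine Or.inl ?_
      have e : x * y = t * (t * x) * t * (t * y) := by
        calc x * y = (t * t) * x * ((t * t) * y) := by rw [ht, one_mul, one_mul]
          _ = _ := by group
      rw [e]; exact R.mul_mem (hconj _ hx) hy
  inv_mem' := by
    intro x hx
    rcases hx with hx | hx
    · exact Or.inl (R.inv_mem hx)
    · refine Or.inr ?_
      have e : t * x⁻¹ = t * (t * x)⁻¹ * t := by
        rw [mul_inv_rev, inv_eq_of_mul_eq_one_right ht,
          show t * (x⁻¹ * t) * t = t * x⁻¹ * (t * t) by group, ht, mul_one]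
      rw [e]; exact hinv _ (R.inv_mem hx) ▸ R.inv_mem (R.inv_mem hx)

namespace Good

variable {t : G} {T U Dg R : Subgroup G} {j : ℕ}

theorem htR (g : Good t T U Dg R j) : t ∉ R := fun h => g.hXR t h (IsConj.refl t)

theorem tinv (h : ESetup t T U Dg) : t⁻¹ = t := inv_of_sq h.base.tt

/-- `R⟨t⟩` of a good subgroup. -/
def P (g : Good t T U Dg R j) (h : ESetup t T U Dg) : Subgroup G := Pg t R h.base.tt g.hinv

theorem mem_P (g : Good t T U Dg R j) (h : ESetup t T U Dg) {x : G} :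
    x ∈ g.P h ↔ x ∈ R ∨ t * x ∈ R := Iff.rfl

theorem R_le_P (g : Good t T U Dg R j) (h : ESetup t T U Dg) : R ≤ g.P h := fun _ hx => Or.inl hx

theorem t_mem_P (g : Good t T U Dg R j) (h : ESetup t T U Dg) : t ∈ g.P h :=
  Or.inr (h.base.tt.symm ▸ R.one_mem)

theorem T_le_P (g : Good t T U Dg R j) (h : ESetup t T U Dg) : T ≤ g.P h := fun x hx =>
  (h.hsplit x hx).imp (fun hU => g.hUR hU) (fun hU => g.hUR hU)

theorem out_P (g : Good t T U Dg R j) (h : ESetup t T U Dg) {x : G} (hx : x ∈ g.P h)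
    (hxR : x ∉ R) : ∃ r ∈ R, x = t * r :=
  ⟨t * x, hx.resolve_left hxR, by rw [← mul_assoc, h.base.tt, one_mul]⟩

theorem centR (g : Good t T U Dg R j) (h : ESetup t T U Dg) {r : G} (hr : r ∈ R)
    (hc : r * t = t * r) : r ∈ U := by
  refine g.hΩ r hr ?_
  have h1 := g.hinv r hr
  rw [← hc, mul_assoc, h.base.tt, mul_one] at h1
  conv_lhs => arg 1; rw [h1]
  exact inv_mul_cancel r

theorem conj_t (g : Good t T U Dg R j) (h : ESetup t T U Dg) {a : G} (ha : a ∈ R) :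
    a * t * a⁻¹ = t * (a⁻¹ * a⁻¹) := by
  have h1 := g.hinv a ha
  calc a * t * a⁻¹ = t * t * a * t * a⁻¹ := by rw [h.base.tt, one_mul]
    _ = t * (t * a * t) * a⁻¹ := by group
    _ = t * (a⁻¹ * a⁻¹) := by rw [h1]; group

theorem exponent (g : Good t T U Dg R j) (h : ESetup t T U Dg) {r : G} (hr : r ∈ R) :
    r ^ 2 ^ (j + 1) = 1 := by
  rw [pow_succ, pow_mul, pow_two]; exact h.hexp _ (h.hUT (g.hpow r hr))

theorem P_two (g : Good t T U Dg R j) (h : ESetup t T U Dg) : IsPGroup 2 (g.P h) := by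
  rintro ⟨x, hx⟩
  rcases hx with hx | hx
  · exact ⟨j + 1, Subtype.ext (by simpa using g.exponent h hx)⟩
  · refine ⟨1, Subtype.ext ?_⟩
    simp only [pow_one, pow_two, Subgroup.coe_mul, Subgroup.coe_one]
    have h1 := g.hinv _ hx
    calc x * x = (t * t) * x * ((t * t) * x) := by rw [h.base.tt, one_mul]
      _ = t * (t * x) * t * (t * x) := by group
      _ = 1 := by rw [h1, inv_mul_cancel]

theorem U_conj_mem (g : Good t T U Dg R j) (h : ESetup t T U Dg) {x : G}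
    (hx : ∀ r ∈ R, x * r * x⁻¹ ∈ R) {u : G} (hu : u ∈ U) : x * u * x⁻¹ ∈ U := by
  refine g.hΩ _ (hx u (g.hUR hu)) ?_
  rw [show x * u * x⁻¹ * (x * u * x⁻¹) = x * (u * u) * x⁻¹ by group, h.hexp u (h.hUT hu)]
  group

/-- Elements normalizing `R⟨t⟩` normalize `R`. -/
theorem norm_R (g : Good t T U Dg R j) (h : ESetup t T U Dg) {x : G}
    (hx : ∀ p ∈ g.P h, x * p * x⁻¹ ∈ g.P h) : ∀ r ∈ R, x * r * x⁻¹ ∈ R := by
  intro r hr
  by_contra hne
  obtain ⟨r', hr', he⟩ := g.out_P h (hx r (Or.inl hr)) hne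
  exact g.hXR r hr ((isConj_conj_iff x).1 (he ▸ g.hX r' hr'))

/-- `N(R) ∩ N(R⟨t⟩)`. -/
def N (g : Good t T U Dg R j) (h : ESetup t T U Dg) : Subgroup G :=
  normalizer (R : Set G) ⊓ normalizer (g.P h : Set G)

theorem N_conjR (g : Good t T U Dg R j) (h : ESetup t T U Dg) {x r : G} (hx : x ∈ g.N h)
    (hr : r ∈ R) : x * r * x⁻¹ ∈ R := (mem_normalizer_iff.1 hx.1 r).1 hr

theorem N_conjU (g : Good t T U Dg R j) (h : ESetup t T U Dg) {x u : G} (hx : x ∈ g.N h)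
    (hu : u ∈ U) : x * u * x⁻¹ ∈ U := g.U_conj_mem h (fun _ hr => g.N_conjR h hx hr) hu

theorem mem_N [Finite G] (g : Good t T U Dg R j) (h : ESetup t T U Dg) {x : G}
    (hx : ∀ p ∈ g.P h, x * p * x⁻¹ ∈ g.P h) : x ∈ g.N h :=
  ⟨mem_normalizer_of_conj (g.norm_R h hx), mem_normalizer_of_conj hx⟩

theorem mem_N' [Finite G] (g : Good t T U Dg R j) (h : ESetup t T U Dg) {x : G}
    (hR : ∀ r ∈ R, x * r * x⁻¹ ∈ R) (ht : t * (x * t * x⁻¹) ∈ R) : x ∈ g.N h := by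
  refine g.mem_N h fun p hp => ?_
  rcases hp with hp | hp
  · exact Or.inl (hR p hp)
  · refine Or.inr ?_
    have e : t * (x * p * x⁻¹) = t * (x * t * x⁻¹) * (x * (t * p) * x⁻¹) := by
      calc t * (x * p * x⁻¹) = t * (x * (t * t * p) * x⁻¹) := by rw [h.base.tt, one_mul]
        _ = _ := by group
    rw [e]
    exact R.mul_mem ht (hR _ hp)

theorem N_t (g : Good t T U Dg R j) (h : ESetup t T U Dg) {x : G} (hx : x ∈ g.N h) :
    t * (x * t * x⁻¹) ∈ R := by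
  rcases (mem_normalizer_iff.1 hx.2 t).1 (g.t_mem_P h) with h1 | h1
  · exact absurd ((isConj_conj_iff x).2 (IsConj.refl t)) (g.hXR _ h1)
  · exact h1

/-- The class of `x t x⁻¹` in `U ≅ R / R²`. -/
def cc (j : ℕ) (t x : G) : G := (t * (x * t * x⁻¹)) ^ 2 ^ j

theorem cc_mem (g : Good t T U Dg R j) (h : ESetup t T U Dg) {x : G} (hx : x ∈ g.N h) :
    cc j t x ∈ U := g.hpow _ (g.N_t h hx)

theorem cc_mul (g : Good t T U Dg R j) (h : ESetup t T U Dg) {x y : G} (hx : x ∈ g.N h)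
    (hy : y ∈ g.N h) : cc j t (x * y) = cc j t x * (x * cc j t y * x⁻¹) := by
  have e : t * (x * y * t * (x * y)⁻¹) =
      t * (x * t * x⁻¹) * (x * (t * (y * t * y⁻¹)) * x⁻¹) := by
    calc t * (x * y * t * (x * y)⁻¹) = t * (x * ((t * t) * (y * t * y⁻¹)) * x⁻¹) := by
          rw [h.base.tt]; group
      _ = _ := by group
  have hc : Commute (t * (x * t * x⁻¹)) (x * (t * (y * t * y⁻¹)) * x⁻¹) :=
    g.hcomm _ (g.N_t h hx) _ (g.N_conjR h hx (g.N_t h hy))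
  rw [cc, e, hc.mul_pow, conj_pow]
  rfl

theorem cc_of_comm (h : ESetup t T U Dg) {x : G} (hx : x * t = t * x) : cc j t x = 1 := by
  rw [cc, mul_inv_eq_of_eq_mul hx, h.base.tt, one_pow]

theorem cc_of_R (g : Good t T U Dg R j) (h : ESetup t T U Dg) {a : G} (ha : a ∈ R) :
    cc j t a = 1 := by
  rw [cc, g.conj_t h ha, ← mul_assoc, h.base.tt, one_mul, ← pow_two, ← pow_mul, ← pow_succ',
    inv_pow, g.exponent h ha, inv_one]

theorem R_mem_N [Finite G] (g : Good t T U Dg R j) (h : ESetup t T U Dg) {a : G} (ha : a ∈ R) :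
    a ∈ g.N h :=
  g.mem_N h fun _ hp => (g.P h).mul_mem ((g.P h).mul_mem (Or.inl ha) hp)
    ((g.P h).inv_mem (Or.inl ha))

theorem comm_mem_N [Finite G] (g : Good t T U Dg R j) (h : ESetup t T U Dg) {x : G}
    (hx : x * t = t * x) (hR : ∀ r ∈ R, x * r * x⁻¹ ∈ R) : x ∈ g.N h :=
  g.mem_N' h hR (by rw [mul_inv_eq_of_eq_mul hx, h.base.tt]; exact R.one_mem)

/-- An element of class `1` is an element of `R` times one centralizing `t`. -/
theorem cc_one [Finite G] (g : Good t T U Dg R j) (h : ESetup t T U Dg) {x : G} (hx : x ∈ g.N h)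
    (h1 : cc j t x = 1) : ∃ a ∈ R, a⁻¹ * x * t = t * (a⁻¹ * x) ∧ a⁻¹ * x ∈ g.N h := by
  obtain ⟨s, hs, hse⟩ := g.hker _ (g.N_t h hx) h1
  refine ⟨s⁻¹, R.inv_mem hs, ?_, mul_mem (inv_mem (g.R_mem_N h (R.inv_mem hs))) hx⟩
  have e : x * t * x⁻¹ = t * (s * s) := by
    rw [hse, ← mul_assoc, h.base.tt, one_mul]
  have e2 : s * (t * (s * s)) = t * s := by
    have h2 := g.hinv s hs
    calc s * (t * (s * s)) = t * t * s * t * (s * s) := by rw [h.base.tt]; group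
      _ = t * (t * s * t) * (s * s) := by group
      _ = t * s := by rw [h2]; group
  rw [inv_inv]
  calc s * x * t = s * (x * t * x⁻¹) * x := by group
    _ = t * (s * x) := by rw [e, e2]; group

/-- Elements centralizing `t` and normalizing `R` normalize `T`. -/
theorem comm_conjT (g : Good t T U Dg R j) (h : ESetup t T U Dg) {x : G}
    (hx : x * t = t * x) (hxN : x ∈ g.N h) : ∀ y ∈ T, x * y * x⁻¹ ∈ T :=
  h.conjT hx fun _ hu => g.N_conjU h hxN hu

theorem R_centU (g : Good t T U Dg R j) {a u : G} (ha : a ∈ R) (hu : u ∈ U) :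
    a * u * a⁻¹ = u := by
  rw [g.hcomm a ha u (g.hUR hu)]; group

end Good

end CfsgLib.TimesPSL
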