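import Cfsg.Agent.Lib.TimesPSL.Exception
import Cfsg.Agent.Lib.TimesPSL.AvgChar

/-!
# No good subgroup in a simple group
-/

namespace CfsgLib.TimesPSL

open Subgroup

variable {G : Type*} [Group G]

/-- Two-element normalizing a Sylow `2`-subgroup of a subgroup: the Sylow is everything. -/
theorem sylow_of_sup [Finite G] {K P : Subgroup G} (hP : IsPGroup 2 P) (hPK : P ≤ K) :
    ∃ Y : Subgroup G, P ≤ Y ∧ Y ≤ K ∧ IsPGroup 2 Y ∧ Odd (Y.relIndex K) ∧
      ∀ Y' : Subgroup G, Y' ≤ K → IsPGroup 2 Y' → Nat.card Y' = Nat.card Y →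
        ∃ k ∈ K, ∀ y, y ∈ Y' ↔ k⁻¹ * y * k ∈ Y := by
  have : Fact (Nat.Prime 2) := ⟨Nat.prime_two⟩
  obtain ⟨S, hS⟩ := (hP.comap_subtype (K := K) : IsPGroup 2 (P.subgroupOf K)).exists_le_sylow
  refine ⟨(S : Subgroup K).map K.subtype, ?_, Subgroup.map_subtype_le _, S.2.map K.subtype, ?_, ?_⟩
  · intro x hx
    exact ⟨⟨x, hPK hx⟩, hS hx, rfl⟩
  · have : (S : Subgroup K).index = ((S : Subgroup K).map K.subtype).relIndex K := by
      rw [Subgroup.relIndex, Subgroup.subgroupOf, comap_map_eq_self_of_injective K.subtype_injective]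
    rw [← this]
    exact Nat.not_even_iff_odd.1 fun h => S.not_dvd_index (even_iff_two_dvd.1 h)
  · intro Y' hY'K hY' hc
    have hc' : Nat.card (Y'.subgroupOf K) = Nat.card (S : Subgroup K) := by
      rw [Nat.card_congr (Subgroup.subgroupOfEquivOfLe hY'K).toEquiv, hc,
        Subgroup.card_map_of_injective K.subtype_injective]
    obtain ⟨S', hS'⟩ := (hY'.comap_subtype (K := K) : IsPGroup 2 (Y'.subgroupOf K)).exists_le_sylow
    have he : Y'.subgroupOf K = (S' : Subgroup K) :=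
      eq_of_le_of_card_ge hS' (by rw [hc', S'.card_eq_multiplicity, S.card_eq_multiplicity])
    obtain ⟨k, hk⟩ := MulAction.exists_smul_eq K S S'
    refine ⟨k, k.2, fun y => ⟨fun hy => ?_, ?_⟩⟩
    · have h1 : (⟨y, hY'K hy⟩ : K) ∈ ((k • S : Sylow 2 K) : Subgroup K) := by
        rw [hk, ← he]; exact hy
      rw [Sylow.smul_def, Sylow.pointwise_smul_def, Subgroup.mem_pointwise_smul_iff_inv_smul_mem]
        at h1
      exact ⟨_, h1, by simp⟩
    · rintro ⟨z, hz, hze⟩
      have hze' : (z : G) = (k : G)⁻¹ * y * k := hze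
      have hyK : y ∈ K := by
        rw [show y = (k : G) * z * (k : G)⁻¹ by rw [hze']; group]
        exact mul_mem (mul_mem k.2 z.2) (inv_mem k.2)
      have h1 : (⟨y, hyK⟩ : K) ∈ ((k • S : Sylow 2 K) : Subgroup K) := by
        rw [Sylow.smul_def, Sylow.pointwise_smul_def, Subgroup.mem_pointwise_smul_iff_inv_smul_mem]
        have : (MulAut.conj k)⁻¹ • (⟨y, hyK⟩ : K) = z := Subtype.ext (by simp [hze'])
        rw [this]; exact hz
      rw [hk, ← he] at h1
      exact h1

/-- **The ladder**: a good subgroup can be enlarged. -/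
theorem good_step [Finite G] [IsSimpleGroup G] (hG : ¬ IsMulCommutative G) {t : G}
    {T U Dg R : Subgroup G} {j : ℕ} (h : ESetup t T U Dg) (g : Good t T U Dg R j) :
    ∃ R' : Subgroup G, Good t T U Dg R' (j + 1) ∧ Nat.card R < Nat.card R' := by
  classical
  have : Fact (Nat.Prime 2) := ⟨Nat.prime_two⟩
  have hB := h.base
  set P := g.P h with hPdef
  set N := g.N h with hNdef
  have hPN : P ≤ N := fun p hp => g.mem_N h fun q hq => P.mul_mem (P.mul_mem hp hq) (P.inv_mem hp)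
  have hTN : T ≤ N := (g.T_le_P h).trans hPN
  -- the operators
  have hDN : ∀ d ∈ Dg, ∃ d' ∈ N, d' * t = t * d' ∧ ∀ u ∈ U, d' * u * d'⁻¹ = d * u * d⁻¹ := by
    intro d hd
    obtain ⟨d', h1, h2, h3⟩ := g.hD d hd
    exact ⟨d', g.comm_mem_N h h1 h2, h1, h3⟩
  -- adjusting an element of class one
  by_cases hO : ∀ x ∈ N, Good.cc j t x = 1
  · -- `P` is a Sylow subgroup
    exfalso
    obtain ⟨S, hPS⟩ := (g.P_two h).exists_le_sylow
    have hS2 : IsPGroup 2 (S : Subgroup G) := S.2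
    have hTS : T ≤ (S : Subgroup G) := (g.T_le_P h).trans hPS
    have hSP : P = (S : Subgroup G) := by
      by_contra hne
      obtain ⟨x, hxS, hxP, hx⟩ := exists_normalizing hS2 hPS hne
      have hxN : x ∈ N := g.mem_N h hx
      obtain ⟨a, ha, hax, -⟩ := g.cc_one h hxN (hO x hxN)
      have haS : a ∈ (S : Subgroup G) := hPS (Or.inl ha)
      have h1 := hB.sylow_eq hS2 hTS (mul_mem (inv_mem haS) hxS) hax
      refine hxP ?_
      rw [show x = a * (a⁻¹ * x) by group]
      exact P.mul_mem (Or.inl ha) (g.T_le_P h h1)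
    let M : Subgroup (S : Subgroup G) := R.subgroupOf (S : Subgroup G)
    have hM : M.index = 2 := by
      rw [Subgroup.index_eq_two_iff]
      refine ⟨⟨t, hTS hB.htT⟩, fun x => ?_⟩
      have hx : (x : G) ∈ P := by rw [hSP]; exact x.2
      simp only [M, mem_subgroupOf, Subgroup.coe_mul]
      by_cases hxR : (x : G) ∈ R
      · exact Or.inr ⟨hxR, fun h' => g.htR ((mul_mem_cancel_left hxR).1 h')⟩
      · obtain ⟨r, hr, he⟩ := g.out_P h hx hxR
        refine Or.inl ⟨?_, hxR⟩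
        rw [he, g.hinv r hr]
        exact R.inv_mem hr
    exact transfer_extremal hG S (sgnHom M hM) hB.tt T hB.hT hB.htT (fun x hx => hB.comm hx)
      (-1) (by decide) fun x hx _ => sgnHom_of_not_mem M hM fun hxM =>
        g.hXR (x⁻¹ * t * x) hxM (isConj_iff.2 ⟨x⁻¹, by rw [inv_inv]⟩)
  -- every class occurs
  push_neg at hO
  obtain ⟨x0, hx0, hx01⟩ := hO
  have hsurj : ∀ u ∈ U, ∃ x ∈ N, Good.cc j t x = u := by
    intro u hu
    rcases eq_or_ne u 1 with rfl | hu1
    · exact ⟨1, one_mem _, Good.cc_of_comm h (by group)⟩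
    obtain ⟨d, hd, hde⟩ := h.hDtrans _ (g.cc_mem h hx0) hx01 u hu hu1
    obtain ⟨d', hd'N, hd't, hd'u⟩ := hDN d hd
    refine ⟨d' * x0, mul_mem hd'N hx0, ?_⟩
    rw [g.cc_mul h hd'N hx0, Good.cc_of_comm h hd't, one_mul, hd'u _ (g.cc_mem h hx0), hde]
  let K : Subgroup G := N ⊓ centralizer (U : Set G)
  have hKU : ∀ {x u : G}, x ∈ K → u ∈ U → x * u * x⁻¹ = u := fun hx hu => by
    rw [← (mem_centralizer_iff.1 hx.2 _ hu)]; group
  by_cases hK : ∀ x ∈ K, Good.cc j t x = 1
  · refine (no_exception hG h g (fun x hx hxU => hK x ⟨hx, mem_centralizer_iff.2 fun u hu => ?_⟩)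
      hsurj).elim
    exact (mul_inv_eq_iff_eq_mul.1 (hxU u hu)).symm
  push_neg at hK
  obtain ⟨k0, hk0, hk01⟩ := hK
  have hKconj : ∀ {x k : G}, x ∈ N → k ∈ K → x * k * x⁻¹ ∈ K := by
    intro x k hx hk
    refine ⟨N.mul_mem (N.mul_mem hx hk.1) (N.inv_mem hx), mem_centralizer_iff.2 fun u hu => ?_⟩
    have h1 : x⁻¹ * u * x ∈ U := by simpa using g.N_conjU h (inv_mem hx) hu
    have h2 := mem_centralizer_iff.1 hk.2 _ h1
    calc u * (x * k * x⁻¹) = x * (x⁻¹ * u * x * k) * x⁻¹ := by group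
      _ = x * (k * (x⁻¹ * u * x)) * x⁻¹ := by rw [h2]
      _ = _ := by group
  have hccK : ∀ {k m : G}, k ∈ K → m ∈ N → Good.cc j t (k * m) = Good.cc j t k * Good.cc j t m :=
    fun hk hm => by rw [g.cc_mul h hk.1 hm, hKU hk (g.cc_mem h hm)]
  have hKsurj : ∀ u ∈ U, ∃ k ∈ K, Good.cc j t k = u := by
    intro u hu
    rcases eq_or_ne u 1 with rfl | hu1
    · exact ⟨1, one_mem _, Good.cc_of_comm h (by group)⟩
    obtain ⟨d, hd, hde⟩ := h.hDtrans _ (g.cc_mem h hk0.1) hk01 u hu hu1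
    obtain ⟨d', hd'N, hd't, hd'u⟩ := hDN d hd
    refine ⟨d' * k0 * d'⁻¹, hKconj hd'N hk0, ?_⟩
    have hinv : d'⁻¹ * t = t * d'⁻¹ := (Commute.inv_left (show Commute d' t from hd't)).eq
    rw [g.cc_mul h (mul_mem hd'N hk0.1) (inv_mem hd'N), g.cc_mul h hd'N hk0.1,
      Good.cc_of_comm h hd't, Good.cc_of_comm h hinv, hd'u _ (g.cc_mem h hk0.1), hde]
    group
  have hPK : P ≤ K := by
    intro p hp
    refine ⟨hPN hp, mem_centralizer_iff.2 fun u hu => ?_⟩
    rcases hp with hp | hp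
    · exact (g.hcomm p hp u (g.hUR hu)).symm
    · have h1 : Commute u (t * p) := (g.hcomm _ hp u (g.hUR hu)).symm
      have h2 : Commute u t := (h.tU hu).symm
      have h3 := h2.mul_right h1
      rw [← mul_assoc, hB.tt, one_mul] at h3
      exact h3
  obtain ⟨Y, hPY, hYK, hY2, hYodd, hYconj⟩ := sylow_of_sup (g.P_two h) hPK
  have hTY : T ≤ Y := (g.T_le_P h).trans hPY
  have hRY : R ≤ Y := (g.R_le_P h).trans hPY
  have hYN : Y ≤ N := fun y hy => (hYK hy).1
  have hYR : ∀ {y r : G}, y ∈ Y → r ∈ R → y * r * y⁻¹ ∈ R := fun hy hr => g.N_conjR h (hYN hy) hr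
  -- the class map on `Y`
  let φ : K →* U :=
    { toFun := fun k => ⟨Good.cc j t k, g.cc_mem h k.2.1⟩
      map_one' := Subtype.ext (Good.cc_of_comm h (by simp))
      map_mul' := fun a b => Subtype.ext (hccK a.2 b.2.1) }
  have hφ : Function.Surjective φ := by
    rintro ⟨u, hu⟩
    obtain ⟨k, hk, he⟩ := hKsurj u hu
    exact ⟨⟨k, hk⟩, Subtype.ext he⟩
  have hYsurj : ∀ u ∈ U, ∃ y ∈ Y, Good.cc j t y = u := by
    have htop : (Y.subgroupOf K).map φ = ⊤ := by
      rw [← Subgroup.index_eq_one]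
      obtain ⟨n, hn⟩ : ∃ n, Nat.card U = 2 ^ n := (hB.hT.to_le h.hUT).exists_card_eq
      have h1 : ((Y.subgroupOf K).map φ).index ∣ 2 ^ n := hn ▸ Subgroup.index_dvd_card _
      have h2 : ((Y.subgroupOf K).map φ).index ∣ Y.relIndex K :=
        Subgroup.index_map_dvd _ hφ
      obtain ⟨m, -, hm⟩ := (Nat.dvd_prime_pow Nat.prime_two).1 h1
      rcases m with _ | m
      · rw [hm, pow_zero]
      · exfalso
        exact Nat.not_even_iff_odd.2 hYodd
          (even_iff_two_dvd.2 ((Dvd.intro _ (pow_succ' 2 m).symm).trans (hm ▸ h2)))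
    intro u hu
    have : (⟨u, hu⟩ : U) ∈ (Y.subgroupOf K).map φ := htop ▸ mem_top _
    obtain ⟨k, hk, he⟩ := this
    exact ⟨k, hk, congrArg Subtype.val he⟩
  have hYone : ∀ {y : G}, y ∈ Y → Good.cc j t y = 1 → y ∈ P := by
    intro y hy h1
    obtain ⟨a, ha, hay, -⟩ := g.cc_one h (hYN hy) h1
    have h2 := hB.sylow_eq hY2 hTY (mul_mem (inv_mem (hRY ha)) hy) hay
    rw [show y = a * (a⁻¹ * y) by group]
    exact P.mul_mem (Or.inl ha) (g.T_le_P h h2)
  have htwo : ∀ {y : G}, y ∈ Y → ∃ n : ℕ, y ^ 2 ^ n = 1 := by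
    intro y hy
    obtain ⟨n, hn⟩ := hY2 ⟨y, hy⟩
    exact ⟨n, by simpa using congrArg Subtype.val hn⟩
  have hsq : ∀ y ∈ Y, y * y ∈ R := by
    intro y hy
    have h1 : Good.cc j t (y * y) = 1 := by
      rw [hccK (hYK hy) (hYN hy)]; exact h.hexp _ (h.hUT (g.cc_mem h (hYN hy)))
    by_contra hne
    obtain ⟨r, hr, he⟩ := g.out_P h (hYone (mul_mem hy hy) h1) hne
    obtain ⟨n, hn⟩ := htwo hy
    have h2 := h.sq_of_cent (g.hX r hr) (y := y) (by rw [← he]; group) hn
    exact hne (h2 ▸ R.one_mem)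
  have hcomR : ∀ {a b : G}, a ∈ Y → b ∈ Y → b⁻¹ * a⁻¹ * b * a ∈ R := by
    intro a b ha hb
    have e : b⁻¹ * a⁻¹ * b * a = b⁻¹ * b⁻¹ * ((b * a⁻¹) * (b * a⁻¹)) * (a * a) := by group
    rw [e]
    exact R.mul_mem (R.mul_mem (hsq _ (inv_mem hb)) (hsq _ (mul_mem hb (inv_mem ha)))) (hsq a ha)
  -- the index
  have hcardY : Nat.card Y = Nat.card U * Nat.card P := by
    let ψ : Y →* U := φ.comp (Subgroup.inclusion hYK)
    have hψ : Function.Surjective ψ := by
      rintro ⟨u, hu⟩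
      obtain ⟨y, hy, he⟩ := hYsurj u hu
      exact ⟨⟨y, hy⟩, Subtype.ext he⟩
    have hk : ψ.ker = P.subgroupOf Y := by
      ext ⟨y, hy⟩
      rw [MonoidHom.mem_ker, mem_subgroupOf]
      constructor
      · exact fun he => hYone hy (congrArg Subtype.val he)
      · intro hp
        refine Subtype.ext ?_
        change Good.cc j t y = 1
        rcases hp with hp | hp
        · exact g.cc_of_R h hp
        · have e : y = t * (t * y) := by rw [← mul_assoc, hB.tt, one_mul]
          rw [e, hccK (hPK (g.t_mem_P h)) (g.R_mem_N h hp), g.cc_of_R h hp,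
            Good.cc_of_comm h rfl, one_mul]
    have h1 := Subgroup.index_mul_card ψ.ker
    rw [Subgroup.index_ker, MonoidHom.range_eq_top.2 hψ, Subgroup.card_top] at h1
    rw [← h1, hk, Nat.card_congr (Subgroup.subgroupOfEquivOfLe hPY).toEquiv]
  have hcardP : Nat.card P = 2 * Nat.card R := by
    have hi : (R.subgroupOf P).index = 2 := by
      rw [Subgroup.index_eq_two_iff]
      refine ⟨⟨t, g.t_mem_P h⟩, fun x => ?_⟩
      simp only [mem_subgroupOf, Subgroup.coe_mul]
      by_cases hxR : (x : G) ∈ R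
      · exact Or.inr ⟨hxR, fun h' => g.htR ((mul_mem_cancel_left hxR).1 h')⟩
      · obtain ⟨r, hr, he⟩ := g.out_P h x.2 hxR
        refine Or.inl ⟨?_, hxR⟩
        rw [he, g.hinv r hr]; exact R.inv_mem hr
    have := Subgroup.index_mul_card (R.subgroupOf P)
    rw [hi, Nat.card_congr (Subgroup.subgroupOfEquivOfLe (g.R_le_P h)).toEquiv] at this
    exact this.symm
  -- conjugates of `t` in `Y` fill their coset of `R`
  have hfill : ∀ {x : G}, x ∈ Y → IsConj t x → ∀ a ∈ R, IsConj t (x * a) := by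
    intro x hx hX
    let O : Set G := MulAction.orbit (ConjAct Y) (⟨x, hx⟩ : Y) |> (Subtype.val '' ·)
    have hOsub : O ⊆ (fun a => x * a) '' (R : Set G) := by
      rintro _ ⟨⟨z, hz⟩, hzo, rfl⟩
      obtain ⟨c, hc⟩ := hzo
      obtain ⟨c', hc'⟩ := ConjAct.toConjAct.surjective c
      subst hc'
      have he : (c' : G) * x * (c' : G)⁻¹ = z := by
        have := congrArg Subtype.val hc
        simpa [ConjAct.toConjAct_smul] using this
      refine ⟨x⁻¹ * z, ?_, by simp⟩
      rw [← he, show x⁻¹ * ((c' : G) * x * (c' : G)⁻¹) = x⁻¹ * ((c' : G)⁻¹)⁻¹ * x * (c' : G)⁻¹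
        by group]
      exact hcomR (inv_mem c'.2) hx
    have hcard : Nat.card R ≤ Nat.card O := by
      let C : Subgroup G := Y ⊓ centralizer ({x} : Set G)
      have hC := hB.card_le hX (hY2.to_le inf_le_left : IsPGroup 2 C) inf_le_right
      have hst : Nat.card (MulAction.stabilizer (ConjAct Y) (⟨x, hx⟩ : Y)) = Nat.card C := by
        refine Nat.card_congr
          { toFun := fun c => ⟨(ConjAct.ofConjAct c.1 : Y), (ConjAct.ofConjAct c.1).2,
              mem_centralizer_singleton_iff.2 ?_⟩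
            invFun := fun c => ⟨ConjAct.toConjAct (⟨c, c.2.1⟩ : Y), ?_⟩
            left_inv := fun c => rfl
            right_inv := fun c => rfl }
        · have := congrArg Subtype.val c.2
          rw [ConjAct.smul_def] at this
          exact mul_inv_eq_iff_eq_mul.1 this
        · refine Subtype.ext ?_
          rw [ConjAct.smul_def]
          exact mul_inv_eq_of_eq_mul (mem_centralizer_singleton_iff.1 c.2.2)
      have hO : Nat.card O = Nat.card (MulAction.orbit (ConjAct Y) (⟨x, hx⟩ : Y)) :=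
        Nat.card_image_of_injective Subtype.val_injective _
      have hos := Nat.card_congr (MulAction.orbitProdStabilizerEquivGroup (ConjAct Y)
        (⟨x, hx⟩ : Y))
      rw [Nat.card_prod, hst, show Nat.card (ConjAct Y) = Nat.card Y from rfl, hcardY, hcardP]
        at hos
      rw [hO]
      rw [h.cardT] at hC
      by_contra hlt
      push_neg at hlt
      have h1 := Nat.mul_lt_mul_of_lt_of_le hlt hC (by have := h.hU4; omega)
      rw [hos] at h1
      exact absurd h1 (by rw [show Nat.card R * (2 * Nat.card U) =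
        Nat.card U * (2 * Nat.card R) by ring]; exact lt_irrefl _)
    intro a ha
    have he : O = (fun a => x * a) '' (R : Set G) :=
      Set.eq_of_subset_of_ncard_le hOsub (by
        rw [← Nat.card_coe_set_eq, ← Nat.card_coe_set_eq,
          Nat.card_image_of_injective (mul_right_injective x)]
        exact hcard) (Set.toFinite _)
    obtain ⟨⟨z, hz⟩, hzo, hze⟩ : x * a ∈ O := he ▸ ⟨a, ha, rfl⟩
    obtain ⟨c, hc⟩ := hzo
    refine hX.trans (isConj_iff.2 ⟨((ConjAct.ofConjAct c : Y) : G), ?_⟩)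
    have := congrArg Subtype.val hc
    simp only [ConjAct.smul_def] at this
    exact this.trans hze
  have hsq1 : ∀ {x : G}, IsConj t x → x * x = 1 := by
    intro x hx
    obtain ⟨c, rfl⟩ := isConj_iff.1 hx
    rw [show c * t * c⁻¹ * (c * t * c⁻¹) = c * (t * t) * c⁻¹ by group, hB.tt]; group
  -- the group of operators on `Y`
  let W : Subgroup G := centralizer ({t} : Set G) ⊓ normalizer (R : Set G) ⊓ normalizer (Y : Set G)
  have hTW : T ≤ W := fun x hx => ⟨⟨hB.hle hx,
      mem_normalizer_of_conj fun r hr => hYR (hTY hx) hr⟩,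
    Subgroup.le_normalizer (hTY hx)⟩
  have hWtr : ∀ d ∈ Dg, ∃ w ∈ W, ∀ u ∈ U, w * u * w⁻¹ = d * u * d⁻¹ := by
    intro d hd
    obtain ⟨d', hd'N, hd't, hd'u⟩ := hDN d hd
    let Y' : Subgroup G := Y.map (MulAut.conj d').toMonoidHom
    have hY'K : Y' ≤ K := by
      rintro _ ⟨y, hy, rfl⟩
      simp only [MulEquiv.toMonoidHom_eq_coe, MonoidHom.coe_coe, MulAut.conj_apply]
      exact hKconj hd'N (hYK hy)
    obtain ⟨k, hk, hkY⟩ := hYconj Y' hY'K (hY2.map _)
      (Subgroup.card_map_of_injective (MulEquiv.injective _))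
    have hm : ∀ y ∈ Y, k⁻¹ * d' * y * (k⁻¹ * d')⁻¹ ∈ Y := by
      intro y hy
      have := (hkY (d' * y * d'⁻¹)).1 ⟨y, hy, by simp⟩
      rw [show k⁻¹ * d' * y * (k⁻¹ * d')⁻¹ = k⁻¹ * (d' * y * d'⁻¹) * k by group]
      exact this
    set m := k⁻¹ * d'
    have hmN : m ∈ N := mul_mem (inv_mem hk.1) hd'N
    obtain ⟨y, hy, hye⟩ := hYsurj _ (g.cc_mem h hmN)
    have hm' : Good.cc j t (y⁻¹ * m) = 1 := by
      have h1 : Good.cc j t (y * (y⁻¹ * m)) = Good.cc j t y * Good.cc j t (y⁻¹ * m) :=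
        hccK (hYK hy) (mul_mem (inv_mem (hYN hy)) hmN)
      rw [mul_inv_cancel_left, hye] at h1
      exact mul_eq_left.1 h1.symm
    obtain ⟨a, ha, hat, haN⟩ := g.cc_one h (mul_mem (inv_mem (hYN hy)) hmN) hm'
    refine ⟨a⁻¹ * (y⁻¹ * m), ⟨⟨mem_centralizer_singleton_iff.2 hat, haN.1⟩,
      mem_normalizer_of_conj fun z hz => ?_⟩, fun u hu => ?_⟩
    · rw [show a⁻¹ * (y⁻¹ * m) * z * (a⁻¹ * (y⁻¹ * m))⁻¹ =
        a⁻¹ * y⁻¹ * (m * z * m⁻¹) * y * a by group]
      exact mul_mem (mul_mem (mul_mem (mul_mem (inv_mem (hRY ha)) (inv_mem hy)) (hm z hz)) hy)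
        (hRY ha)
    · have h1 : d' * u * d'⁻¹ ∈ U := g.N_conjU h hd'N hu
      rw [show a⁻¹ * (y⁻¹ * m) * u * (a⁻¹ * (y⁻¹ * m))⁻¹ =
        a⁻¹ * (y⁻¹ * (k⁻¹ * (d' * u * d'⁻¹) * k) * y) * a by simp only [m]; group]
      have h2 : k⁻¹ * (d' * u * d'⁻¹) * k = d' * u * d'⁻¹ := by
        simpa using hKU (inv_mem hk) h1
      have h3 : y⁻¹ * (d' * u * d'⁻¹) * y = d' * u * d'⁻¹ := by
        simpa using hKU (inv_mem (hYK hy)) h1
      rw [h2, h3]
      have := g.R_centU (R.inv_mem ha) h1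
      rw [inv_inv] at this
      rw [this, hd'u u hu]
  -- the invariant character
  obtain ⟨M, hM2, hRM, htM⟩ := exists_index_two hRY hsq (hTY hB.htT) g.htR
  have hodd : Odd (T.relIndex W) := by
    let TW := T.subgroupOf W
    obtain ⟨Q, hQ⟩ := (hB.hT.comap_subtype (K := W) : IsPGroup 2 TW).exists_le_sylow
    have hQT : (Q : Subgroup W) ≤ TW := by
      intro w hw
      obtain ⟨n, hn⟩ := Q.2 ⟨w, hw⟩
      have hn' : (w : G) ^ 2 ^ n = 1 := by
        simpa using congrArg Subtype.val (congrArg Subtype.val hn)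
      exact h.two_mem (mem_centralizer_singleton_iff.1 w.2.1.1)
        (g.comm_conjT h (mem_centralizer_singleton_iff.1 w.2.1.1)
          (g.comm_mem_N h (mem_centralizer_singleton_iff.1 w.2.1.1)
            fun r hr => (mem_normalizer_iff.1 w.2.1.2 r).1 hr)) hn'
    change Odd TW.index
    rw [show TW = (Q : Subgroup W) from le_antisymm hQ hQT]
    exact Nat.not_even_iff_odd.1 fun h => Q.not_dvd_index (even_iff_two_dvd.1 h)
  obtain ⟨χ, hχt, hχR, hχW⟩ := exists_inv_char (W := W) (W0 := T) (fun w hw => hw.2) hodd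
    (sgnHom M hM2) (fun w hw y hy hy' => by
      rw [show (⟨w * y * w⁻¹, hy'⟩ : Y) = ⟨w, hTY hw⟩ * ⟨y, hy⟩ * ⟨w, hTY hw⟩⁻¹ from rfl,
        map_mul, map_mul, map_inv, mul_comm, inv_mul_cancel_left])
    (hTY hB.htT) (fun w hw => mem_centralizer_singleton_iff.1 hw.1.1)
    (sgnHom_of_not_mem M hM2 htM)
  let R' : Subgroup G := χ.ker.map Y.subtype
  have hmemR' : ∀ {x : G}, x ∈ R' ↔ ∃ hx : x ∈ Y, χ ⟨x, hx⟩ = 1 := by
    intro x
    constructor
    · rintro ⟨⟨y, hy⟩, hk, rfl⟩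
      exact ⟨hy, hk⟩
    · rintro ⟨hx, hk⟩
      exact ⟨⟨x, hx⟩, hk, rfl⟩
  have hR'Y : R' ≤ Y := fun x hx => (hmemR'.1 hx).1
  have hRR' : R ≤ R' := by
    intro r hr
    refine hmemR'.2 ⟨hRY hr, hχR _ fun w hw hy' => ?_⟩
    classical
    have h1 : (⟨w * r * w⁻¹, hy'⟩ : Y) ∈ M := hRM ((mem_normalizer_iff.1 hw.1.2 r).1 hr)
    simp [sgnHom, h1]
  have htR' : t ∉ R' := fun h' => by
    obtain ⟨h0, h1⟩ := hmemR'.1 h'
    rw [hχt] at h1
    exact absurd h1 (by decide)
  have hunit : ∀ {y : G} (hy : y ∈ Y), y ∉ R' → χ ⟨y, hy⟩ = -1 := fun hy hne =>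
    (Int.units_eq_one_or _).resolve_left fun h1 => hne (hmemR'.2 ⟨hy, h1⟩)
  have houtR' : ∀ {y : G}, y ∈ Y → y ∉ R' → t * y ∈ R' := fun {y} hy hne =>
    hmemR'.2 ⟨mul_mem (hTY hB.htT) hy, by
      rw [show (⟨t * y, _⟩ : Y) = ⟨t, hTY hB.htT⟩ * ⟨y, hy⟩ from rfl, map_mul, hχt, hunit hy hne]
      rfl⟩
  have hR'W : ∀ {w x : G}, w ∈ W → x ∈ R' → w * x * w⁻¹ ∈ R' := by
    intro w x hw hx
    obtain ⟨hxY, hx1⟩ := hmemR'.1 hx
    have hy' := (mem_normalizer_iff.1 hw.2 x).1 hxY
    exact hmemR'.2 ⟨hy', by rw [hχW w hw x hxY hy', hx1]⟩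
  have hPR' : ∀ {x : G}, x ∈ P → x ∈ R' → x ∈ R := by
    intro x hp hx
    by_contra hne
    obtain ⟨r, hr, rfl⟩ := g.out_P h hp hne
    exact htR' ((mul_mem_cancel_right (hRR' hr)).1 hx)
  have hcardR' : Nat.card R' = Nat.card U * Nat.card R := by
    have hk : χ.ker.index = 2 := by
      rw [Subgroup.index_eq_two_iff]
      refine ⟨⟨t, hTY hB.htT⟩, fun y => ?_⟩
      simp only [MonoidHom.mem_ker, map_mul, hχt]
      rcases Int.units_eq_one_or (χ y) with h1 | h1 <;> rw [h1] <;> decide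
    have h1 := Subgroup.index_mul_card χ.ker
    rw [hk, hcardY, hcardP] at h1
    rw [Subgroup.card_map_of_injective Y.subtype_injective]
    linarith
  -- transitivity on the cosets of `R` in `R'`
  have hcoset : ∀ {x z : G}, x ∈ R' → x ∉ R → z ∈ R' → z ∉ R →
      ∃ w ∈ W, ∃ a ∈ R, z = w * x * w⁻¹ * a := by
    intro x z hx hxR hz hzR
    have hne : ∀ {v : G}, v ∈ R' → v ∉ R → Good.cc j t v ≠ 1 := fun hv hvR h1 =>
      hvR (hPR' (hYone (hR'Y hv) h1) hv)
    obtain ⟨d, hd, hde⟩ := h.hDtrans _ (g.cc_mem h (hYN (hR'Y hx))) (hne hx hxR) _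
      (g.cc_mem h (hYN (hR'Y hz))) (hne hz hzR)
    obtain ⟨w, hw, hwu⟩ := hWtr d hd
    refine ⟨w, hw, (w * x * w⁻¹)⁻¹ * z, ?_, by group⟩
    have hwx := hR'W hw hx
    have hwt := mem_centralizer_singleton_iff.1 hw.1.1
    have hwN : w ∈ N :=
      g.comm_mem_N h hwt fun r hr => (mem_normalizer_iff.1 hw.1.2 r).1 hr
    have hwt' : w⁻¹ * t = t * w⁻¹ := (Commute.inv_left (show Commute w t from hwt)).eq
    have hcc : Good.cc j t (w * x * w⁻¹) = Good.cc j t z := by
      rw [g.cc_mul h (mul_mem hwN (hYN (hR'Y hx))) (inv_mem hwN),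
        g.cc_mul h hwN (hYN (hR'Y hx)), Good.cc_of_comm h hwt, Good.cc_of_comm h hwt',
        hwu _ (g.cc_mem h (hYN (hR'Y hx))), hde]
      group
    refine hPR' (hYone (hR'Y (mul_mem (inv_mem hwx) hz)) ?_) (mul_mem (inv_mem hwx) hz)
    have h1 : Good.cc j t (w * x * w⁻¹ * ((w * x * w⁻¹)⁻¹ * z)) =
        Good.cc j t (w * x * w⁻¹) * Good.cc j t ((w * x * w⁻¹)⁻¹ * z) :=
      hccK (hYK (hR'Y hwx)) (hYN (hR'Y (mul_mem (inv_mem hwx) hz)))
    rw [mul_inv_cancel_left, hcc] at h1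
    exact mul_eq_left.1 h1.symm
  -- `R'` contains no conjugate of `t`
  have hXR' : ∀ r ∈ R', ¬ IsConj t r := by
    intro x hx hX
    have hxR : x ∉ R := fun h' => g.hXR x h' hX
    have hall : ∀ z ∈ R', z ∉ R → IsConj t z := by
      intro z hz hzR
      obtain ⟨w, hw, a, ha, rfl⟩ := hcoset hx hxR hz hzR
      have h1 : IsConj t (w * x * w⁻¹) := (isConj_conj_iff w).2 hX
      exact hfill (hR'Y (hR'W hw hx)) h1 a ha
    have hinvR : ∀ z ∈ R', z ∉ R → ∀ a ∈ R, z * a * z = a⁻¹ := by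
      intro z hz hzR a ha
      have h1 := hsq1 (hfill (hR'Y hz) (hall z hz hzR) a ha)
      exact eq_inv_of_mul_eq_one_left (by rw [← h1]; group)
    -- a second coset
    obtain ⟨v, hv, hv1, hvx⟩ := h.exists_factor (g.cc_mem h (hYN (hR'Y hx)))
      (fun h1 => hxR (hPR' (hYone (hR'Y hx) h1) hx))
    obtain ⟨z, hzY, hze⟩ := hYsurj v hv
    obtain ⟨z', hz', hz'e⟩ : ∃ z' ∈ R', Good.cc j t z' = v := by
      by_cases hzR' : z ∈ R'
      · exact ⟨z, hzR', hze⟩
      · refine ⟨t * z, houtR' hzY hzR', ?_⟩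
        rw [hccK (hPK (g.t_mem_P h)) (hYN hzY), Good.cc_of_comm h rfl, one_mul, hze]
    have hz'R : z' ∉ R := fun h' => hv1 (hz'e ▸ g.cc_of_R h h')
    have hxz : x * z' ∉ R := by
      intro h'
      have h1 : Good.cc j t (x * z') = 1 := g.cc_of_R h h'
      rw [hccK (hYK (hR'Y hx)) (hYN (hR'Y hz')), hz'e] at h1
      exact hvx (by
        rw [← inv_of_sq (h.hexp v (h.hUT hv))]
        exact (eq_inv_of_mul_eq_one_left h1).symm)
    have hexp2 : ∀ a ∈ R, a * a = 1 := by
      intro a ha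
      have h1 := hinvR x hx hxR a ha
      have h2 := hinvR z' hz' hz'R a⁻¹ (R.inv_mem ha)
      have h3 := hinvR _ (mul_mem hx hz') hxz a ha
      have hx2 := hsq1 (hall x hx hxR)
      have hz2 := hsq1 (hall z' hz' hz'R)
      have hxz2 := hsq1 (hall _ (mul_mem hx hz') hxz)
      have hcom : x * z' = z' * x := by
        have := inv_of_sq hxz2
        rwa [mul_inv_rev, inv_of_sq hx2, inv_of_sq hz2, eq_comm] at this
      have h4 : x * z' * a * (x * z') = a := by
        calc x * z' * a * (x * z') = z' * (x * a * x) * z' := by rw [hcom]; nth_rw 2 [← hcom]; group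
          _ = z' * a⁻¹ * z' := by rw [h1]
          _ = a := by rw [h2, inv_inv]
      rw [h3] at h4
      calc a * a = a⁻¹ * a := by rw [h4]
        _ = 1 := inv_mul_cancel a
    have hexp' : ∀ z ∈ R', z * z = 1 := fun z hz => by
      by_cases hzR : z ∈ R
      · exact hexp2 z hzR
      · exact hsq1 (hall z hz hzR)
    have hle : R' ≤ centralizer ({x} : Set G) := fun z hz => by
      refine mem_centralizer_singleton_iff.2 ?_
      have := inv_of_sq (hexp' _ (mul_mem hz hx))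
      rw [mul_inv_rev, inv_of_sq (hexp' _ hz), inv_of_sq (hexp' _ hx)] at this
      exact this.symm
    have h1 := hB.card_le hX (hY2.to_le hR'Y) hle
    rw [hcardR', h.cardT] at h1
    have h2 : Nat.card U ≤ Nat.card R := Subgroup.card_le_of_le g.hUR
    have := h.hU4
    nlinarith
  by_cases hnew : ∃ x ∈ Y, x ∉ P ∧ IsConj t x
  · -- a larger good subgroup
    obtain ⟨x, hxY, hxP, hX⟩ := hnew
    have hxR' : x ∉ R' := fun h' => hXR' x h' hX
    have htx : t * x ∈ R' := houtR' hxY hxR'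
    have htxR : t * x ∉ R := fun h' => hxP (Or.inr h')
    have hXall : ∀ r ∈ R', IsConj t (t * r) := by
      intro r hr
      by_cases hrR : r ∈ R
      · exact g.hX r hrR
      obtain ⟨w, hw, a, ha, rfl⟩ := hcoset htx htxR hr hrR
      have h1 : IsConj t (w * x * w⁻¹) := (isConj_conj_iff w).2 hX
      have h2 : t * (w * (t * x) * w⁻¹ * a) = w * x * w⁻¹ * a := by
        calc t * (w * (t * x) * w⁻¹ * a) = t * (w * t) * (x * w⁻¹ * a) := by group
          _ = t * (t * w) * (x * w⁻¹ * a) := by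
            rw [mem_centralizer_singleton_iff.1 hw.1.1]
          _ = t * t * (w * x * w⁻¹ * a) := by group
          _ = _ := by rw [hB.tt, one_mul]
      rw [h2]
      exact hfill ((mem_normalizer_iff.1 hw.2 x).1 hxY) h1 a ha
    have hinv' : ∀ r ∈ R', t * r * t = r⁻¹ := fun r hr =>
      eq_inv_of_mul_eq_one_left (by rw [← hsq1 (hXall r hr)]; group)
    have hcomm' : ∀ a ∈ R', ∀ b ∈ R', a * b = b * a := by
      intro a ha b hb
      have h1 := hinv' _ (mul_mem ha hb)
      have h2 : t * (a * b) * t = t * a * t * (t * b * t) := by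
        calc t * (a * b) * t = t * a * (1 * b * t) := by group
          _ = _ := by rw [← hB.tt]; group
      rw [h2, hinv' a ha, hinv' b hb, ← mul_inv_rev] at h1
      exact (inv_injective h1).symm
    have hΩ' : ∀ r ∈ R', r * r = 1 → r ∈ U := by
      intro r hr hr2
      have h1 := hinv' r hr
      rw [inv_of_sq hr2] at h1
      have h2 : r * t = t * r := by
        calc r * t = t * t * r * t := by rw [hB.tt, one_mul]
          _ = t * (t * r * t) := by group
          _ = t * r := by rw [h1]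
      exact g.centR h (hPR' (g.T_le_P h (hB.sylow_eq hY2 hTY (hR'Y hr) h2)) hr) h2
    let sq : R' →* R :=
      { toFun := fun r => ⟨(r : G) * r, hsq _ (hR'Y r.2)⟩
        map_one' := Subtype.ext (one_mul 1)
        map_mul' := fun a b => Subtype.ext (by
          simp only [Subgroup.coe_mul]
          calc (a : G) * b * ((a : G) * b) = a * (b * a) * b := by group
            _ = a * (a * b) * b := by rw [hcomm' _ b.2 _ a.2]
            _ = _ := by group) }
    have hsqsurj : Function.Surjective sq := by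
      have hk : Nat.card sq.ker ≤ Nat.card U :=
        Nat.card_le_card_of_injective (fun r => (⟨(r.1 : G),
          hΩ' _ r.1.2 (congrArg Subtype.val r.2)⟩ : U)) (fun a b hab => Subtype.ext (Subtype.ext
            (by simpa using congrArg Subtype.val hab)))
      have h1 := Subgroup.index_mul_card sq.ker
      rw [Subgroup.index_ker, hcardR'] at h1
      have hr : sq.range = ⊤ := by
        refine Subgroup.eq_top_of_le_card _ ?_
        have := h.hU4
        nlinarith
      exact MonoidHom.range_eq_top.1 hr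
    have hsquares : ∀ r ∈ R, ∃ s ∈ R', s * s = r := fun r hr => by
      obtain ⟨⟨s, hs⟩, he⟩ := hsqsurj ⟨r, hr⟩
      exact ⟨s, hs, congrArg Subtype.val he⟩
    refine ⟨R', ⟨hcomm', g.hUR.trans hRR', hinv', hXall, hXR', hΩ', ?_, ?_, ?_, ?_⟩, ?_⟩
    · intro r hr
      rw [pow_succ', pow_mul, pow_two]
      exact g.hpow _ (hsq r (hR'Y hr))
    · intro u hu
      obtain ⟨r, hr, he⟩ := g.hsurj u hu
      obtain ⟨s, hs, hse⟩ := hsquares r hr
      exact ⟨s, hs, by rw [pow_succ', pow_mul, pow_two, hse, he]⟩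
    · intro r hr hr1
      rw [pow_succ', pow_mul, pow_two] at hr1
      obtain ⟨b, hb, hbe⟩ := g.hker _ (hsq r (hR'Y hr)) hr1
      obtain ⟨b', hb', hb'e⟩ := hsquares b hb
      have hu : r * b⁻¹ ∈ U := by
        refine hΩ' _ (mul_mem hr (inv_mem (hRR' hb))) ?_
        have hc : Commute r b⁻¹ := hcomm' r hr _ (inv_mem (hRR' hb))
        calc r * b⁻¹ * (r * b⁻¹) = r * (b⁻¹ * r) * b⁻¹ := by group
          _ = r * r * (b⁻¹ * b⁻¹) := by rw [← hc.eq]; group
          _ = 1 := by rw [← hbe]; group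
      obtain ⟨c, hc, hce⟩ := hsquares _ (g.hUR hu)
      refine ⟨c * b', mul_mem hc hb', ?_⟩
      calc c * b' * (c * b') = c * (b' * c) * b' := by group
        _ = c * (c * b') * b' := by rw [hcomm' b' hb' c hc]
        _ = c * c * (b' * b') := by group
        _ = r := by rw [hce, hb'e]; group
    · intro d hd
      obtain ⟨w, hw, hwu⟩ := hWtr d hd
      exact ⟨w, mem_centralizer_singleton_iff.1 hw.1.1, fun r hr => hR'W hw hr, hwu⟩
    · rw [hcardR']
      have := h.hU4
      have : 0 < Nat.card R := Nat.card_pos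
      nlinarith
  -- `Y` is a Sylow subgroup
  exfalso
  push_neg at hnew
  obtain ⟨S, hYS⟩ := hY2.exists_le_sylow
  have hS2 : IsPGroup 2 (S : Subgroup G) := S.2
  have hTS : T ≤ (S : Subgroup G) := hTY.trans hYS
  have hSY : Y = (S : Subgroup G) := by
    by_contra hne
    obtain ⟨x, hxS, hxY, hx⟩ := exists_normalizing hS2 hYS hne
    have hmem := hx t (hTY hB.htT)
    have hX : IsConj t (x * t * x⁻¹) := (isConj_conj_iff x).2 (IsConj.refl t)
    have hP : x * t * x⁻¹ ∈ P := by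
      by_contra h'
      exact hnew _ hmem h' hX
    have hnR : x * t * x⁻¹ ∉ R := fun h' => g.hXR _ h' hX
    obtain ⟨r, hr, he⟩ := g.out_P h hP hnR
    obtain ⟨y, hy, hye⟩ := hYsurj _ (g.hpow r hr)
    have hyt := g.N_t h (hYN hy)
    have hk : (t * (y * t * y⁻¹) * r⁻¹) ^ 2 ^ j = 1 := by
      have hc : Commute (t * (y * t * y⁻¹)) r⁻¹ := g.hcomm _ hyt _ (R.inv_mem hr)
      rw [hc.mul_pow, inv_pow]
      exact mul_inv_eq_one.2 hye
    obtain ⟨s, hs, hse⟩ := g.hker _ (R.mul_mem hyt (R.inv_mem hr)) hk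
    have h1 : x * t * x⁻¹ = s * (y * t * y⁻¹) * s⁻¹ := by
      have e : y * t * y⁻¹ = t * (s * s * r) := by
        calc y * t * y⁻¹ = t * t * (y * t * y⁻¹) := by rw [hB.tt, one_mul]
          _ = t * (t * (y * t * y⁻¹) * r⁻¹ * r) := by group
          _ = _ := by rw [hse]
      rw [e, he]
      have h2 : s * t = t * s⁻¹ := by
        calc s * t = t * t * s * t := by rw [hB.tt, one_mul]
          _ = t * (t * s * t) := by group
          _ = _ := by rw [g.hinv s hs]
      calc t * r = t * (s * r * s⁻¹) := by rw [g.hcomm s hs r hr]; group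
        _ = t * (s⁻¹ * (s * s * r) * s⁻¹) := by group
        _ = s * (t * (s * s * r)) * s⁻¹ := by rw [← mul_assoc s t, h2]; group
    have hcomm : (s * y)⁻¹ * x * t = t * ((s * y)⁻¹ * x) := by
      calc (s * y)⁻¹ * x * t = (s * y)⁻¹ * (x * t * x⁻¹) * x := by group
        _ = _ := by rw [h1]; group
    have hsy : s * y ∈ Y := mul_mem (hRY hs) hy
    have h3 := hB.sylow_eq hS2 hTS (mul_mem (inv_mem (hYS hsy)) hxS) hcomm
    refine hxY ?_
    rw [show x = s * y * ((s * y)⁻¹ * x) by group]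
    exact mul_mem hsy (hTY h3)
  let f : (S : Subgroup G) →* ℤˣ := χ.comp (Subgroup.inclusion hSY.ge)
  refine transfer_extremal hG S f hB.tt T hB.hT hB.htT (fun x hx => hB.comm hx) (-1) (by decide)
    fun x hx _ => ?_
  exact hunit (hSY ▸ hx) fun h' => hXR' _ h' (isConj_iff.2 ⟨x⁻¹, by rw [inv_inv]⟩)

/-- No good subgroup exists. -/
theorem good_false [Finite G] [IsSimpleGroup G] (hG : ¬ IsMulCommutative G) {t : G}
    {T U Dg : Subgroup G} (h : ESetup t T U Dg) {R : Subgroup G} {j : ℕ}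
    (g : Good t T U Dg R j) : False := by
  suffices ∀ n (R : Subgroup G) (j : ℕ), Nat.card G < n + Nat.card R →
      Good t T U Dg R j → False from this (Nat.card G + 1) R j (by omega) g
  intro n
  induction n with
  | zero =>
    intro R j hlt _
    have := Subgroup.card_le_card_group R
    omega
  | succ n ih =>
    intro R j hlt g
    obtain ⟨R', g', hlt'⟩ := good_step hG h g
    exact ih R' (j + 1) (by omega) g'

end CfsgLib.TimesPSL
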